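import Mathlib
import Cfsg.Agent.Lib.Transfer.Alperin

/-!
# Sylow 2-subgroups with abelian intersections: uniqueness, fusion and the focal subgroup

When two distinct Sylow 2-subgroups always meet in an abelian group, a non-abelian 2-subgroup lies in
only one Sylow subgroup, so fusion in `S` comes from `N(S)` and from the normalisers of the abelian
self-centralising subgroups `D` of `S` with `N(D)` not in `C(D) N(S)`.
-/

set_option autoImplicit false
set_option linter.unusedSectionVars false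
set_option linter.style.haveILetI false

namespace Cfsg.Agent.Fus.AbInt

open Subgroup

universe u

variable {G : Type u} [Group G]

/-- Any two distinct Sylow 2-subgroups meet in an abelian group. -/
def AbelianMeet (G : Type u) [Group G] : Prop :=
  ∀ S T : Sylow 2 G, S ≠ T → IsMulCommutative ↥((S : Subgroup G) ⊓ (T : Subgroup G))

/-- An abelian self-centralising subgroup of `S` whose normaliser is not in `C(D) N(S)`. -/
structure Ess (S : Sylow 2 G) (D : Subgroup G) : Prop where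
  le : D ≤ (S : Subgroup G)
  comm : ∀ x ∈ D, ∀ y ∈ D, x * y = y * x
  self : ∀ x ∈ (S : Subgroup G), (∀ d ∈ D, x * d = d * x) → x ∈ D
  out : ∃ n ∈ normalizer (D : Set G), ∀ c ∈ centralizer (D : Set G), c * n ∉ normalizer ((S : Subgroup G) : Set G)

variable {S : Sylow 2 G}

theorem eq_of_not_comm (hA : AbelianMeet G) {S T : Sylow 2 G} {a b : G} (haS : a ∈ (S : Subgroup G))
    (hbS : b ∈ (S : Subgroup G)) (haT : a ∈ (T : Subgroup G)) (hbT : b ∈ (T : Subgroup G)) (hab : a * b ≠ b * a) :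
    S = T := by
  by_contra h
  exact hab (congrArg Subtype.val ((hA S T h).is_comm.comm ⟨a, haS, haT⟩ ⟨b, hbS, hbT⟩))

theorem mem_normalizer_of_not_comm [Finite G] (hA : AbelianMeet G) {a b n : G} (ha : a ∈ (S : Subgroup G))
    (hb : b ∈ (S : Subgroup G)) (hab : a * b ≠ b * a) (hna : n * a * n⁻¹ ∈ (S : Subgroup G))
    (hnb : n * b * n⁻¹ ∈ (S : Subgroup G)) : n ∈ normalizer ((S : Subgroup G) : Set G) := by
  have h : ∀ x ∈ (S : Subgroup G), n * x * n⁻¹ ∈ ((n • S : Sylow 2 G) : Subgroup G) := fun x hx => by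
    rw [Transfer.mem_smul_sylow]
    simpa [mul_assoc] using hx
  exact Sylow.smul_eq_iff_mem_normalizer.1 (eq_of_not_comm hA (h a ha) (h b hb) hna hnb fun e => hab (by
    have h' : n * (a * b) * n⁻¹ = n * (b * a) * n⁻¹ := by
      calc n * (a * b) * n⁻¹ = n * a * n⁻¹ * (n * b * n⁻¹) := by group
        _ = n * b * n⁻¹ * (n * a * n⁻¹) := e
        _ = n * (b * a) * n⁻¹ := by group
    exact mul_left_cancel (mul_right_cancel h')))

/-- A 2-subgroup of `N` is conjugate in `N` into a subgroup of `N` of odd index. -/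
theorem exists_conj_mem [Finite G] {H N U : Subgroup G} (hH : IsPGroup 2 H) (hHN : H ≤ N) (hodd : ¬ 2 ∣ H.relIndex N)
    (hU : IsPGroup 2 U) (hUN : U ≤ N) : ∃ m ∈ N, ∀ u ∈ U, m * u * m⁻¹ ∈ H := by
  haveI : Fact (Nat.Prime 2) := ⟨Nat.prime_two⟩
  let P : Sylow 2 ↥N := (hH.comap_of_injective N.subtype N.subtype_injective : IsPGroup 2 (H.subgroupOf N)).toSylow hodd
  obtain ⟨Q, hQ⟩ := (hU.comap_of_injective N.subtype N.subtype_injective : IsPGroup 2 (U.subgroupOf N)).exists_le_sylow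
  obtain ⟨m, hm⟩ := MulAction.exists_smul_eq ↥N Q P
  refine ⟨m, m.2, fun u hu => ?_⟩
  have h1 : m * (⟨u, hUN hu⟩ : ↥N) * m⁻¹ ∈ ((m • Q : Sylow 2 ↥N) : Subgroup ↥N) := by
    rw [Transfer.mem_smul_sylow]
    simpa [mul_assoc] using hQ (show (⟨u, hUN hu⟩ : ↥N) ∈ U.subgroupOf N from hu)
  rw [hm] at h1
  exact h1

variable [Finite G]

namespace Ess

variable {D : Subgroup G} (hD : Ess S D)
include hD

theorem lt : D < (S : Subgroup G) := by
  refine lt_of_le_of_ne hD.le fun e => ?_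
  obtain ⟨n, hn, h⟩ := hD.out
  exact h 1 (one_mem _) (by rw [one_mul]; exact e ▸ hn)

theorem exists_normalizing : ∃ x ∈ (S : Subgroup G) ⊓ normalizer (D : Set G), x ∉ D := by
  haveI : Fact (Nat.Prime 2) := ⟨Nat.prime_two⟩
  exact SetLike.exists_of_lt (Transfer.lt_inf_normalizer S hD.lt) |>.imp fun x h => ⟨h.1, h.2⟩

theorem exists_not_comm {x : G} (hx : x ∈ (S : Subgroup G)) (hxD : x ∉ D) : ∃ d ∈ D, x * d ≠ d * x := by
  by_contra h
  push Not at h
  exact hxD (hD.self x hx h)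

variable (hA : AbelianMeet G)
include hA

/-- An element of `N(D)` moving a point of `N_S(D)` outside `D` into `S` normalises `S`. -/
theorem mem_normalizer {x n : G} (hn : n ∈ normalizer (D : Set G)) (hx : x ∈ (S : Subgroup G)) (hxD : x ∉ D)
    (hnx : n * x * n⁻¹ ∈ (S : Subgroup G)) : n ∈ normalizer ((S : Subgroup G) : Set G) := by
  obtain ⟨d, hd, hxd⟩ := hD.exists_not_comm hx hxD
  exact mem_normalizer_of_not_comm hA hx (hD.le hd) hxd hnx (hD.le ((mem_normalizer_iff.1 hn d).1 hd))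

/-- A 2-subgroup of `N(D)` containing `N_S(D)` lies in `S`. -/
theorem le_sylow {T : Subgroup G} (hT : IsPGroup 2 T) (hTN : T ≤ normalizer (D : Set G))
    (hRT : (S : Subgroup G) ⊓ normalizer (D : Set G) ≤ T) : T ≤ (S : Subgroup G) ⊓ normalizer (D : Set G) := by
  obtain ⟨Q, hQ⟩ := hT.exists_le_sylow
  obtain ⟨x, hx, hxD⟩ := hD.exists_normalizing
  obtain ⟨d, hd, hxd⟩ := hD.exists_not_comm hx.1 hxD
  have hdR : d ∈ (S : Subgroup G) ⊓ normalizer (D : Set G) := ⟨hD.le hd, le_normalizer hd⟩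
  obtain rfl := eq_of_not_comm hA (hQ (hRT hx)) (hQ (hRT hdR)) hx.1 hdR.1 hxd
  exact le_inf hQ hTN

/-- `N_S(D)` has odd index in `N(D)`. -/
theorem not_two_dvd : ¬ 2 ∣ ((S : Subgroup G) ⊓ normalizer (D : Set G)).relIndex (normalizer (D : Set G)) := by
  haveI : Fact (Nat.Prime 2) := ⟨Nat.prime_two⟩
  obtain ⟨R, hR⟩ : ∃ R, R = (S : Subgroup G) ⊓ normalizer (D : Set G) := ⟨_, rfl⟩
  obtain ⟨N, hN⟩ : ∃ N : Subgroup G, N = normalizer (D : Set G) := ⟨_, rfl⟩
  rw [← hR, ← hN]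
  have hRp : IsPGroup 2 R := S.isPGroup'.to_le (hR ▸ inf_le_left)
  obtain ⟨P, hP⟩ := (hRp.comap_of_injective N.subtype N.subtype_injective : IsPGroup 2 (R.subgroupOf N)).exists_le_sylow
  have h1 : (P : Subgroup ↥N).map N.subtype ≤ R := by
    rw [hR]
    refine hD.le_sylow hA (P.isPGroup'.map N.subtype) (hN ▸ map_subtype_le _) fun x hx => ?_
    exact ⟨⟨x, hN ▸ hx.2⟩, hP (mem_subgroupOf.2 (hR ▸ hx)), rfl⟩
  have h2 : R.subgroupOf N = P := le_antisymm hP fun x hx => h1 ⟨x, hx, rfl⟩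
  rw [relIndex, h2]
  exact P.not_dvd_index

/-- A 2-element normalising `D` and `N_S(D)` lies in `N_S(D)`. -/
theorem two_mem {x : G} (hx : IsPGroup 2 (zpowers x)) (hxD : x ∈ normalizer (D : Set G))
    (hxR : x ∈ normalizer (((S : Subgroup G) ⊓ normalizer (D : Set G) : Subgroup G) : Set G)) :
    x ∈ (S : Subgroup G) ⊓ normalizer (D : Set G) :=
  hD.le_sylow hA ((S.isPGroup'.to_le inf_le_left).to_sup_of_normal_left' hx (zpowers_le.2 hxR))
    (sup_le inf_le_right (zpowers_le.2 hxD)) le_sup_left (mem_sup_right (mem_zpowers x))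

end Ess

/-- Fusion in `S`. -/
theorem fusion (hA : AbelianMeet G) (S : Sylow 2 G) (r : G → G → Prop) (hrefl : ∀ a, r a a)
    (htrans : ∀ a b c, r a b → r b c → r a c)
    (hS : ∀ n ∈ normalizer ((S : Subgroup G) : Set G), ∀ a ∈ (S : Subgroup G), r a (n * a * n⁻¹))
    (hE : ∀ D, Ess S D → ∀ n ∈ normalizer (D : Set G), ∀ a ∈ D, r a (n * a * n⁻¹)) :
    ∀ a ∈ (S : Subgroup G), ∀ g : G, g * a * g⁻¹ ∈ (S : Subgroup G) → r a (g * a * g⁻¹) := by
  haveI : Fact (Nat.Prime 2) := ⟨Nat.prime_two⟩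
  suffices key : ∀ (A : Set G) (g : G), Transfer.AlperinChain S A g → ∀ a ∈ A, r a (g⁻¹ * a * g) by
    intro a ha g hg
    have hc := Transfer.alperin S {a} g⁻¹ (Set.singleton_subset_iff.2 ha)
      (by rintro _ ⟨b, rfl, rfl⟩; rw [inv_inv]; exact hg)
    simpa using key _ _ hc a rfl
  intro A g hc
  induction hc with
  | nil A => intro a _; simpa using hrefl a
  | @cons A Q x y hT hsub _ ih =>
    intro a ha
    refine htrans _ (x⁻¹ * a * x) _ ?_ (by simpa [mul_assoc] using ih _ ⟨a, ha, rfl⟩)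
    obtain ⟨hx, hP, -⟩ := hT
    have haD := hsub ha
    rcases eq_or_ne S Q with rfl | hne
    · rw [inf_idem] at hx
      simpa using hS x⁻¹ (inv_mem hx) a haD.1
    obtain ⟨D, hDdef⟩ : ∃ D : Subgroup G, D = (S : Subgroup G) ⊓ (Q : Subgroup G) := ⟨_, rfl⟩
    rw [← hDdef] at hx hP haD
    have hDS : D ≤ (S : Subgroup G) := hDdef ▸ inf_le_left
    have hDab : ∀ u ∈ D, ∀ v ∈ D, u * v = v * u := fun u hu v hv => by
      rw [hDdef] at hu hv
      exact congrArg Subtype.val ((hA S Q hne).is_comm.comm ⟨u, hu⟩ ⟨v, hv⟩)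
    obtain ⟨T, hTdef⟩ : ∃ T : Subgroup G, T = (S : Subgroup G) ⊓ centralizer (D : Set G) := ⟨_, rfl⟩
    obtain ⟨N, hN⟩ : ∃ N : Subgroup G, N = normalizer (D : Set G) := ⟨_, rfl⟩
    rw [← hN] at hx hP
    have hCN : centralizer (D : Set G) ≤ N := hN ▸ centralizer_le_normalizer _
    have hconjC : ∀ k ∈ N, ∀ t ∈ centralizer (D : Set G), k * t * k⁻¹ ∈ centralizer (D : Set G) := by
      intro k hk t ht
      rw [mem_centralizer_iff]
      intro d hd
      have hd' : k⁻¹ * d * k ∈ D := by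
        simpa using (mem_normalizer_iff.1 (hN ▸ inv_mem hk : k⁻¹ ∈ normalizer (D : Set G)) d).1 hd
      calc d * (k * t * k⁻¹) = k * ((k⁻¹ * d * k) * t) * k⁻¹ := by group
        _ = k * (t * (k⁻¹ * d * k)) * k⁻¹ := by rw [mem_centralizer_iff.1 ht _ hd']
        _ = _ := by group
    have hTodd : ¬ 2 ∣ T.relIndex (centralizer (D : Set G)) := by
      obtain ⟨C, hC⟩ : ∃ C : Subgroup G, C = centralizer (D : Set G) := ⟨_, rfl⟩
      rw [← hC] at hTdef hCN hconjC ⊢
      have hTp : IsPGroup 2 T := S.isPGroup'.to_le (hTdef ▸ inf_le_left)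
      obtain ⟨P, hPle⟩ := (hTp.comap_of_injective C.subtype C.subtype_injective : IsPGroup 2 (T.subgroupOf C)).exists_le_sylow
      obtain ⟨m, hm, hmU⟩ := exists_conj_mem (S.isPGroup'.to_le (inf_le_left (b := N))) inf_le_right hP
        (P.isPGroup'.map C.subtype) ((map_subtype_le _).trans hCN)
      have hcard : Nat.card ((P : Subgroup ↥C).map C.subtype) ≤ Nat.card T :=
        Nat.card_le_card_of_injective
          (fun u => (⟨m * u * m⁻¹, hTdef ▸ ⟨(hmU u u.2).1, hconjC m hm u (map_subtype_le _ u.2)⟩⟩ : T))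
          fun u v huv => Subtype.ext (mul_left_cancel (mul_right_cancel (congrArg Subtype.val huv)))
      rw [card_map_of_injective C.subtype_injective] at hcard
      have h3 : T.subgroupOf C = P := eq_of_le_of_card_ge hPle (hcard.trans
        (Nat.card_congr (subgroupOfEquivOfLe (hTdef ▸ inf_le_right : T ≤ C)).toEquiv).ge)
      rw [relIndex, h3]
      exact P.not_dvd_index
    obtain ⟨c, hc, hcT⟩ := exists_conj_mem (S.isPGroup'.to_le (hTdef ▸ inf_le_left : T ≤ (S : Subgroup G)))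
      (hTdef ▸ inf_le_right) hTodd
      ((S.isPGroup'.to_le (hTdef ▸ inf_le_left : T ≤ (S : Subgroup G))).map (MulAut.conj x⁻¹).toMonoidHom)
      (by
        rintro _ ⟨t, ht, rfl⟩
        exact hconjC x⁻¹ (inv_mem hx) t ((hTdef.le ht).2))
    have hn : c * x⁻¹ ∈ normalizer (T : Set G) := by
      refine mem_normalizer_fintype fun t ht => ?_
      have := hcT (x⁻¹ * t * x⁻¹⁻¹) ⟨t, ht, rfl⟩
      simpa [mul_assoc] using this
    have hax : x⁻¹ * a * x ∈ D := by
      simpa using (mem_normalizer_iff.1 (hN ▸ inv_mem hx : x⁻¹ ∈ normalizer (D : Set G)) a).1 haD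
    have hDT : D ≤ T := hTdef ▸ fun d hd =>
      ⟨hDS hd, mem_centralizer_iff.2 fun e he => hDab e he d hd⟩
    have hval : c * x⁻¹ * a * (c * x⁻¹)⁻¹ = x⁻¹ * a * x := by
      rw [show c * x⁻¹ * a * (c * x⁻¹)⁻¹ = c * (x⁻¹ * a * x) * c⁻¹ by group,
        ← mem_centralizer_iff.1 hc _ hax, mul_inv_cancel_right]
    by_cases hTab : ∀ u ∈ T, ∀ v ∈ T, u * v = v * u
    swap
    · push Not at hTab
      obtain ⟨u, hu, v, hv, huv⟩ := hTab
      rw [← hval]
      exact hS _ (mem_normalizer_of_not_comm hA (hTdef.le hu).1 (hTdef.le hv).1 huv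
        (hTdef.le ((mem_normalizer_iff.1 hn u).1 hu)).1 (hTdef.le ((mem_normalizer_iff.1 hn v).1 hv)).1) a (hDS haD)
    by_cases hcase : ∃ k ∈ centralizer (T : Set G), k * (c * x⁻¹) ∈ normalizer ((S : Subgroup G) : Set G)
    · obtain ⟨k, hk, hkn⟩ := hcase
      have h1 : k * (c * x⁻¹) * a * (k * (c * x⁻¹))⁻¹ = x⁻¹ * a * x := by
        rw [show k * (c * x⁻¹) * a * (k * (c * x⁻¹))⁻¹ = k * (c * x⁻¹ * a * (c * x⁻¹)⁻¹) * k⁻¹ by group, hval,
          ← mem_centralizer_iff.1 hk _ (hDT hax), mul_inv_cancel_right]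
      exact h1 ▸ hS _ hkn a (hDS haD)
    push Not at hcase
    have hT : Ess S T := ⟨hTdef ▸ inf_le_left, hTab, fun u hu huT => hTdef ▸ ⟨hu, mem_centralizer_iff.2 fun d hd =>
      (huT d (hDT hd)).symm⟩, ⟨_, hn, hcase⟩⟩
    exact hval ▸ hE T hT _ hn a (hDT haD)

/-- In a perfect group the focal subgroup is the whole Sylow subgroup. -/
theorem sylow_le_of_fusion (hperf : commutator G = ⊤) (S : Sylow 2 G) (M : Subgroup G)
    (h : ∀ a ∈ (S : Subgroup G), ∀ g : G, g * a * g⁻¹ ∈ (S : Subgroup G) → g * a * g⁻¹ * a⁻¹ ∈ M) :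
    (S : Subgroup G) ≤ M := by
  haveI : Fact (Nat.Prime 2) := ⟨Nat.prime_two⟩
  have h1 := commutator_inf_eq_focalSubgroup S
  rw [hperf, top_inf_eq] at h1
  refine h1.le.trans ?_
  rw [focalSubgroup_def, closure_le]
  rintro _ ⟨hmem, x, hx, w, rfl⟩
  have ha : w * x * w⁻¹ ∈ (S : Subgroup G) := by
    have := mul_mem ((S : Subgroup G).inv_mem hmem) hx
    simpa [commutatorElement_def, mul_assoc] using this
  have := h _ ha w⁻¹ (by simpa [mul_assoc] using hx)
  simpa [commutatorElement_def, mul_assoc] using this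

end Cfsg.Agent.Fus.AbInt
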