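import Cfsg.Agent.Lib.Fus.AbInt.Nonnormal

/-!
# A non-normal essential subgroup with `q ≥ 4`: every essential subgroup lies in the base, so `G` is not perfect
-/

set_option autoImplicit false
set_option linter.unusedSectionVars false
set_option linter.style.haveILetI false

open scoped commutatorElement

namespace Cfsg.Agent.Fus.AbInt

open Subgroup

universe u

variable {G : Type u} [Group G] {S : Sylow 2 G}

variable [Finite G]

theorem card_le_two_mul {A B : Subgroup G} (a : G) (h : ∀ x ∈ A, x ∈ B ∨ x * a ∈ B) :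
    Nat.card A ≤ 2 * Nat.card B := by
  classical
  let f : ↥A → ↥B ⊕ ↥B := fun x =>
    if hx : (x : G) ∈ B then Sum.inl ⟨x, hx⟩ else Sum.inr ⟨x * a, (h x x.2).resolve_left hx⟩
  have hf : Function.Injective f := by
    intro x y he
    simp only [f] at he
    split_ifs at he
    · exact Subtype.ext (Subtype.mk.inj (Sum.inl.inj he))
    · exact Subtype.ext (mul_right_cancel (Subtype.mk.inj (Sum.inr.inj he)))
  refine (Nat.card_le_card_of_injective f hf).trans ?_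
  rw [Nat.card_sum, two_mul]

theorem mul_mem_of_card_two {A B : Subgroup G} (hle : A ≤ B) (hc : Nat.card B = 2 * Nat.card A) {x y : G}
    (hx : x ∈ B) (hxA : x ∉ A) (hy : y ∈ B) (hyA : y ∉ A) : x * y ∈ A := by
  have h2 : (A.subgroupOf B).index = 2 := by
    have h := Grp.card_mul_relIndex hle
    rw [hc, mul_comm 2] at h
    exact Nat.eq_of_mul_eq_mul_left Nat.card_pos h
  have h3 := (Subgroup.mul_mem_iff_of_index_two h2 (a := (⟨x, hx⟩ : ↥B)) (b := ⟨y, hy⟩)).2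
    ⟨fun h => absurd h hxA, fun h => absurd h hyA⟩
  exact h3

namespace Swap

variable {D : Subgroup G} {q : ℕ} {g : G} (h : Swap S D q g)
include h

theorem two_le : 2 ≤ q := h.pair.q_two

theorem exists_off : ∃ d ∈ D, d ∉ cj D g := by
  by_contra hc
  push Not at hc
  have h1 := h.pair.card_D
  rw [inf_eq_left.2 (show D ≤ cj D g from hc)] at h1
  have h2 : 2 * Nat.card D ≤ q * Nat.card D := Nat.mul_le_mul_right _ h.two_le
  have h3 : 0 < Nat.card D := Nat.card_pos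
  omega

theorem mid_le {z : G} (hz : z ∈ D ⊓ cj D g) : z ∈ nsyl S D := h.left_le (mem_inf.1 hz).1

theorem comm_inv {r d : G} (hr : r ∈ nsyl S D) (hd : d ∈ D) : ⁅d, r⁆ = ⁅r, d⁆ := by
  rw [← commutatorElement_inv]
  exact inv_eq_of_mul_eq_one_right (h.pair.comm_sq r hr d hd)

theorem comm_mul_left {a b d : G} (ha : a ∈ nsyl S D) (hb : b ∈ nsyl S D) (hd : d ∈ D) :
    ⁅a * b, d⁆ = ⁅a, d⁆ * ⁅b, d⁆ := by
  have h1 := h.pair.comm_mem b hb d hd
  calc ⁅a * b, d⁆ = (a * ⁅b, d⁆) * a⁻¹ * ⁅a, d⁆ := by simp only [commutatorElement_def]; group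
    _ = ⁅b, d⁆ * a * a⁻¹ * ⁅a, d⁆ := by rw [h.pair.zcomm _ h1 a ha]
    _ = ⁅b, d⁆ * ⁅a, d⁆ := by rw [mul_inv_cancel_right]
    _ = _ := h.pair.hD.comm _ (mem_inf.1 h1).1 _ (mem_inf.1 (h.pair.comm_mem a ha d hd)).1

theorem sq_conj {d : G} (hd : d ∈ D) : g * (g * d * g⁻¹) * g⁻¹ = ⁅g * g, d⁆ * d := by
  rw [commutatorElement_def]; group

/-- `⁅gdg⁻¹, d⁆` is fixed by `g`. -/
theorem fixed_comm {d : G} (hd : d ∈ D) : g * ⁅g * d * g⁻¹, d⁆ * g⁻¹ = ⁅g * d * g⁻¹, d⁆ := by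
  have he : g * d * g⁻¹ ∈ nsyl S D := h.right_le (h.conj_left hd)
  have hz := h.pair.comm_mem (g * g) h.sq_mem d hd
  have hsq := h.sq_conj hd
  calc g * ⁅g * d * g⁻¹, d⁆ * g⁻¹ = ⁅g * (g * d * g⁻¹) * g⁻¹, g * d * g⁻¹⁆ := by
        simp only [commutatorElement_def]; group
    _ = ⁅⁅g * g, d⁆ * d, g * d * g⁻¹⁆ := by rw [hsq]
    _ = ⁅g * g, d⁆ * ⁅d, g * d * g⁻¹⁆ * ⁅g * g, d⁆⁻¹ * ⁅⁅g * g, d⁆, g * d * g⁻¹⁆ := by
        simp only [commutatorElement_def]; group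
    _ = ⁅d, g * d * g⁻¹⁆ := by
        rw [(commutatorElement_eq_one_iff_mul_comm (g₁ := ⁅g * g, d⁆) (g₂ := g * d * g⁻¹)).2 (h.pair.zcomm _ hz _ he).symm,
          h.comm_inv he hd, h.pair.hD.comm _ (mem_inf.1 hz).1 _ (mem_inf.1 (h.pair.comm_mem _ he d hd)).1,
          mul_inv_cancel_right, mul_one]
    _ = _ := h.comm_inv he hd

variable (hq : 4 ≤ q)
include hq

theorem exists_other {z : G} (hzf : z ∉ fix S D) :
    ∃ w ∈ D ⊓ cj D g, w ∉ fix S D ∧ z * w⁻¹ ∉ fix S D := by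
  by_contra hc
  push Not at hc
  have h1 : Nat.card ↥(D ⊓ cj D g) ≤ 2 * Nat.card (fix S D) := card_le_two_mul z⁻¹ fun w hw => by
    by_cases hwf : w ∈ fix S D
    · exact Or.inl hwf
    · right
      rw [show w * z⁻¹ = (z * w⁻¹)⁻¹ by group]
      exact inv_mem (hc w hw hwf)
  rw [h.pair.card_Z] at h1
  have h2 : 0 < Nat.card (fix S D) := Nat.card_pos
  have h3 : 4 * Nat.card (fix S D) ≤ q * Nat.card (fix S D) := Nat.mul_le_mul_right _ hq
  omega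

theorem fix_conj {z : G} (hz : z ∈ fix S D) : g * z * g⁻¹ ∈ fix S D := by
  by_contra hc
  have hzZ := h.pair.fix_le hz
  obtain ⟨w, hw, hwf, hne⟩ := h.exists_other hq hc
  obtain ⟨n, hn, -, hnfix, hnw⟩ := h.pair.trans _ (h.conj_mid hzZ) w hw hc hwf
  rw [← h.act_comm (mem_inf.1 hn).1 (mem_inf.1 hn).2 hzZ, hnfix z hz] at hnw
  exact hne hnw

/-- `g` acts trivially on `(D ∩ gDg⁻¹)/fix`. -/
theorem triv {w : G} (hw : w ∈ D ⊓ cj D g) : g * w * g⁻¹ * w⁻¹ ∈ fix S D := by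
  by_cases hwf : w ∈ fix S D
  · exact mul_mem (h.fix_conj hq hwf) (inv_mem hwf)
  obtain ⟨d, hd, hdE⟩ := h.exists_off
  have he : g * d * g⁻¹ ∈ nsyl S D := h.right_le (h.conj_left hd)
  obtain ⟨c, hc⟩ : ∃ c, c = ⁅g * d * g⁻¹, d⁆ := ⟨_, rfl⟩
  have hcZ : c ∈ D ⊓ cj D g := hc ▸ h.pair.comm_mem _ he d hd
  have hcg : g * c * g⁻¹ = c := hc ▸ h.fixed_comm hd
  have hcf : c ∉ fix S D := by
    rw [hc]
    refine h.pair.comm_not _ he (fun hD' => hdE ?_) d hd hdE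
    have := h.inv_conj_mid (mem_inf.2 ⟨hD', h.conj_left hd⟩)
    rw [show g⁻¹ * (g * d * g⁻¹) * g = d by group] at this
    exact (mem_inf.1 this).2
  obtain ⟨n, hn, -, -, hnw⟩ := h.pair.trans c hcZ w hw hcf hwf
  obtain ⟨a, ha⟩ : ∃ a, a = n * c * n⁻¹ := ⟨_, rfl⟩
  rw [← ha] at hnw
  have hag : g * a * g⁻¹ = a := by rw [ha, h.act_comm (mem_inf.1 hn).1 (mem_inf.1 hn).2 hcZ, hcg]
  have h1 : w * a⁻¹ ∈ fix S D := by simpa using inv_mem hnw
  rw [show g * w * g⁻¹ * w⁻¹ = g * (w * a⁻¹) * g⁻¹ * ((g * a * g⁻¹) * w⁻¹) by group, hag]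
  exact mul_mem (h.fix_conj hq h1) hnw

theorem cent_core {r : G} (hr : r ∈ nsyl S D) (hgr : g * r = r * g) :
    ∃ d ∈ D, ∃ w ∈ D ⊓ cj D g, r = d * (g * d * g⁻¹) * w ∧
      ⁅g * g, d⁆ * ⁅g * d * g⁻¹, d⁆ ∈ fix S D := by
  obtain ⟨d, hd, e, he, rfl⟩ := h.pair.gen r hr
  obtain ⟨d1, hd1, rfl⟩ := mem_cj he
  have hdR : g * d * g⁻¹ ∈ nsyl S D := h.right_le (h.conj_left hd)
  obtain ⟨z1, hz1⟩ : ∃ z1, z1 = ⁅g * g, d1⁆ := ⟨_, rfl⟩
  have hz1Z : z1 ∈ D ⊓ cj D g := hz1 ▸ h.pair.comm_mem _ h.sq_mem _ hd1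
  obtain ⟨c, hc⟩ : ∃ c, c = ⁅g * d * g⁻¹, d1⁆ := ⟨_, rfl⟩
  have hcZ : c ∈ D ⊓ cj D g := hc ▸ h.pair.comm_mem _ hdR _ hd1
  have hfix : g * (d * (g * d1 * g⁻¹)) * g⁻¹ = d * (g * d1 * g⁻¹) := by rw [hgr, mul_inv_cancel_right]
  have hswap : g * (d * (g * d1 * g⁻¹)) * g⁻¹ = z1 * c * (d1 * (g * d * g⁻¹)) := by
    calc g * (d * (g * d1 * g⁻¹)) * g⁻¹ = (g * d * g⁻¹) * z1 * d1 := by
          rw [hz1, commutatorElement_def]; group
      _ = z1 * ((g * d * g⁻¹) * d1) := by rw [h.pair.zcomm z1 hz1Z _ hdR, mul_assoc]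
      _ = _ := by rw [hc, commutatorElement_def]; group
  have hd1R : d1⁻¹ ∈ nsyl S D := inv_mem (h.left_le hd1)
  have hu : d1⁻¹ * d = z1 * c * (g * (d * d1⁻¹) * g⁻¹) := by
    have h1 : d * (g * d1 * g⁻¹) = z1 * c * (d1 * (g * d * g⁻¹)) := hfix.symm.trans hswap
    calc d1⁻¹ * d = d1⁻¹ * (d * (g * d1 * g⁻¹)) * (g * d1⁻¹ * g⁻¹) := by group
      _ = d1⁻¹ * (z1 * c) * d1 * (g * d * g⁻¹) * (g * d1⁻¹ * g⁻¹) := by rw [h1]; group
      _ = (z1 * c) * d1⁻¹ * d1 * (g * d * g⁻¹) * (g * d1⁻¹ * g⁻¹) := by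
          rw [h.pair.zcomm _ (mul_mem hz1Z hcZ) _ hd1R]
      _ = _ := by group
  have huZ : d1⁻¹ * d ∈ D ⊓ cj D g := mem_inf.2 ⟨mul_mem (inv_mem hd1) hd, hu ▸ mul_mem
    (mem_inf.1 (mul_mem hz1Z hcZ)).2 (h.conj_left (mul_mem hd (inv_mem hd1)))⟩
  obtain ⟨w, hw⟩ : ∃ w, w = g * (d1⁻¹ * d)⁻¹ * g⁻¹ := ⟨_, rfl⟩
  have hwZ : w ∈ D ⊓ cj D g := hw ▸ h.conj_mid (inv_mem huZ)
  have hr2 : d * (g * d1 * g⁻¹) = d * (g * d * g⁻¹) * w := by rw [hw]; group
  refine ⟨d, hd, w, hwZ, hr2, ?_⟩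
  obtain ⟨z, hz⟩ : ∃ z, z = ⁅g * g, d⁆ := ⟨_, rfl⟩
  have hzZ : z ∈ D ⊓ cj D g := hz ▸ h.pair.comm_mem _ h.sq_mem _ hd
  obtain ⟨k, hk⟩ : ∃ k, k = ⁅g * d * g⁻¹, d⁆ := ⟨_, rfl⟩
  have hkZ : k ∈ D ⊓ cj D g := hk ▸ h.pair.comm_mem _ hdR _ hd
  rw [← hz, ← hk]
  have h2 : d * (g * d * g⁻¹) * w = z * k * (d * (g * d * g⁻¹)) * (g * w * g⁻¹) := by
    calc d * (g * d * g⁻¹) * w = g * (d * (g * d * g⁻¹) * w) * g⁻¹ := by rw [← hr2, hfix]
      _ = (g * d * g⁻¹) * z * d * (g * w * g⁻¹) := by rw [hz, commutatorElement_def]; group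
      _ = z * ((g * d * g⁻¹) * d) * (g * w * g⁻¹) := by rw [h.pair.zcomm z hzZ _ hdR, mul_assoc z]
      _ = _ := by rw [hk, commutatorElement_def]; group
  have hrR : d * (g * d * g⁻¹) ∈ nsyl S D := mul_mem (h.left_le hd) hdR
  have h3 : z * k * (g * w * g⁻¹ * w⁻¹) = 1 := by
    rw [← h.pair.zcomm _ (mul_mem hzZ hkZ) _ hrR] at h2
    have h4 := mul_left_cancel (h2.trans (mul_assoc _ _ _))
    calc z * k * (g * w * g⁻¹ * w⁻¹) = z * k * (g * w * g⁻¹) * w⁻¹ := by rw [← mul_assoc]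
      _ = 1 := by rw [← h4, mul_inv_cancel]
  rw [eq_inv_of_mul_eq_one_left h3]
  exact inv_mem (h.triv hq hwZ)

/-- The centraliser of `g` in `N_S(D)` lies in `Z ∪ Z g⁻²`. -/
theorem cent {r : G} (hr : r ∈ nsyl S D) (hgr : g * r = r * g) :
    r ∈ D ⊓ cj D g ∨ r * (g * g) ∈ D ⊓ cj D g := by
  obtain ⟨d, hd, w, hw, hreq, hfix⟩ := h.cent_core hq hr hgr
  obtain ⟨d0, hd0, w0, hw0, hgeq, -⟩ := h.cent_core hq h.sq_mem (mul_assoc g g g).symm
  have he : g * d * g⁻¹ ∈ nsyl S D := h.right_le (h.conj_left hd)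
  have he0 : g * d0 * g⁻¹ ∈ nsyl S D := h.right_le (h.conj_left hd0)
  have hbil : ⁅g * g, d⁆ = ⁅g * d0 * g⁻¹, d⁆ := by
    rw [hgeq, h.comm_mul_left (mul_mem (h.left_le hd0) he0) (h.mid_le hw0) hd,
      h.comm_mul_left (h.left_le hd0) he0 hd,
      commutatorElement_eq_one_iff_mul_comm.2 (h.pair.hD.comm d0 hd0 d hd),
      commutatorElement_eq_one_iff_mul_comm.2 (h.pair.hD.comm w0 (mem_inf.1 hw0).1 d hd), one_mul, mul_one]
  rw [hbil, ← h.comm_mul_left he0 he hd,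
    show g * d0 * g⁻¹ * (g * d * g⁻¹) = g * (d0 * d) * g⁻¹ by group] at hfix
  by_cases hdE : d ∈ cj D g
  · left
    rw [hreq]
    exact mul_mem (mul_mem (mem_inf.2 ⟨hd, hdE⟩) (h.conj_mid (mem_inf.2 ⟨hd, hdE⟩))) hw
  right
  have hprod : g * (d0 * d) * g⁻¹ ∈ D := by
    by_contra hnot
    exact h.pair.comm_not _ (h.right_le (h.conj_left (mul_mem hd0 hd))) hnot d hd hdE hfix
  have hddZ : d0 * d ∈ D ⊓ cj D g := by
    have := h.inv_conj_mid (mem_inf.2 ⟨hprod, h.conj_left (mul_mem hd0 hd)⟩)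
    rwa [show g⁻¹ * (g * (d0 * d) * g⁻¹) * g = d0 * d by group] at this
  obtain ⟨c, hc⟩ : ∃ c, c = ⁅g * d * g⁻¹, d0⁆ := ⟨_, rfl⟩
  have hcZ : c ∈ D ⊓ cj D g := hc ▸ h.pair.comm_mem _ he _ hd0
  rw [hreq, hgeq]
  rw [show d * (g * d * g⁻¹) * w * (d0 * (g * d0 * g⁻¹) * w0) =
    d * (g * d * g⁻¹) * (w * d0) * (g * d0 * g⁻¹) * w0 by group,
    ← h.pair.zcomm w hw d0 (h.left_le hd0)]
  rw [show d * (g * d * g⁻¹) * (d0 * w) * (g * d0 * g⁻¹) * w0 =
    d * c * d0 * ((g * d * g⁻¹) * (w * (g * d0 * g⁻¹))) * w0 by rw [hc, commutatorElement_def]; group,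
    ← h.pair.zcomm w hw _ he0, ← h.pair.hD.comm d0 hd0 _ (mul_mem hd (mem_inf.1 hcZ).1), ← mul_assoc d0 d c,
    show d0 * d * c * (g * d * g⁻¹ * (g * d0 * g⁻¹ * w)) * w0 =
      d0 * d * c * (g * (d * d0) * g⁻¹) * w * w0 by group, h.pair.hD.comm d hd d0 hd0]
  exact mul_mem (mul_mem (mul_mem (mul_mem hddZ hcZ) (h.conj_mid hddZ)) hw) hw0

/-- An element of `N(S)` normalising `S ∩ N(N_S(D))` normalises `N_S(D)`. -/
theorem norm_of_top {m : G} (hmS : m ∈ normalizer ((S : Subgroup G) : Set G))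
    (hmP : ∀ x ∈ (S : Subgroup G) ⊓ normalizer (nsyl S D : Set G),
      m * x * m⁻¹ ∈ (S : Subgroup G) ⊓ normalizer (nsyl S D : Set G)) :
    m ∈ normalizer (nsyl S D : Set G) := by
  have hRP : ∀ x ∈ nsyl S D, x ∈ (S : Subgroup G) ⊓ normalizer (nsyl S D : Set G) := fun x hx =>
    mem_inf.2 ⟨(mem_inf.1 hx).1, le_normalizer hx⟩
  by_cases hle : cj D m ≤ nsyl S D
  · have aux : ∀ k : G, k ∈ normalizer ((S : Subgroup G) : Set G) → cj D k ≤ D →
        k ∈ normalizer (nsyl S D : Set G) := fun k hkS hk => mem_normalizer_fintype fun x hx =>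
      nsyl_conj hkS (mem_normalizer_fintype fun _ hd => hk (conj_mem_cj k hd)) hx
    rcases h.cj_cases hle with e | e
    · exact aux m hmS e.le
    · have := aux (g⁻¹ * m) (mul_mem (inv_mem (le_normalizer h.memS)) hmS) fun x hx => by
        obtain ⟨d, hd, rfl⟩ := mem_cj hx
        rw [show g⁻¹ * m * d * (g⁻¹ * m)⁻¹ = g⁻¹ * (m * d * m⁻¹) * g by group]
        exact h.inv_conj_right (e.le (conj_mem_cj m hd))
      have h2 := mul_mem h.norm this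
      rwa [mul_inv_cancel_left] at h2
  exfalso
  obtain ⟨_, ⟨d, hd, rfl⟩, hdR⟩ := SetLike.not_le_iff_exists.1 hle
  obtain ⟨v, hv, hv2, c, hc, rfl⟩ := h.pair.split d hd
  by_cases hvR : m * v * m⁻¹ ∈ nsyl S D
  · have hcR : m * c * m⁻¹ ∉ nsyl S D := fun hcR => hdR (by
      show m * (v * c) * m⁻¹ ∈ nsyl S D
      rw [show m * (v * c) * m⁻¹ = m * v * m⁻¹ * (m * c * m⁻¹) by group]
      exact mul_mem hvR hcR)
    obtain ⟨x, hx⟩ : ∃ x, x = m * c * m⁻¹ := ⟨_, rfl⟩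
    rw [← hx] at hcR
    obtain ⟨hxS, hxN⟩ := mem_inf.1 (hx ▸ hmP c (hRP c (h.left_le hc.1)))
    have k := h.change hxS hxN hcR
    obtain ⟨C, hC⟩ : ∃ C : Subgroup G, C = nsyl S D ⊓ centralizer ({x} : Set G) := ⟨_, rfl⟩
    have hC2 : Nat.card C ≤ 2 * Nat.card ↥(D ⊓ cj D x) := card_le_two_mul (x * x) fun y hy => by
      rw [hC] at hy
      exact k.cent hq (mem_inf.1 hy).1 (mem_centralizer_singleton_iff.1 (mem_inf.1 hy).2).symm
    have hA : Nat.card (cj (nsyl S D) m) ≤ 2 * Nat.card C := card_le_two_mul x fun y hy => by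
      obtain ⟨r, hr, rfl⟩ := mem_cj hy
      obtain ⟨hyS, hyN⟩ := mem_inf.1 (hmP r (hRP r hr))
      have hyx : m * r * m⁻¹ * x = x * (m * r * m⁻¹) := by
        calc m * r * m⁻¹ * x = m * (r * c) * m⁻¹ := by rw [hx]; group
          _ = m * (c * r) * m⁻¹ := by rw [h.pair.zcomm c (h.pair.fix_le hc) r hr]
          _ = _ := by rw [hx]; group
      rw [hC]
      by_cases hyR : m * r * m⁻¹ ∈ nsyl S D
      · exact Or.inl (mem_inf.2 ⟨hyR, mem_centralizer_singleton_iff.2 hyx⟩)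
      · refine Or.inr (mem_inf.2 ⟨h.mul_mem_of_out hyS hyN hyR hxS hxN hcR, mem_centralizer_singleton_iff.2 ?_⟩)
        rw [← mul_assoc x, ← hyx]
    rw [card_cj, k.pair.card_R, k.pair.card_D] at hA
    have h2 : 4 * (4 * Nat.card ↥(D ⊓ cj D x)) ≤ q * (q * Nat.card ↥(D ⊓ cj D x)) :=
      Nat.mul_le_mul hq (Nat.mul_le_mul_right _ hq)
    have h3 : 0 < Nat.card ↥(D ⊓ cj D x) := Nat.card_pos
    omega
  · obtain ⟨x, hx⟩ : ∃ x, x = m * v * m⁻¹ := ⟨_, rfl⟩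
    rw [← hx] at hvR
    obtain ⟨hxS, hxN⟩ := mem_inf.1 (hx ▸ hmP v (hRP v (h.left_le hv)))
    have hx2 : x * x = 1 := by
      rw [hx, show m * v * m⁻¹ * (m * v * m⁻¹) = m * (v * v) * m⁻¹ by group, hv2, mul_one, mul_inv_cancel]
    have k := h.change hxS hxN hvR
    have hA : Nat.card (cj D m) ≤ 2 * Nat.card ↥(D ⊓ cj D x) := card_le_two_mul x fun y hy => by
      obtain ⟨a, ha, rfl⟩ := mem_cj hy
      obtain ⟨hyS, hyN⟩ := mem_inf.1 (hmP a (hRP a (h.left_le ha)))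
      have hyx : x * (m * a * m⁻¹) = m * a * m⁻¹ * x := by
        calc x * (m * a * m⁻¹) = m * (v * a) * m⁻¹ := by rw [hx]; group
          _ = m * (a * v) * m⁻¹ := by rw [h.pair.hD.comm v hv a ha]
          _ = _ := by rw [hx]; group
      by_cases hyR : m * a * m⁻¹ ∈ nsyl S D
      · refine Or.inl ?_
        have := k.cent hq hyR hyx
        rwa [hx2, mul_one, or_self] at this
      · refine Or.inr ?_
        have := k.cent hq (r := m * a * m⁻¹ * x) (h.mul_mem_of_out hyS hyN hyR hxS hxN hvR)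
          (by rw [← mul_assoc x, hyx])
        rwa [hx2, mul_one, or_self] at this
    rw [card_cj, k.pair.card_D] at hA
    have h2 : 4 * Nat.card ↥(D ⊓ cj D x) ≤ q * Nat.card ↥(D ⊓ cj D x) := Nat.mul_le_mul_right _ hq
    have h3 : 0 < Nat.card ↥(D ⊓ cj D x) := Nat.card_pos
    omega

theorem norm_all {x : G} (hx : x ∈ (S : Subgroup G)) : x ∈ normalizer (nsyl S D : Set G) := by
  haveI : Fact (Nat.Prime 2) := ⟨Nat.prime_two⟩
  by_contra hxN
  have hlt : (S : Subgroup G) ⊓ normalizer (nsyl S D : Set G) < (S : Subgroup G) :=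
    lt_of_le_of_ne inf_le_left fun e => hxN (mem_inf.1 (e.ge hx)).2
  obtain ⟨m, hm, hmP⟩ := SetLike.exists_of_lt (Transfer.lt_inf_normalizer S hlt)
  obtain ⟨hmS, hmN⟩ := mem_inf.1 hm
  exact hmP (mem_inf.2 ⟨hmS, h.norm_of_top hq (le_normalizer hmS) fun y hy => (mem_normalizer_iff.1 hmN y).1 hy⟩)

theorem norm_normalizer {n : G} (hn : n ∈ normalizer ((S : Subgroup G) : Set G)) :
    n ∈ normalizer (nsyl S D : Set G) :=
  h.norm_of_top hq hn fun y hy => by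
    have := (mem_normalizer_iff.1 hn y).1 (mem_inf.1 hy).1
    exact mem_inf.2 ⟨this, h.norm_all hq this⟩

/-- An element of `D ∩ gDg⁻¹` commuting with `g` is central in `S`. -/
theorem central {z : G} (hz : z ∈ D ⊓ cj D g) (hgz : g * z = z * g) :
    ∀ s ∈ (S : Subgroup G), z * s = s * z := by
  intro s hs
  rcases h.cj_eq_cases hs (h.norm_all hq hs) with hr | hr
  · exact (h.pair.zcomm z hz s hr).symm
  · have h1 := h.pair.zcomm z hz _ hr
    calc z * s = z * g * (g⁻¹ * s) := by group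
      _ = g * z * (g⁻¹ * s) := by rw [hgz]
      _ = g * (g⁻¹ * s * z) := by rw [h1, mul_assoc]
      _ = s * z := by group

theorem sq_comm : g * (g * g) = g * g * g := (mul_assoc g g g).symm

/-- Every essential subgroup lies in `N_S(D)`. -/
theorem ess_le (hA : AbelianMeet G) {F : Subgroup G} (hF : Ess S F) : F ≤ nsyl S D := by
  by_contra hle
  obtain ⟨f, hfF, hfR⟩ := SetLike.not_le_iff_exists.1 hle
  have hfS := hF.le hfF
  -- normal `F`
  by_cases hFn : (S : Subgroup G) ≤ normalizer (F : Set G)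
  · have k := h.change hfS (h.norm_all hq hfS) hfR
    have key : ∀ d ∈ D, d * (f * d * f⁻¹)⁻¹ ∈ D ⊓ cj D f ∨
        d * (f * d * f⁻¹)⁻¹ * (f * f) ∈ D ⊓ cj D f := by
      intro d hd
      have hyR : d * (f * d * f⁻¹)⁻¹ ∈ nsyl S D :=
        mul_mem (h.left_le hd) (inv_mem (k.right_le (k.conj_left hd)))
      have hyF : d * (f * d * f⁻¹)⁻¹ ∈ F := by
        rw [show d * (f * d * f⁻¹)⁻¹ = d * f * d⁻¹ * f⁻¹ by group]
        exact mul_mem ((mem_normalizer_iff.1 (hFn (h.pair.hD.le hd)) f).1 hfF) (inv_mem hfF)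
      exact k.cent hq hyR (hF.comm f hfF _ hyF)
    obtain ⟨d1, hd1, hd1E⟩ := k.exists_off
    have hsplit : ∀ d ∈ D, d * (f * d * f⁻¹)⁻¹ ∈ D ⊓ cj D f → d ∈ cj D f := fun d hd hd' => by
      have := mul_mem (mem_inf.1 hd').2 (k.conj_left hd)
      rwa [inv_mul_cancel_right] at this
    have hcount : Nat.card D ≤ 2 * Nat.card ↥(D ⊓ cj D f) := card_le_two_mul d1 fun d hd => by
      by_cases hdE : d ∈ cj D f
      · exact Or.inl (mem_inf.2 ⟨hd, hdE⟩)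
      refine Or.inr (mem_inf.2 ⟨mul_mem hd hd1, ?_⟩)
      have hy := (key d hd).resolve_left fun hd' => hdE (hsplit d hd hd')
      have hy1 := (key d1 hd1).resolve_left fun hd' => hd1E (hsplit d1 hd1 hd')
      obtain ⟨e, he⟩ : ∃ e, e = (f * d * f⁻¹)⁻¹ * (f * d1 * f⁻¹) := ⟨_, rfl⟩
      have heE : e ∈ cj D f := he ▸ mul_mem (inv_mem (k.conj_left hd)) (k.conj_left hd1)
      have he2 : d1 * e * d1⁻¹ ∈ cj D f := by
        have := k.pair.comm_mem e (k.right_le heE) d1 hd1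
        rw [show d1 * e * d1⁻¹ = ⁅e, d1⁆⁻¹ * e by rw [commutatorElement_def]; group]
        exact mul_mem (inv_mem (mem_inf.1 this).2) heE
      have hq1 := mul_mem hy (inv_mem hy1)
      rw [show d * (f * d * f⁻¹)⁻¹ * (f * f) * (d1 * (f * d1 * f⁻¹)⁻¹ * (f * f))⁻¹ =
        d * d1⁻¹ * (d1 * e * d1⁻¹) by rw [he]; group] at hq1
      have hdd : d * d1⁻¹ ∈ cj D f := by
        have := mul_mem (mem_inf.1 hq1).2 (inv_mem he2)
        rwa [mul_inv_cancel_right] at this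
      rw [show d * d1 = d * d1⁻¹ * (d1 * d1) by group]
      exact mul_mem hdd (mem_inf.1 (k.pair.fix_le (h.pair.sq_fix d1 hd1))).2
    rw [k.pair.card_D] at hcount
    have h2 : 4 * Nat.card ↥(D ⊓ cj D f) ≤ q * Nat.card ↥(D ⊓ cj D f) := Nat.mul_le_mul_right _ hq
    have h3 : 0 < Nat.card ↥(D ⊓ cj D f) := Nat.card_pos
    omega
  obtain ⟨qF, gF, hsF⟩ := hF.exists_swap hA hFn
  have hcF : ∀ z, z ∈ (S : Subgroup G) → (∀ s ∈ (S : Subgroup G), z * s = s * z) → z ∈ F := fun z hz hc =>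
    hF.self z hz fun d hd => hc d (hF.le hd)
  obtain ⟨v, hv, hv2, c, hc, rfl⟩ := hsF.pair.split f hfF
  by_cases hcR : c ∈ nsyl S D
  swap
  · -- `c` centralises `N_S(F)`
    have hcS := hF.le hc.1
    have k := h.change hcS (h.norm_all hq hcS) hcR
    have hinF : ∀ y ∈ nsyl S D, c * y = y * c → y ∈ F := by
      intro y hy hcy
      rcases k.cent hq hy hcy with h1 | h1
      · exact hcF y (mem_inf.1 hy).1 (k.central hq h1 hcy)
      · have hcomm : c * (y * (c * c)) = y * (c * c) * c := by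
          rw [← mul_assoc c y, hcy]; group
        have h2 := hcF _ (mem_inf.1 (h.left_le (mem_inf.1 h1).1)).1 (k.central hq h1 hcomm)
        exact (Subgroup.mul_mem_cancel_right _ (mul_mem hc.1 hc.1)).1 h2
    obtain ⟨x, hx, hxF⟩ := hF.exists_normalizing
    refine hxF ?_
    have hxc : x * c = c * x := hsF.pair.zcomm c (hsF.pair.fix_le hc) x hx
    by_cases hxR : x ∈ nsyl S D
    · exact hinF x hxR hxc.symm
    · have hxS := (mem_inf.1 hx).1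
      exact (Subgroup.mul_mem_cancel_right _ hc.1).1
        (hinF _ (h.mul_mem_of_out hxS (h.norm_all hq hxS) hxR hcS (h.norm_all hq hcS) hcR)
          (by rw [← mul_assoc c, ← hxc]))
  -- an involution outside
  have hvR : v ∉ nsyl S D := fun hvR => hfR (mul_mem hvR hcR)
  have hvS := hF.le hv
  have k := h.change hvS (h.norm_all hq hvS) hvR
  have hcen : ∀ y ∈ F, y ∈ nsyl S D → y ∈ D ⊓ cj D v ∧ ∀ s ∈ (S : Subgroup G), y * s = s * y := by
    intro y hy hyR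
    have h1 := k.cent hq hyR (hF.comm v hv y hy)
    rw [hv2, mul_one, or_self] at h1
    exact ⟨h1, k.central hq h1 (hF.comm v hv y hy)⟩
  have hvi : v⁻¹ = v := inv_eq_of_mul_eq_one_right hv2
  have hFR : ∀ y ∈ F, y ∉ nsyl S D → y * v ∈ nsyl S D := fun y hy hyR =>
    h.mul_mem_of_out (hF.le hy) (h.norm_all hq (hF.le hy)) hyR hvS (h.norm_all hq hvS) hvR
  have hqF : qF = 2 := by
    have h1 : Nat.card F ≤ 2 * Nat.card ↥(F ⊓ cj F gF) := card_le_two_mul v fun y hy => by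
      have hmem : ∀ z ∈ F, z ∈ nsyl S D → z ∈ F ⊓ cj F gF := fun z hz hzR =>
        mem_inf.2 ⟨hz, hsF.essE.self z (hF.le hz) fun e he => (hcen z hz hzR).2 e (hsF.essE.le he)⟩
      by_cases hyR : y ∈ nsyl S D
      · exact Or.inl (hmem y hy hyR)
      · exact Or.inr (hmem _ (mul_mem hy hv) (hFR y hy hyR))
    rw [hsF.pair.card_D] at h1
    have := Nat.le_of_mul_le_mul_right h1 Nat.card_pos
    have := hsF.pair.q_two
    omega
  have hxd : ∀ d ∈ D, d * (v * d * v⁻¹) ∈ nsyl S F := by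
    intro d hd
    have ht : v * d * v⁻¹ ∈ nsyl S D := k.right_le (k.conj_left hd)
    obtain ⟨x, hx⟩ : ∃ x, x = d * (v * d * v⁻¹) := ⟨_, rfl⟩
    have hxR : x ∈ nsyl S D := hx ▸ mul_mem (h.left_le hd) ht
    obtain ⟨c', hc'⟩ : ∃ c', c' = ⁅v * d * v⁻¹, d⁆ := ⟨_, rfl⟩
    have hc'Z : c' ∈ D ⊓ cj D v := hc' ▸ k.pair.comm_mem _ ht d hd
    have hc'v : v * c' = c' * v := by
      have := k.fixed_comm hd
      rw [← hc'] at this
      exact mul_inv_eq_iff_eq_mul.1 this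
    have hc'F : c' ∈ F := hcF _ (mem_inf.1 (h.left_le (mem_inf.1 hc'Z).1)).1 (k.central hq hc'Z hc'v)
    have hxv : x * v * x⁻¹ = c' * v := by
      calc x * v * x⁻¹ = ⁅d, v * d * v⁻¹⁆ * v := by rw [hx, commutatorElement_def, hvi]; group
        _ = c' * v := by rw [k.comm_inv ht hd, hc']
    rw [← hx]
    refine mem_inf.2 ⟨(mem_inf.1 hxR).1, mem_normalizer_fintype fun y hy => ?_⟩
    have hfixed : ∀ z ∈ F, z ∈ nsyl S D → x * z * x⁻¹ = z := fun z hz hzR => by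
      rw [← (hcen z hz hzR).2 x (mem_inf.1 hxR).1, mul_inv_cancel_right]
    by_cases hyR : y ∈ nsyl S D
    · rw [hfixed y hy hyR]; exact hy
    · rw [show x * y * x⁻¹ = x * (y * v) * x⁻¹ * (x * v⁻¹ * x⁻¹) by group, hvi, hxv,
        hfixed _ (mul_mem hy hv) (hFR y hy hyR)]
      exact mul_mem (mul_mem hy hv) (mul_mem hc'F hv)
  have hnotF : ∀ d ∈ D, d ∉ cj D v → d * (v * d * v⁻¹) ∉ F := fun d hd hdE hmem => hdE (by
    have := mul_mem (mem_inf.1 (hcen _ hmem (mul_mem (h.left_le hd) (k.right_le (k.conj_left hd)))).1).2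
      (inv_mem (k.conj_left hd))
    rwa [mul_inv_cancel_right] at this)
  obtain ⟨d1, hd1, hd1E⟩ := k.exists_off
  have hcount : Nat.card D ≤ 2 * Nat.card ↥(D ⊓ cj D v) := card_le_two_mul d1 fun d hd => by
    by_cases hdE : d ∈ cj D v
    · exact Or.inl (mem_inf.2 ⟨hd, hdE⟩)
    refine Or.inr (mem_inf.2 ⟨mul_mem hd hd1, ?_⟩)
    have hprod : d * (v * d * v⁻¹) * (d1 * (v * d1 * v⁻¹)) ∈ F :=
      mul_mem_of_card_two hsF.left_le (by rw [hsF.pair.card_R, hqF]) (hxd d hd) (hnotF d hd hdE)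
        (hxd d1 hd1) (hnotF d1 hd1 hd1E)
    have hR2 : ∀ a ∈ D, a * (v * a * v⁻¹) ∈ nsyl S D := fun a ha =>
      mul_mem (h.left_le ha) (k.right_le (k.conj_left ha))
    have hZ := (hcen _ hprod (mul_mem (hR2 d hd) (hR2 d1 hd1))).1
    obtain ⟨c', hc'⟩ : ∃ c', c' = ⁅v * d * v⁻¹, d1⁆ := ⟨_, rfl⟩
    have hc'Z : c' ∈ D ⊓ cj D v := hc' ▸ k.pair.comm_mem _ (k.right_le (k.conj_left hd)) d1 hd1
    rw [show d * (v * d * v⁻¹) * (d1 * (v * d1 * v⁻¹)) = d * c' * d1 * (v * (d * d1) * v⁻¹) by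
      rw [hc', commutatorElement_def]; group, mul_assoc d c' d1,
      h.pair.hD.comm c' (mem_inf.1 hc'Z).1 d1 hd1, ← mul_assoc d d1 c'] at hZ
    have h1 := mul_mem (mem_inf.1 hZ).2 (inv_mem (k.conj_left (mul_mem hd hd1)))
    rw [mul_inv_cancel_right] at h1
    exact (Subgroup.mul_mem_cancel_right _ (mem_inf.1 hc'Z).2).1 h1
  rw [k.pair.card_D] at hcount
  have h2 : 4 * Nat.card ↥(D ⊓ cj D v) ≤ q * Nat.card ↥(D ⊓ cj D v) := Nat.mul_le_mul_right _ hq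
  have h3 : 0 < Nat.card ↥(D ⊓ cj D v) := Nat.card_pos
  omega

theorem not_big (hA : AbelianMeet G) (hperf : commutator G = ⊤) : False := by
  refine h.out (sylow_le_of_fusion hperf S (nsyl S D) ?_ h.memS)
  intro a ha x hx
  refine (fusion hA S (fun a b => a ∈ (S : Subgroup G) → b ∈ (S : Subgroup G) ∧ b * a⁻¹ ∈ nsyl S D)
    (fun a ha => ⟨ha, by rw [mul_inv_cancel]; exact one_mem _⟩) (fun a b c h1 h2 ha => ?_)
    (fun n hn a _ ha => ?_) (fun F hF n hn a haF _ => ?_) a ha x hx ha).2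
  · obtain ⟨hb, h1'⟩ := h1 ha
    obtain ⟨hc, h2'⟩ := h2 hb
    exact ⟨hc, by simpa using mul_mem h2' h1'⟩
  · have hb := (mem_normalizer_iff.1 hn a).1 ha
    refine ⟨hb, ?_⟩
    have hnR := h.norm_normalizer hq hn
    by_cases haR : a ∈ nsyl S D
    · exact mul_mem ((mem_normalizer_iff.1 hnR a).1 haR) (inv_mem haR)
    · exact h.mul_mem_of_out hb (h.norm_all hq hb) (fun hc => haR ((mem_normalizer_iff.1 hnR a).2 hc))
        (inv_mem ha) (h.norm_all hq (inv_mem ha)) fun hc => haR (by simpa using inv_mem hc)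
  · exact ⟨hF.le ((mem_normalizer_iff.1 hn a).1 haF),
      mul_mem (h.ess_le hq hA hF ((mem_normalizer_iff.1 hn a).1 haF)) (inv_mem (h.ess_le hq hA hF haF))⟩

end Swap

end Cfsg.Agent.Fus.AbInt
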