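import Cfsg.Agent.Lib.Fus.AbInt.Pair
import Cfsg.Agent.Lib.Fus.Goldschmidt.Main
import Cfsg.Agent.Lib.Fus.Goldschmidt.Bender
import Cfsg.Prelude.Def_TwoFusion

/-!
# Strongly closed abelian subgroups, and the case where every essential subgroup is normal in `S`
-/

set_option autoImplicit false
set_option linter.unusedSectionVars false
set_option linter.style.haveILetI false

open scoped commutatorElement

namespace Cfsg.Agent.Fus.AbInt

open Subgroup

universe u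

variable {G : Type u} [Group G]

/-- All commutators of `S` are central in `S`. -/
def ClassTwo (S : Sylow 2 G) : Prop :=
  ∀ x ∈ (S : Subgroup G), ∀ y ∈ (S : Subgroup G), ∀ z ∈ (S : Subgroup G), z * ⁅x, y⁆ = ⁅x, y⁆ * z

theorem classTwo_of_comm {S : Sylow 2 G} (h : ∀ x ∈ (S : Subgroup G), ∀ y ∈ (S : Subgroup G), x * y = y * x) :
    ClassTwo S := fun x hx y hy z _ => by
  rw [commutatorElement_eq_one_iff_mul_comm.2 (h x hx y hy), mul_one, one_mul]

/-- Conjugation by `N(S)` permutes the essential subgroups. -/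
theorem Ess.map_conj [Finite G] {S : Sylow 2 G} {D : Subgroup G} (hD : Ess S D) {m : G} (hm : m ∈ normalizer ((S : Subgroup G) : Set G)) :
    Ess S (D.map (MulAut.conj m).toMonoidHom) := by
  refine ⟨?_, ?_, fun x hx h => ?_, ?_⟩
  · rintro _ ⟨d, hd, rfl⟩
    exact (mem_normalizer_iff.1 hm d).1 (hD.le hd)
  · rintro _ ⟨a, ha, rfl⟩ _ ⟨b, hb, rfl⟩
    rw [← map_mul, ← map_mul, hD.comm a ha b hb]
  · refine ⟨m⁻¹ * x * m, hD.self _ (by simpa using (mem_normalizer_iff.1 (inv_mem hm) x).1 hx) fun d hd => ?_, by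
      show m * (m⁻¹ * x * m) * m⁻¹ = x
      group⟩
    calc m⁻¹ * x * m * d = m⁻¹ * (x * (m * d * m⁻¹)) * m := by group
      _ = m⁻¹ * ((m * d * m⁻¹) * x) * m := by rw [h (m * d * m⁻¹) ⟨d, hd, rfl⟩]
      _ = _ := by group
  · obtain ⟨n, hn, hout⟩ := hD.out
    refine ⟨m * n * m⁻¹, mem_normalizer_fintype ?_, fun c hc hcn => ?_⟩
    · rintro _ ⟨d, hd, rfl⟩
      refine ⟨n * d * n⁻¹, (mem_normalizer_iff.1 hn d).1 hd, ?_⟩
      show m * (n * d * n⁻¹) * m⁻¹ = m * n * m⁻¹ * (m * d * m⁻¹) * (m * n * m⁻¹)⁻¹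
      group
    · refine hout (m⁻¹ * c * m) (mem_centralizer_iff.2 fun d hd => ?_) ?_
      · have h1 := mem_centralizer_iff.1 hc _ ⟨d, hd, rfl⟩
        calc d * (m⁻¹ * c * m) = m⁻¹ * ((m * d * m⁻¹) * c) * m := by group
          _ = m⁻¹ * (c * (m * d * m⁻¹)) * m := by rw [show m * d * m⁻¹ * c = c * (m * d * m⁻¹) from h1]
          _ = _ := by group
      · rw [show m⁻¹ * c * m * n = m⁻¹ * (c * (m * n * m⁻¹)) * m by group]
        exact mul_mem (mul_mem (inv_mem hm) hcn) hm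

variable [Finite G] [IsSimpleGroup G]

/-- A strongly closed abelian subgroup other than `1` forces class at most two. -/
theorem classTwo_of_closed (hG : ¬ IsMulCommutative G) (S : Sylow 2 G) (W : Subgroup G) (hW : W ≠ ⊥)
    (hc : ∀ x ∈ W, ∀ y ∈ W, x * y = y * x) (hsc : Cfsg.IsStronglyClosed W (S : Subgroup G)) : ClassTwo S := by
  haveI : Fact (Nat.Prime 2) := ⟨Nat.prime_two⟩
  have hel : Cfsg.IsElementaryAbelian 2 (omega hc) :=
    ⟨⟨⟨fun x y => Subtype.ext (hc _ x.2.1 _ y.2.1)⟩⟩, fun a ha => by rw [pow_two]; exact ha.2⟩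
  have hne : omega hc ≠ ⊥ := by
    intro h
    haveI := W.nontrivial_iff_ne_bot.2 hW
    obtain ⟨x, hx⟩ := exists_prime_orderOf_dvd_card' (G := ↥W) 2 (by
      obtain ⟨n, hn⟩ := (S.isPGroup'.to_le hsc.1).exists_card_eq
      rcases Nat.eq_zero_or_pos n with rfl | h0
      · exact absurd hn (Finite.one_lt_card (α := ↥W)).ne'
      · rw [hn]; exact dvd_pow_self 2 h0.ne')
    have hx2 : (x : G) * x = 1 := by
      rw [← coe_mul, ← pow_two, show x ^ 2 = 1 from hx ▸ pow_orderOf_eq_one x, coe_one]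
    have hmem : (x : G) ∈ omega hc := ⟨x.2, hx2⟩
    rw [h, mem_bot, OneMemClass.coe_eq_one] at hmem
    rw [hmem, orderOf_one] at hx
    omega
  have hcl : Cfsg.IsStronglyClosed (omega hc) (S : Subgroup G) := by
    refine ⟨fun x hx => hsc.1 hx.1, fun x hx g hg => ⟨hsc.2 x hx.1 g hg, ?_⟩⟩
    rw [show g * x * g⁻¹ * (g * x * g⁻¹) = g * (x * x) * g⁻¹ by group, hx.2, mul_one, mul_inv_cancel]
  rcases (Gold.conclusion_all G inferInstance hG S (omega hc) hne hel hcl).1 with h | ⟨H, hH⟩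
  · exact classTwo_of_comm fun x hx y hy => hc x (h.le hx).1 y (h.le hy).1
  obtain ⟨Pb, W', hp, hi, -, -, hWc, -, hcomm, -⟩ :=
    Invol.BenderCover.torusSylow_bender (Gold.bender_of_se hG hH).1
  obtain ⟨g, hg⟩ := MulAction.exists_smul_eq G (hp.toSylow hi) S
  have hmem : ∀ x ∈ (S : Subgroup G), g⁻¹ * x * g ∈ Pb := fun x hx => by
    rw [← hg, Sylow.coe_subgroup_smul] at hx
    obtain ⟨y, hy, rfl⟩ := hx
    simpa [mul_assoc] using hy
  intro x hx y hy z hz
  have h1 := hWc _ (hcomm _ (hmem x hx) _ (hmem y hy)) _ (hmem z hz)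
  have e : ⁅x, y⁆ = g * ⁅g⁻¹ * x * g, g⁻¹ * y * g⁆ * g⁻¹ := by
    rw [commutatorElement_def, commutatorElement_def]; group
  rw [e]
  calc z * (g * ⁅g⁻¹ * x * g, g⁻¹ * y * g⁆ * g⁻¹) =
      g * ((g⁻¹ * z * g) * ⁅g⁻¹ * x * g, g⁻¹ * y * g⁆) * g⁻¹ := by group
    _ = g * (⁅g⁻¹ * x * g, g⁻¹ * y * g⁆ * (g⁻¹ * z * g)) * g⁻¹ := by rw [h1]
    _ = _ := by group

variable {S : Sylow 2 G}

/-- If every essential subgroup is normal in `S` then `S` has class at most two. -/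
theorem classTwo_of_all_normal (hG : ¬ IsMulCommutative G) (hA : AbelianMeet G)
    (hall : ∀ D, Ess S D → (S : Subgroup G) ≤ normalizer (D : Set G)) : ClassTwo S := by
  classical
  haveI : Fact (Nat.Prime 2) := ⟨Nat.prime_two⟩
  by_cases hex : ∃ D, Ess S D
  swap
  · by_cases hS : (S : Subgroup G) = ⊥
    · refine classTwo_of_comm fun x hx y hy => ?_
      rw [hS, mem_bot] at hx hy
      rw [hx, hy]
    haveI := (S : Subgroup G).nontrivial_iff_ne_bot.2 hS
    refine classTwo_of_closed hG S ((S : Subgroup G) ⊓ centralizer ((S : Subgroup G) : Set G)) ?_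
      (fun x hx y hy => (mem_centralizer_iff.1 hy.2 x hx.1)) ⟨inf_le_left, fun x hx g hg => ?_⟩
    · intro h
      haveI := S.isPGroup'.center_nontrivial
      obtain ⟨z, hz⟩ := exists_ne (1 : ↥(Subgroup.center ↥(S : Subgroup G)))
      refine hz (Subtype.ext (Subtype.ext (mem_bot.1 (h.le ⟨z.1.2, mem_centralizer_iff.2 fun y hy => ?_⟩))))
      exact congrArg Subtype.val (mem_center_iff.1 z.2 ⟨y, hy⟩)
    · refine fusion hA S (fun a b => a ∈ (S : Subgroup G) ⊓ centralizer ((S : Subgroup G) : Set G) →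
        b ∈ (S : Subgroup G) ⊓ centralizer ((S : Subgroup G) : Set G)) (fun a h => h)
        (fun a b c h1 h2 h => h2 (h1 h)) (fun n hn a _ ha => ?_) (fun D hD => (hex ⟨D, hD⟩).elim) x hx.1 g hg hx
      refine ⟨(mem_normalizer_iff.1 hn a).1 ha.1, mem_centralizer_iff.2 fun y hy => ?_⟩
      have hy' : n⁻¹ * y * n ∈ (S : Subgroup G) := by simpa using (mem_normalizer_iff.1 (inv_mem hn) y).1 hy
      calc y * (n * a * n⁻¹) = n * ((n⁻¹ * y * n) * a) * n⁻¹ := by group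
        _ = n * (a * (n⁻¹ * y * n)) * n⁻¹ := by rw [mem_centralizer_iff.1 ha.2 _ hy']
        _ = _ := by group
  by_cases huniq : ∃ D, Ess S D ∧ ∀ E, Ess S E → E = D
  · obtain ⟨D, hD, huniq⟩ := huniq
    refine classTwo_of_closed hG S D (fun h => ?_) hD.comm ⟨hD.le, fun x hx g hg => ?_⟩
    · obtain ⟨z, hz, hzD⟩ := hD.exists_normalizing
      obtain ⟨d, hd, hne⟩ := hD.exists_not_comm hz.1 hzD
      rw [h, mem_bot] at hd
      rw [hd, mul_one, one_mul] at hne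
      exact hne rfl
    · refine fusion hA S (fun a b => a ∈ D → b ∈ D) (fun a h => h) (fun a b c h1 h2 h => h2 (h1 h))
        (fun n hn a _ ha => (huniq _ (hD.map_conj hn)).le ⟨a, ha, rfl⟩)
        (fun E hE n hn a _ ha => ?_) x (hD.le hx) g hg hx
      obtain rfl := huniq E hE
      exact (mem_normalizer_iff.1 hn a).1 ha
  push Not at huniq
  obtain ⟨D, hD⟩ := hex
  obtain ⟨E, hE, hED⟩ := huniq D hD
  wlog hle : Nat.card D ≤ Nat.card E generalizing D E
  · exact this E hE D hD hED.symm (Nat.le_of_lt (not_le.1 hle))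
  have hRS : ∀ F, Ess S F → nsyl S F = (S : Subgroup G) := fun F hF => inf_eq_left.2 (hall F hF)
  have hoff : Offends S D E :=
    ⟨(hRS D hD).symm ▸ hE.le, hE.comm, fun h => hED (eq_of_le_of_card_ge h hle), hle,
      fun x hx h => hE.self x (hD.le hx) h⟩
  obtain ⟨q, hP⟩ := hoff.pair hA hD
  intro x hx y hy z hz
  have key : ∀ A B : Subgroup G, (S : Subgroup G) ≤ normalizer (A : Set G) →
      (∀ a ∈ B, ∀ b ∈ B, a * b = b * a) → B ≤ (S : Subgroup G) →
      ∀ a ∈ A, ∀ b ∈ B, ∀ a' ∈ A, ∀ b' ∈ B, ⁅a * b, a' * b'⁆ ∈ A := by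
    intro A B hAn hB hBS a ha b hb a' ha' b' hb'
    rw [show ⁅a * b, a' * b'⁆ = a * (b * a' * b⁻¹) * ((b * b' * b⁻¹) * a⁻¹ * b'⁻¹) * a'⁻¹ by
      rw [commutatorElement_def]; group, hB b hb b' hb', mul_inv_cancel_right]
    exact mul_mem (mul_mem (mul_mem ha ((mem_normalizer_iff.1 (hAn (hBS hb)) a').1 ha'))
      ((mem_normalizer_iff.1 (hAn (hBS hb')) _).1 (inv_mem ha))) (inv_mem ha')
  have hgen : ∀ r ∈ (S : Subgroup G), ∃ d ∈ D, ∃ e ∈ E, r = d * e := fun r hr =>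
    hP.gen r ((hRS D hD).ge hr)
  have hgen' : ∀ r ∈ (S : Subgroup G), ∃ e ∈ E, ∃ d ∈ D, r = e * d := fun r hr => by
    obtain ⟨d, hd, e, he, rfl⟩ := hgen r hr
    exact ⟨e, he, e⁻¹ * d * e, by simpa using (mem_normalizer_iff.1 (inv_mem (hall D hD (hE.le he))) d).1 hd,
      by group⟩
  obtain ⟨d, hd, e, he, hxe⟩ := hgen x hx
  obtain ⟨d', hd', e', he', hye⟩ := hgen y hy
  obtain ⟨f, hf, c, hc, hxf⟩ := hgen' x hx
  obtain ⟨f', hf', c', hc', hyf⟩ := hgen' y hy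
  have h1 : ⁅x, y⁆ ∈ D := by rw [hxe, hye]; exact key D E (hall D hD) hE.comm hE.le d hd e he d' hd' e' he'
  have h2 : ⁅x, y⁆ ∈ E := by rw [hxf, hyf]; exact key E D (hall E hE) hD.comm hD.le f hf c hc f' hf' c' hc'
  exact hP.zcomm _ ⟨h1, h2⟩ z ((hRS D hD).ge hz)

end Cfsg.Agent.Fus.AbInt
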