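import Cfsg.Agent.Lib.Fus.AbInt.Two
import Cfsg.Agent.Lib.Invol.Dihedral

/-!
# The distinguished involutions generate a dihedral group
-/

set_option autoImplicit false
set_option linter.unusedSectionVars false
set_option linter.style.haveILetI false

namespace Cfsg.Agent.Fus.AbInt

open Subgroup

universe u

variable {G : Type u} [Group G] {S : Sylow 2 G}

/-- The distinguished involutions. -/
def Mark (S : Sylow 2 G) (x : G) : Prop := ∃ (D : Subgroup G) (z : G), Star S D z x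

variable [Finite G]

theorem Star.mark {D : Subgroup G} {z v : G} (h : Star S D z v) : Mark S v := ⟨D, z, h⟩

namespace Star

variable {D F : Subgroup G} {z w x y : G}

theorem orderOf_eq_two (h : Star S D z x) : orderOf x = 2 :=
  orderOf_eq_prime (by rw [pow_two]; exact h.v_sq) h.v_ne_one

/-- Commuting distinguished involutions belong to the same subgroup. -/
theorem of_comm (hx : Star S D z x) (hy : Star S F w y) (hxy : x * y = y * x) :
    F = D ∧ w = z ∧ (y = x ∨ y = z * x) := by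
  have hyD : y ∈ D := hx.cent_v hy.vS hxy.symm
  have hxF : x ∈ F := hy.cent_v hx.vS hxy
  have hFD : F = D := le_antisymm (fun a ha => hx.cent_v (hy.hD.le ha) (hy.hD.comm a ha x hxF))
    fun a ha => hy.cent_v (hx.hD.le ha) (hx.hD.comm a ha y hyD)
  exact ⟨hFD, hx.unique (hFD ▸ hy)⟩

/-- Two non-commuting distinguished involutions generate a dihedral group with centre `⟨z⟩`. -/
theorem pow_eq (hx : Star S D z x) (hy : Star S F w y) (hxy : x * y ≠ y * x) :
    ∃ k : ℕ, orderOf (x * y) = 2 ^ (k + 2) ∧ (x * y) ^ 2 ^ (k + 1) = z := by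
  haveI : Fact (Nat.Prime 2) := ⟨Nat.prime_two⟩
  have hyi := hy.v_inv
  have hxi := hx.v_inv
  obtain ⟨r, hr⟩ : ∃ r, r = x * y := ⟨_, rfl⟩
  have hrS : r ∈ (S : Subgroup G) := hr ▸ mul_mem hx.vS hy.vS
  obtain ⟨j, hj⟩ := IsPGroup.iff_orderOf.1 S.isPGroup' ⟨r, hrS⟩
  rw [Subgroup.orderOf_mk] at hj
  have hrr : r * r ≠ 1 := fun e => hxy (by
    have := inv_eq_of_mul_eq_one_right e
    rw [hr, mul_inv_rev, hxi, hyi] at this
    exact this.symm)
  obtain ⟨k, rfl⟩ : ∃ k, j = k + 2 := by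
    refine ⟨j - 2, ?_⟩
    by_contra hne
    refine hrr ?_
    have h1 : orderOf r ∣ 2 := by
      rw [hj]
      exact Nat.pow_dvd_pow 2 (show j ≤ 1 by omega)
    rw [← pow_two]
    exact orderOf_dvd_iff_pow_eq_one.1 h1
  rw [← hr]
  refine ⟨k, hj, ?_⟩
  obtain ⟨s, hs⟩ : ∃ s, s = r ^ 2 ^ k := ⟨_, rfl⟩
  obtain ⟨c, hc⟩ : ∃ c, c = r ^ 2 ^ (k + 1) := ⟨_, rfl⟩
  have hsS : s ∈ (S : Subgroup G) := hs ▸ pow_mem hrS _
  have hss : s * s = c := by rw [hs, hc, ← pow_add, pow_succ, mul_two]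
  have hc2 : c * c = 1 := by
    rw [hc, ← pow_add, ← mul_two, ← pow_succ, ← hj, pow_orderOf_eq_one]
  have hc1 : c ≠ 1 := fun e => by
    have h1 := Nat.le_of_dvd (pow_pos two_pos _) (orderOf_dvd_of_pow_eq_one (hc ▸ e))
    rw [hj] at h1
    have := (Nat.pow_le_pow_iff_right (by norm_num : 1 < 2)).1 h1
    omega
  have hinv : x * r * x⁻¹ = r⁻¹ := by
    rw [hr, mul_inv_rev, hxi, hyi, show x * (x * y) * x = (x * x) * y * x by group, hx.v_sq, one_mul]
  have hinvs : x * s * x⁻¹ = s⁻¹ := by rw [hs, ← conj_pow, hinv, inv_pow]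
  have hxc : x * c = c * x := by
    have : x * c * x⁻¹ = c⁻¹ := by rw [← hss, show x * (s * s) * x⁻¹ = x * s * x⁻¹ * (x * s * x⁻¹) by group,
      hinvs, mul_inv_rev]
    rw [inv_eq_of_mul_eq_one_right hc2] at this
    exact mul_inv_eq_iff_eq_mul.1 this
  have hsxs : s * x * s⁻¹ = c * x := by
    have h1 : s⁻¹ = x * s * x := by rw [← hinvs, hxi]
    rw [h1, show s * x * (x * s * x) = s * (x * x) * s * x by group, hx.v_sq, mul_one, hss]
  have hcD : c ∈ D := hx.cent_v (hss ▸ mul_mem hsS hsS) hxc.symm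
  have hsN : s⁻¹ ∈ normalizer (D : Set G) := mem_normalizer_fintype fun d hd => by
    show s⁻¹ * d * s⁻¹⁻¹ ∈ D
    rw [inv_inv]
    refine hx.cent_v (mul_mem (mul_mem (inv_mem hsS) (hx.hD.le hd)) hsS) ?_
    calc s⁻¹ * d * s * x = s⁻¹ * (d * (s * x * s⁻¹)) * s := by group
      _ = s⁻¹ * ((s * x * s⁻¹) * d) * s := by rw [hsxs, hx.hD.comm d hd _ (mul_mem hcD hx.vD)]
      _ = _ := by group
  have hsR : s ∈ nsyl S D := mem_inf.2 ⟨hsS, by simpa using inv_mem hsN⟩
  have hsD : s ∉ D := fun h => hc1 (by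
    rw [hx.hD.comm s h x hx.vD, mul_inv_cancel_right] at hsxs
    exact mul_eq_right.1 hsxs.symm)
  exact hc ▸ mul_right_cancel ((hsxs.symm.trans (hx.moves s hsR hsD)) : c * x = z * x)

/-- All distinguished involutions share `z`. -/
theorem z_eq (hx : Star S D z x) (hy : Star S F w y) : w = z := by
  by_cases hxy : x * y = y * x
  · exact (hx.of_comm hy hxy).2.1
  obtain ⟨k, hk, hkz⟩ := hx.pow_eq hy hxy
  obtain ⟨l, hl, hlw⟩ := hy.pow_eq hx fun e => hxy e.symm
  have hinv : y * x = (x * y)⁻¹ := by rw [mul_inv_rev, hx.v_inv, hy.v_inv]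
  rw [hinv, orderOf_inv, hk] at hl
  have hkl := Nat.pow_right_injective le_rfl hl
  obtain rfl : k = l := by omega
  rw [hinv, inv_pow, hkz, hx.z_inv] at hlw
  exact hlw.symm

/-- `z` is fixed by `N(S)`. -/
theorem z_normalizer (h : Star S D z x) {n : G} (hn : n ∈ normalizer ((S : Subgroup G) : Set G)) :
    n * z * n⁻¹ = z :=
  h.z_eq (h.conj hn)

theorem z_central (h : Star S D z x) {s : G} (hs : s ∈ (S : Subgroup G)) : s * z = z * s :=
  mul_inv_eq_iff_eq_mul.1 (h.z_normalizer (le_normalizer hs))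

/-- Some conjugate in `S` of a distinguished involution does not commute with it. -/
theorem exists_not_comm (h : Star S D z x) : ∃ y, Mark S y ∧ x * y ≠ y * x := by
  obtain ⟨s, hs, hsD⟩ : ∃ s ∈ (S : Subgroup G), s ∉ normalizer (D : Set G) := by
    by_contra hc
    push Not at hc
    exact h.nonnormal hc
  have h' := h.conj (le_normalizer hs)
  refine ⟨_, ⟨_, _, h'⟩, fun e => hsD (mem_normalizer_fintype fun d hd => ?_)⟩
  exact (h.of_comm h' e).1.le (conj_mem_cj s hd)

end Star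

theorem Mark.conj {x n : G} (h : Mark S x) (hn : n ∈ normalizer ((S : Subgroup G) : Set G)) :
    Mark S (n * x * n⁻¹) := by
  obtain ⟨D, z, h⟩ := h
  exact ⟨_, _, h.conj hn⟩

theorem Mark.memS {x : G} (h : Mark S x) : x ∈ (S : Subgroup G) := by
  obtain ⟨D, z, h⟩ := h
  exact h.vS

/-- The dihedral group of the distinguished involutions. -/
structure DihData (S : Sylow 2 G) (z : G) (M : Subgroup G) : Prop where
  le : M ≤ (S : Subgroup G)
  mark : ∀ x, Mark S x → x ∈ M
  zM : z ∈ M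
  iso : ∃ k : ℕ, Nonempty (↥M ≃* DihedralGroup (2 ^ (k + 2)))
  norm : ∀ n ∈ normalizer ((S : Subgroup G) : Set G), n ∈ normalizer (M : Set G)

/-- The distinguished involutions generate a dihedral group of order at least eight. -/
theorem exists_dihData {D0 : Subgroup G} {z v0 : G} (h0 : Star S D0 z v0) : ∃ M, DihData S z M := by
  classical
  haveI : Fact (Nat.Prime 2) := ⟨Nat.prime_two⟩
  obtain ⟨y0, hy0, hne0⟩ := h0.exists_not_comm
  obtain ⟨⟨v, u⟩, ⟨hv, hu, hvu⟩, hmax⟩ := Set.exists_max_image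
    {p : G × G | Mark S p.1 ∧ Mark S p.2 ∧ p.1 * p.2 ≠ p.2 * p.1} (fun p => orderOf (p.1 * p.2))
    (Set.toFinite _) ⟨(v0, y0), h0.mark, hy0, hne0⟩
  obtain ⟨D, zv, hv⟩ := hv
  obtain ⟨F, zu, hu⟩ := hu
  have hzv : zv = z := h0.z_eq hv
  have hzu : zu = z := h0.z_eq hu
  rw [hzv] at hv
  rw [hzu] at hu
  obtain ⟨k, hk, hkz⟩ := hv.pow_eq hu hvu
  obtain ⟨r, hr⟩ : ∃ r, r = v * u := ⟨_, rfl⟩
  change orderOf (v * u) = _ at hk
  rw [← hr] at hk hkz
  have hvi := hv.v_inv
  have hui := hu.v_inv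
  obtain ⟨M, hM⟩ : ∃ M : Subgroup G, M = closure ({v, u} : Set G) := ⟨_, rfl⟩
  have hvM : v ∈ M := hM ▸ subset_closure (Set.mem_insert _ _)
  have huM : u ∈ M := hM ▸ subset_closure (Set.mem_insert_of_mem _ rfl)
  have hMS : M ≤ (S : Subgroup G) := by
    rw [hM, closure_le]
    rintro a (rfl | rfl)
    · exact hv.vS
    · exact hu.vS
  have hrM : r ∈ M := hr ▸ mul_mem hvM huM
  have hzM : z ∈ M := hkz ▸ pow_mem hrM _
  have hvr : ∀ i : ℤ, v * r ^ i = r ^ (-i) * v := by
    intro i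
    have h1 : v * r * v⁻¹ = r⁻¹ := by
      rw [hr, mul_inv_rev, hvi, hui, show v * (v * u) * v = (v * v) * u * v by group, hv.v_sq, one_mul]
    rw [zpow_neg, ← inv_zpow, ← h1, conj_zpow, inv_mul_cancel_right]
  have helt : ∀ x ∈ M, ∃ i : ℤ, x = r ^ i ∨ x = r ^ i * v := by
    intro x hx
    rw [hM] at hx
    induction hx using closure_induction with
    | mem x hx =>
      rcases hx with rfl | rfl
      · exact ⟨0, Or.inr (by simp)⟩
      · exact ⟨-1, Or.inr (by rw [← hvr 1, zpow_one, hr, ← mul_assoc, hv.v_sq, one_mul])⟩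
    | one => exact ⟨0, Or.inl (by simp)⟩
    | mul a b _ _ ha hb =>
      obtain ⟨i, rfl | rfl⟩ := ha <;> obtain ⟨j, rfl | rfl⟩ := hb
      · exact ⟨i + j, Or.inl (by rw [zpow_add])⟩
      · exact ⟨i + j, Or.inr (by rw [zpow_add, mul_assoc])⟩
      · exact ⟨i - j, Or.inr (by rw [mul_assoc, hvr, ← mul_assoc, ← zpow_add, sub_eq_add_neg])⟩
      · exact ⟨i - j, Or.inl (by rw [mul_assoc, ← mul_assoc v, hvr, mul_assoc, hv.v_sq, mul_one, ← zpow_add,
          sub_eq_add_neg])⟩
    | inv a _ ha =>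
      obtain ⟨i, rfl | rfl⟩ := ha
      · exact ⟨-i, Or.inl (by rw [zpow_neg])⟩
      · exact ⟨i, Or.inr (by rw [mul_inv_rev, ← zpow_neg, hvi, hvr, neg_neg])⟩
  have hrS : r ∈ (S : Subgroup G) := hMS hrM
  -- the reflections are distinguished
  have href : ∀ i : ℤ, Mark S (r ^ i * v) := by
    intro i
    rcases Int.even_or_odd' i with ⟨j, rfl | rfl⟩
    · have := hv.mark.conj (le_normalizer (zpow_mem hrS j))
      rwa [show r ^ (2 * j) * v = r ^ j * v * (r ^ j)⁻¹ by
        rw [mul_assoc _ v, ← zpow_neg, hvr, neg_neg, ← mul_assoc, ← zpow_add, two_mul]]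
    · have := (hu.mark.conj (le_normalizer hv.vS)).conj (le_normalizer (zpow_mem hrS j))
      rwa [show r ^ (2 * j + 1) * v = r ^ j * (v * u * v⁻¹) * (r ^ j)⁻¹ by
        rw [hvi, ← hr, show r ^ j * (r * v) * (r ^ j)⁻¹ = r ^ j * r * (v * (r ^ j)⁻¹) by group,
          ← zpow_neg, hvr, neg_neg, ← mul_assoc, ← zpow_add_one, ← zpow_add]
        congr 2
        ring]
  -- a distinguished involution commuting with a reflection lies in `M`
  have hcomm : ∀ w, Mark S w → ∀ i : ℤ, w * (r ^ i * v) = r ^ i * v * w → w ∈ M := by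
    intro w hw i e
    obtain ⟨Dw, zw, hw⟩ := hw
    obtain ⟨Di, zi, hi⟩ := href i
    rcases (hi.of_comm hw e.symm).2.2 with h | h <;> rw [h]
    · exact mul_mem (zpow_mem hrM _) hvM
    · rw [h0.z_eq hi]
      exact mul_mem hzM (mul_mem (zpow_mem hrM _) hvM)
  -- no distinguished involution outside normalises `M`
  have hnone : ∀ w, Mark S w → w ∈ normalizer (M : Set G) → w ∈ M := by
    intro w hw hwN
    by_contra hwM
    obtain ⟨Dw, zw, hW⟩ := id hw
    have hwi := hW.v_inv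
    have hinvl : ∀ a : G, w * (w * a * w⁻¹) * w⁻¹ = a := fun a => by
      rw [hwi, show w * (w * a * w) * w = (w * w) * a * (w * w) by group, hW.v_sq, one_mul, mul_one]
    have hwv : w * v ≠ v * w := fun e => hwM (hcomm w hw 0 (by simpa using e))
    -- rotations go to rotations
    have himg : ∀ a ∈ M, Mark S a → ∃ i : ℤ, a = r ^ i * v := by
      intro a ha hma
      obtain ⟨i, rfl | rfl⟩ := helt a ha
      · exfalso
        obtain ⟨Da, za, hA⟩ := hma
        obtain ⟨l, hl⟩ := helt _ (mul_mem hrM hrM)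
        have hac : r * r ^ i = r ^ i * r := (Commute.zpow_self r i).symm.eq
        have hrD : r ∈ Da := hA.cent_v hrS hac
        have h4 : r * r ∈ fix S Da := hA.sq_fix r hrD
        have hzf : z ∈ fix S Da := by
          rw [← hkz, pow_succ', pow_mul, pow_two]
          exact pow_mem h4 _
        exact hA.z_fix ((h0.z_eq hA).symm ▸ hzf)
      · exact ⟨i, rfl⟩
    obtain ⟨b, hb⟩ := himg _ ((mem_normalizer_iff.1 hwN v).1 hvM) (hv.mark.conj (le_normalizer hW.vS))
    obtain ⟨b', hb'⟩ := himg _ ((mem_normalizer_iff.1 hwN u).1 huM) (hu.mark.conj (le_normalizer hW.vS))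
    obtain ⟨a, ha⟩ : ∃ a, a = b - b' := ⟨_, rfl⟩
    have hwr : w * r * w⁻¹ = r ^ a := by
      rw [hr, show w * (v * u) * w⁻¹ = w * v * w⁻¹ * (w * u * w⁻¹) by group, hb, hb', ← hr, mul_assoc,
        ← mul_assoc v, hvr, mul_assoc, hv.v_sq, mul_one, ← zpow_add, ha, sub_eq_add_neg]
    -- `b` is even, by maximality
    obtain ⟨c, hc⟩ : Even b := by
      by_contra hodd
      rw [Int.not_even_iff_odd] at hodd
      have h1 : w * v * (w * v) = r ^ b := by
        rw [show w * v * (w * v) = w * v * w * v by group]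
        nth_rewrite 2 [← hwi]
        rw [hb, mul_assoc, hv.v_sq, mul_one]
      have h2 : (w * v) ^ 2 ^ (k + 2) = z := by
        obtain ⟨j, rfl⟩ := hodd
        rw [pow_succ', pow_mul, pow_two, h1, ← zpow_natCast, ← zpow_mul, mul_comm, zpow_mul, zpow_natCast,
          hkz, zpow_add, zpow_mul, show z ^ (2 : ℤ) = z * z from zpow_two z, h0.z_sq, one_zpow, one_mul,
          zpow_one]
      obtain ⟨l, hl, -⟩ := hW.pow_eq hv hwv
      have hle : orderOf (w * v) ≤ orderOf (v * u) := hmax (w, v) ⟨hw, hv.mark, hwv⟩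
      rw [← hr, hk, hl] at hle
      have hle' := (Nat.pow_le_pow_iff_right (by norm_num : 1 < 2)).1 hle
      refine h0.z_ne ?_
      rw [← h2]
      exact orderOf_dvd_iff_pow_eq_one.1 (hl ▸ Nat.pow_dvd_pow 2 hle')
    obtain ⟨m, hm⟩ : ∃ m, m = a * c + c := ⟨_, rfl⟩
    have hact : ∀ i : ℤ, w * (r ^ i * v) * w⁻¹ = r ^ (a * i + b) * v := fun i => by
      rw [show w * (r ^ i * v) * w⁻¹ = w * r ^ i * w⁻¹ * (w * v * w⁻¹) by group, ← conj_zpow, hwr, hb,
        ← zpow_mul, ← mul_assoc, ← zpow_add]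
    have h2m : (2 : ℤ) ^ (k + 1) ∣ m := by
      have h := hact b
      rw [← hb, hinvl] at h
      have h1 : r ^ (a * b + b) = 1 := mul_eq_right.1 h.symm
      have h2 := orderOf_dvd_iff_zpow_eq_one.2 h1
      rw [hk] at h2
      obtain ⟨t, ht⟩ := h2
      refine ⟨t, ?_⟩
      push_cast at ht
      rw [pow_succ] at ht
      have : 2 * m = 2 * (2 ^ (k + 1) * t) := by rw [hm, ← mul_assoc 2 _ t, mul_comm 2 ((2 : ℤ) ^ (k + 1)), ← ht, hc]; ring
      linarith
    obtain ⟨t, ht⟩ := h2m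
    have hrm : r ^ m = z ^ t := by
      rw [ht, zpow_mul, show ((2 : ℤ) ^ (k + 1)) = ((2 ^ (k + 1) : ℕ) : ℤ) by push_cast; ring, zpow_natCast, hkz]
    have hx : w * (r ^ c * v) * w⁻¹ = z ^ t * (r ^ c * v) := by
      rw [hact, hc, show a * c + (c + c) = m + c by rw [hm]; ring, zpow_add, hrm, mul_assoc]
    have hzz : ∀ j : ℤ, z ^ (2 * j) = 1 := fun j => by
      rw [zpow_mul, show z ^ (2 : ℤ) = z * z from zpow_two z, h0.z_sq, one_zpow]
    rcases Int.even_or_odd' t with ⟨j, hj | hj⟩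
    · rw [hj, hzz, one_mul] at hx
      exact hwM (hcomm w hw c (mul_inv_eq_iff_eq_mul.1 hx))
    rw [hj, zpow_add, hzz, one_mul, zpow_one] at hx
    -- `e` of order four
    obtain ⟨e, he⟩ : ∃ e, e = r ^ 2 ^ k := ⟨_, rfl⟩
    have hee : e * e = z := by rw [he, ← pow_add, ← mul_two, ← pow_succ, hkz]
    have heS : e ∈ (S : Subgroup G) := he ▸ pow_mem hrS _
    have hei : e⁻¹ = e * z := inv_eq_of_mul_eq_one_right (by rw [← mul_assoc, hee, h0.z_sq])
    have hwe : w * e * w⁻¹ = e ^ a := by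
      rw [he, ← conj_pow, hwr, ← zpow_natCast, ← zpow_natCast r, ← zpow_mul, ← zpow_mul, mul_comm]
    have hzcen : ∀ s ∈ (S : Subgroup G), s * z = z * s := fun s hs => h0.z_central hs
    have hwz : w * z * w⁻¹ = z := mul_inv_eq_iff_eq_mul.2 (hzcen w hW.vS)
    have hxe : r ^ c * v * e = e * z * (r ^ c * v) := by
      rw [← hei, he, ← zpow_natCast, ← zpow_neg, mul_assoc, hvr, ← mul_assoc, ← mul_assoc, ← zpow_add,
        ← zpow_add, add_comm]
    rcases Int.even_or_odd' a with ⟨l, hl | hl⟩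
    · refine h0.z_ne ?_
      rw [hl, zpow_mul, show e ^ (2 : ℤ) = e * e from zpow_two e, hee] at hwe
      have h1 : e = z ^ l := by
        calc e = w⁻¹ * (w * e * w⁻¹) * w := by group
          _ = w⁻¹ * (w * z ^ l * w⁻¹) * w := by rw [hwe, ← conj_zpow, hwz]
          _ = _ := by group
      have h2 : e * e = 1 := by rw [h1, ← zpow_add, ← two_mul, hzz]
      exact hee ▸ h2
    · have hl' : e ^ a = e * z ^ l := by
        rw [hl, zpow_add, zpow_mul, show e ^ (2 : ℤ) = e * e from zpow_two e, hee, zpow_one]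
        exact ((Commute.zpow_right (hzcen e heS) l).eq).symm
      rcases Int.even_or_odd' l with ⟨j, hj | hj⟩
      · -- `e w` commutes with the reflection
        rw [hl', hj, hzz, mul_one] at hwe
        obtain ⟨Dx, zx, hX⟩ := href c
        have hxS := hX.vS
        have hT : e * w ∈ Dx := hX.cent_v (mul_mem heS hW.vS) (by
          calc e * w * (r ^ c * v) = e * (w * (r ^ c * v) * w⁻¹) * w := by group
            _ = e * z * (r ^ c * v) * w := by rw [hx, ← mul_assoc e z]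
            _ = _ := by rw [← hxe, ← mul_assoc (r ^ c * v)])
        have h4 := hX.sq_fix _ hT
        rw [show e * w * (e * w) = e * (w * e * w⁻¹) * (w * w) by group, hwe, hW.v_sq, hee, mul_one] at h4
        exact hX.z_fix ((h0.z_eq hX).symm ▸ h4)
      · -- the reflection `e x` is fixed
        rw [hl', hj, zpow_add, hzz, one_mul, zpow_one] at hwe
        refine hwM (hcomm w hw ((2 ^ k : ℕ) + c) ?_)
        rw [zpow_add, zpow_natCast, ← he, mul_assoc e (r ^ c) v]
        refine mul_inv_eq_iff_eq_mul.1 ?_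
        calc w * (e * (r ^ c * v)) * w⁻¹ = w * e * w⁻¹ * (w * (r ^ c * v) * w⁻¹) := by group
          _ = e * (z * z) * (r ^ c * v) := by rw [hwe, hx]; group
          _ = _ := by rw [h0.z_sq, mul_one]
  have hmap : ∀ n : G, n * v * n⁻¹ ∈ M → n * u * n⁻¹ ∈ M → n ∈ normalizer (M : Set G) := by
    intro n h1 h2
    refine mem_normalizer_fintype fun a ha => ?_
    have hsub : M.map (MulAut.conj n).toMonoidHom ≤ M := by
      conv_lhs => rw [hM, MonoidHom.map_closure]
      rw [closure_le]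
      rintro _ ⟨g, (rfl | rfl), rfl⟩
      · exact h1
      · exact h2
    exact hsub ⟨a, ha, rfl⟩
  have hmark : ∀ x, Mark S x → x ∈ M := by
    intro x hx
    refine hnone x hx ?_
    by_contra hxN
    have hlt : (S : Subgroup G) ⊓ normalizer (M : Set G) < (S : Subgroup G) :=
      lt_of_le_of_ne inf_le_left fun e => hxN (mem_inf.1 (e.ge hx.memS)).2
    obtain ⟨s, hs, hsT⟩ := SetLike.exists_of_lt (Transfer.lt_inf_normalizer S hlt)
    obtain ⟨hsS, hsN⟩ := mem_inf.1 hs
    refine hsT (mem_inf.2 ⟨hsS, hmap s ?_ ?_⟩)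
    · exact hnone _ (hv.mark.conj (le_normalizer hsS))
        (mem_inf.1 ((mem_normalizer_iff.1 hsN v).1 (mem_inf.2 ⟨hv.vS, le_normalizer hvM⟩))).2
    · exact hnone _ (hu.mark.conj (le_normalizer hsS))
        (mem_inf.1 ((mem_normalizer_iff.1 hsN u).1 (mem_inf.2 ⟨hu.vS, le_normalizer huM⟩))).2
  refine ⟨M, hMS, hmark, hzM, ⟨k, ?_⟩, fun n hn => hmap n (hmark _ (hv.mark.conj hn)) (hmark _ (hu.mark.conj hn))⟩
  rw [hM, ← hk, hr]
  exact Invol.nonempty_mulEquiv_dihedralGroup hv.orderOf_eq_two hu.orderOf_eq_two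

end Cfsg.Agent.Fus.AbInt
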