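import Cfsg.Agent.Lib.Fus.AbInt.Basic
import Cfsg.Agent.Lib.Grp.Basic

/-!
# The action of `N(D)` on the involutions of an essential abelian subgroup
-/

set_option autoImplicit false
set_option linter.unusedSectionVars false
set_option linter.style.haveILetI false

open scoped commutatorElement

namespace Cfsg.Agent.Fus.AbInt

open Subgroup

universe u

variable {G : Type u} [Group G]

/-- `N_S(D)`. -/
def nsyl (S : Sylow 2 G) (D : Subgroup G) : Subgroup G := (S : Subgroup G) ⊓ normalizer (D : Set G)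

/-- The subgroup generated by the conjugates of `N_S(D)` in `N(D)`. -/
def clo (S : Sylow 2 G) (D : Subgroup G) : Subgroup G :=
  closure {x | ∃ n ∈ normalizer (D : Set G), ∃ r ∈ nsyl S D, x = n * r * n⁻¹}

/-- The points of `D` fixed by `clo S D`. -/
def fix (S : Sylow 2 G) (D : Subgroup G) : Subgroup G := D ⊓ centralizer (clo S D : Set G)

/-- The elements of order at most two of an abelian subgroup. -/
def omega {D : Subgroup G} (h : ∀ x ∈ D, ∀ y ∈ D, x * y = y * x) : Subgroup G where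
  carrier := {x | x ∈ D ∧ x * x = 1}
  one_mem' := ⟨one_mem _, one_mul 1⟩
  mul_mem' := by
    rintro x y ⟨hx, hx2⟩ ⟨hy, hy2⟩
    refine ⟨mul_mem hx hy, ?_⟩
    calc x * y * (x * y) = x * (y * x) * y := by group
      _ = x * (x * y) * y := by rw [h x hx y hy]
      _ = (x * x) * (y * y) := by group
      _ = 1 := by rw [hx2, hy2, one_mul]
  inv_mem' := by
    rintro x ⟨hx, hx2⟩
    exact ⟨inv_mem hx, by rw [← mul_inv_rev, hx2, inv_one]⟩

theorem mem_omega {D : Subgroup G} (h : ∀ x ∈ D, ∀ y ∈ D, x * y = y * x) {x : G} :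
    x ∈ omega h ↔ x ∈ D ∧ x * x = 1 := Iff.rfl

variable {S : Sylow 2 G}

theorem nsyl_le_clo (D : Subgroup G) : nsyl S D ≤ clo S D := fun r hr =>
  subset_closure ⟨1, one_mem _, r, hr, by group⟩

theorem clo_le (D : Subgroup G) : clo S D ≤ normalizer (D : Set G) := by
  rw [clo, closure_le]
  rintro _ ⟨n, hn, r, hr, rfl⟩
  exact mul_mem (mul_mem hn hr.2) (inv_mem hn)

theorem conj_mem_clo {D : Subgroup G} {n x : G} (hn : n ∈ normalizer (D : Set G)) (hx : x ∈ clo S D) :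
    n * x * n⁻¹ ∈ clo S D := by
  have h : (clo S D).map (MulAut.conj n).toMonoidHom ≤ clo S D := by
    rw [clo, MonoidHom.map_closure, closure_le]
    rintro _ ⟨_, ⟨m, hm, r, hr, rfl⟩, rfl⟩
    exact subset_closure ⟨n * m, mul_mem hn hm, r, hr, by simp [mul_assoc]⟩
  exact h ⟨x, hx, rfl⟩

theorem conj_mem_fix {D : Subgroup G} {n x : G} (hn : n ∈ normalizer (D : Set G)) (hx : x ∈ fix S D) :
    n * x * n⁻¹ ∈ fix S D := by
  refine ⟨(mem_normalizer_iff.1 hn x).1 hx.1, mem_centralizer_iff.2 fun y hy => ?_⟩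
  have hy' : n⁻¹ * y * n ∈ clo S D := by simpa using conj_mem_clo (inv_mem hn) hy
  calc y * (n * x * n⁻¹) = n * ((n⁻¹ * y * n) * x) * n⁻¹ := by group
    _ = n * (x * (n⁻¹ * y * n)) * n⁻¹ := by rw [mem_centralizer_iff.1 hx.2 _ hy']
    _ = _ := by group

namespace Ess

variable [Finite G] {D : Subgroup G} (hD : Ess S D)
include hD

theorem centralizer_inf : ∀ x ∈ nsyl S D, x ∈ centralizer (D : Set G) → x ∈ D := fun x hx hc =>
  hD.self x hx.1 fun d hd => (mem_centralizer_iff.1 hc d hd).symm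

/-- An element of odd order fixing the involutions of `D` centralises `D`. -/
theorem odd_centralizes {n : G} (hn : n ∈ normalizer (D : Set G)) (hfix : ∀ x ∈ omega hD.comm, n * x * n⁻¹ = x)
    (hodd : Odd (orderOf n)) : n ∈ centralizer (D : Set G) := by
  suffices h : ∀ d ∈ D, n * d * n⁻¹ = d by
    exact mem_centralizer_iff.2 fun d hd => (mul_inv_eq_iff_eq_mul.1 (h d hd)).symm
  intro d hd
  haveI : Fact (Nat.Prime 2) := ⟨Nat.prime_two⟩
  obtain ⟨k, hk⟩ := (S.isPGroup'.to_le hD.le) ⟨d, hd⟩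
  have hk' : d ^ 2 ^ k = 1 := congrArg Subtype.val hk
  clear hk
  induction k generalizing d with
  | zero => rw [show d = 1 by simpa using hk', mul_one, mul_inv_cancel]
  | succ k ih =>
    have h2 : n * (d * d) * n⁻¹ = d * d :=
      ih (d * d) (mul_mem hd hd) (by rw [← pow_two, ← pow_mul, ← pow_succ', hk'])
    obtain ⟨c, hc⟩ : ∃ c, c = n * d * n⁻¹ * d⁻¹ := ⟨_, rfl⟩
    have hdn : n * d * n⁻¹ ∈ D := (mem_normalizer_iff.1 hn d).1 hd
    have hcO : c ∈ omega hD.comm := by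
      refine ⟨hc ▸ mul_mem hdn (inv_mem hd), ?_⟩
      calc c * c = n * d * n⁻¹ * (d⁻¹ * (n * d * n⁻¹)) * d⁻¹ := by rw [hc]; group
        _ = n * d * n⁻¹ * ((n * d * n⁻¹) * d⁻¹) * d⁻¹ := by rw [hD.comm _ (inv_mem hd) _ hdn]
        _ = n * (d * d) * n⁻¹ * (d * d)⁻¹ := by group
        _ = 1 := by rw [h2, mul_inv_cancel]
    have hiter : ∀ j : ℕ, n ^ j * d * (n ^ j)⁻¹ = c ^ j * d := by
      intro j
      induction j with
      | zero => simp
      | succ j ihj =>
        have hcj : n * c ^ j * n⁻¹ = c ^ j := hfix _ (pow_mem hcO j)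
        calc n ^ (j + 1) * d * (n ^ (j + 1))⁻¹ = n * (n ^ j * d * (n ^ j)⁻¹) * n⁻¹ := by rw [pow_succ']; group
          _ = (n * c ^ j * n⁻¹) * (n * d * n⁻¹) := by rw [ihj]; group
          _ = c ^ (j + 1) * d := by rw [hcj, pow_succ, show n * d * n⁻¹ = c * d by rw [hc]; group, mul_assoc]
    obtain ⟨j, hj⟩ := hodd
    have h := hiter (orderOf n)
    rw [pow_orderOf_eq_one, one_mul, inv_one, mul_one, hj, pow_succ, pow_mul, pow_two, hcO.2, one_pow, one_mul] at h
    calc n * d * n⁻¹ = c * d := by rw [hc]; group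
      _ = d := h.symm

variable (hA : AbelianMeet G)
include hA

/-- `N(D)` acts faithfully on the involutions of `D`, modulo `C(D)`. -/
theorem centralizes {n : G} (hn : n ∈ normalizer (D : Set G)) (hfix : ∀ x ∈ omega hD.comm, n * x * n⁻¹ = x) :
    n ∈ centralizer (D : Set G) := by
  haveI : Fact (Nat.Prime 2) := ⟨Nat.prime_two⟩
  obtain ⟨K, hK⟩ : ∃ K : Subgroup G, K = normalizer (D : Set G) ⊓ centralizer (omega hD.comm : Set G) := ⟨_, rfl⟩
  obtain ⟨C, hC⟩ : ∃ C : Subgroup G, C = centralizer (D : Set G) := ⟨_, rfl⟩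
  have hfixK : ∀ k ∈ K, ∀ x ∈ omega hD.comm, k * x * k⁻¹ = x := fun k hk x hx => by
    rw [← mem_centralizer_iff.1 (hK.le hk).2 x hx, mul_inv_cancel_right]
  have hKmem : ∀ k, k ∈ normalizer (D : Set G) → (∀ x ∈ omega hD.comm, k * x * k⁻¹ = x) → k ∈ K := fun k h1 h2 =>
    hK ▸ ⟨h1, mem_centralizer_iff.2 fun x hx => (mul_inv_eq_iff_eq_mul.1 (h2 x hx)).symm⟩
  have hCK : C ≤ K := fun c hc => hKmem c (centralizer_le_normalizer _ (hC.le hc)) fun x hx => by
    rw [← mem_centralizer_iff.1 (hC.le hc) x hx.1, mul_inv_cancel_right]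
  have hKN : ∀ m ∈ normalizer (D : Set G), ∀ k ∈ K, m * k * m⁻¹ ∈ K := by
    intro m hm k hk
    refine hKmem _ (mul_mem (mul_mem hm (hK.le hk).1) (inv_mem hm)) fun x hx => ?_
    have hx' : m⁻¹ * x * m ∈ omega hD.comm := by
      refine ⟨by simpa using (mem_normalizer_iff.1 (inv_mem hm) x).1 hx.1, ?_⟩
      rw [show m⁻¹ * x * m * (m⁻¹ * x * m) = m⁻¹ * (x * x) * m by group, hx.2, mul_one, inv_mul_cancel]
    calc m * k * m⁻¹ * x * (m * k * m⁻¹)⁻¹ = m * (k * (m⁻¹ * x * m) * k⁻¹) * m⁻¹ := by group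
      _ = x := by rw [hfixK k hk _ hx']; group
  obtain ⟨P, hP⟩ : ∃ P : Subgroup G, P = nsyl S D ⊓ K := ⟨_, rfl⟩
  have hPp : IsPGroup 2 P := S.isPGroup'.to_le ((hP.le.trans inf_le_left).trans inf_le_left)
  have hPodd : ¬ 2 ∣ P.relIndex K := by
    obtain ⟨T, hT⟩ := (hPp.comap_of_injective K.subtype K.subtype_injective : IsPGroup 2 (P.subgroupOf K)).exists_le_sylow
    obtain ⟨m, hm, hmT⟩ := exists_conj_mem (N := normalizer (D : Set G)) (S.isPGroup'.to_le inf_le_left) inf_le_right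
      (hD.not_two_dvd hA) (T.isPGroup'.map K.subtype) ((map_subtype_le _).trans (hK.le.trans inf_le_left))
    have hcard : Nat.card ((T : Subgroup ↥K).map K.subtype) ≤ Nat.card P :=
      Nat.card_le_card_of_injective
        (fun w => (⟨m * w * m⁻¹, hP ▸ ⟨hmT w w.2, hKN m hm w (map_subtype_le _ w.2)⟩⟩ : P))
        fun a b hab => Subtype.ext (mul_left_cancel (mul_right_cancel (congrArg Subtype.val hab)))
    rw [card_map_of_injective K.subtype_injective] at hcard
    have h3 : P.subgroupOf K = T := eq_of_le_of_card_ge hT (hcard.trans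
      (Nat.card_congr (subgroupOfEquivOfLe (hP.le.trans inf_le_right)).toEquiv).ge)
    rw [relIndex, h3]
    exact T.not_dvd_index
  -- `K = P C(D)`
  have hgen : K ≤ P ⊔ C := by
    haveI hCn : (C.subgroupOf K).Normal := ⟨fun c hc k => by
      rw [mem_subgroupOf] at hc ⊢
      rw [hC] at hc ⊢
      refine mem_centralizer_iff.2 fun d hd => ?_
      have hd' : (k : G)⁻¹ * d * k ∈ D := by simpa using (mem_normalizer_iff.1 (inv_mem (hK.le k.2).1) d).1 hd
      rw [coe_mul, coe_mul, coe_inv]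
      calc d * ((k : G) * c * (k : G)⁻¹) = k * (((k : G)⁻¹ * d * k) * c) * (k : G)⁻¹ := by group
        _ = k * (c * ((k : G)⁻¹ * d * k)) * (k : G)⁻¹ := by rw [mem_centralizer_iff.1 hc _ hd']
        _ = _ := by group⟩
    have hq : IsPGroup 2 (↥K ⧸ C.subgroupOf K) := by
      intro y
      obtain ⟨k, rfl⟩ := QuotientGroup.mk_surjective y
      obtain ⟨e, m, hmodd, hkord⟩ := Nat.exists_eq_pow_mul_and_not_dvd (orderOf_pos (k : G)).ne' 2 (by norm_num)
      refine ⟨e, ?_⟩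
      rw [← QuotientGroup.mk_pow, QuotientGroup.eq_one_iff, mem_subgroupOf, hC, coe_pow]
      refine hD.odd_centralizes (pow_mem (hK.le k.2).1 _) (hfixK _ (pow_mem k.2 _)) ?_
      have h1 : orderOf ((k : G) ^ 2 ^ e) ∣ m := orderOf_dvd_of_pow_eq_one (by
        rw [← pow_mul, ← hkord, pow_orderOf_eq_one])
      exact (Nat.not_even_iff_odd.1 fun h => hmodd ((even_iff_two_dvd.1 h))).of_dvd_nat h1
    obtain ⟨i, hi⟩ := IsPGroup.iff_card.1 hq
    have h1 : (P ⊔ C).relIndex K ∣ C.relIndex K := relIndex_dvd_of_le_left K le_sup_right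
    have h2 : (P ⊔ C).relIndex K ∣ P.relIndex K := relIndex_dvd_of_le_left K le_sup_left
    rw [show C.relIndex K = 2 ^ i from hi] at h1
    refine relIndex_eq_one.1 ?_
    obtain ⟨j, -, hj⟩ := (Nat.dvd_prime_pow Nat.prime_two).1 h1
    rcases Nat.eq_zero_or_pos j with rfl | hj0
    · rw [hj, pow_zero]
    · exact absurd ((hj ▸ dvd_pow_self 2 hj0.ne').trans h2) hPodd
  by_cases hPC : P ≤ C
  · exact hC ▸ sup_le hPC le_rfl (hgen (hKmem n hn hfix))
  exfalso
  obtain ⟨x, hxP, hxC⟩ := SetLike.not_le_iff_exists.1 hPC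
  obtain ⟨n₀, hn₀, hout⟩ := hD.out
  obtain ⟨k, hk, hkP⟩ := exists_conj_mem hPp (hP.le.trans inf_le_right) hPodd
    (hPp.map (MulAut.conj n₀).toMonoidHom) (by
      rintro _ ⟨p, hp, rfl⟩
      exact hKN n₀ hn₀ p (hP.le hp).2)
  have hkn : k * n₀ ∈ normalizer ((S : Subgroup G) : Set G) := by
    refine hD.mem_normalizer hA (mul_mem (hK.le hk).1 hn₀) (hP.le hxP).1.1
      (fun h => hxC (hC ▸ mem_centralizer_iff.2 fun d hd => hD.comm d hd x h)) ?_
    have := (hP.le (hkP _ ⟨x, hxP, rfl⟩)).1.1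
    rw [show k * n₀ * x * (k * n₀)⁻¹ = k * (n₀ * x * n₀⁻¹) * k⁻¹ by group]
    exact this
  obtain ⟨p, hp, c, hc, hpc⟩ : ∃ p ∈ P, ∃ c ∈ C, k = p * c := by
    have hPn : P ≤ normalizer (C : Set G) := fun p hp => by
      refine mem_normalizer_fintype fun c hc => ?_
      rw [hC] at hc ⊢
      refine mem_centralizer_iff.2 fun d hd => ?_
      have hpN := (hP.le hp).1.2
      have hd' : p⁻¹ * d * p ∈ D := by simpa using (mem_normalizer_iff.1 (inv_mem hpN) d).1 hd
      calc d * (p * c * p⁻¹) = p * ((p⁻¹ * d * p) * c) * p⁻¹ := by group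
        _ = p * (c * (p⁻¹ * d * p)) * p⁻¹ := by rw [mem_centralizer_iff.1 hc _ hd']
        _ = _ := by group
    have h := hgen hk
    rw [← SetLike.mem_coe, coe_mul_of_left_le_normalizer_right P C hPn] at h
    obtain ⟨p, hp, c, hc, h⟩ := h
    exact ⟨p, hp, c, hc, h.symm⟩
  refine hout c (hC ▸ hc) ?_
  rw [show c * n₀ = p⁻¹ * (k * n₀) by rw [hpc]; group]
  exact mul_mem (inv_mem (le_normalizer (hP.le hp).1.1)) hkn

/-- An element of `N(D)` mapping `N_S(D)` into `N_S(D) C(D)` lies in `C(D) N(N_S(D))`. -/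
theorem exists_fixing {n : G} (hn : n ∈ normalizer (D : Set G))
    (h : ∀ r ∈ nsyl S D, n * r * n⁻¹ ∈ nsyl S D ⊔ centralizer (D : Set G)) :
    ∃ c ∈ centralizer (D : Set G), c * n ∈ normalizer ((S : Subgroup G) : Set G) := by
  obtain ⟨C, hC⟩ : ∃ C : Subgroup G, C = centralizer (D : Set G) := ⟨_, rfl⟩
  rw [← hC] at h ⊢
  have hCN : C ≤ normalizer (D : Set G) := hC ▸ centralizer_le_normalizer _
  have hMN : nsyl S D ⊔ C ≤ normalizer (D : Set G) := sup_le inf_le_right hCN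
  have hodd : ¬ 2 ∣ (nsyl S D).relIndex (nsyl S D ⊔ C) := fun hd =>
    hD.not_two_dvd hA (hd.trans (Dvd.intro _ (relIndex_mul_relIndex _ _ _ le_sup_left hMN)))
  obtain ⟨m, hm, hmR⟩ := exists_conj_mem (S.isPGroup'.to_le inf_le_left) le_sup_left hodd
    ((S.isPGroup'.to_le inf_le_left : IsPGroup 2 (nsyl S D)).map (MulAut.conj n).toMonoidHom)
    (by rintro _ ⟨r, hr, rfl⟩; exact h r hr)
  have hRn : nsyl S D ≤ normalizer (C : Set G) := fun p hp => by
    refine mem_normalizer_fintype fun c hc => ?_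
    rw [hC] at hc ⊢
    refine mem_centralizer_iff.2 fun d hd => ?_
    have hd' : p⁻¹ * d * p ∈ D := by simpa using (mem_normalizer_iff.1 (inv_mem hp.2) d).1 hd
    calc d * (p * c * p⁻¹) = p * ((p⁻¹ * d * p) * c) * p⁻¹ := by group
      _ = p * (c * (p⁻¹ * d * p)) * p⁻¹ := by rw [mem_centralizer_iff.1 hc _ hd']
      _ = _ := by group
  change m ∈ nsyl S D ⊔ C at hm
  rw [← SetLike.mem_coe, coe_mul_of_left_le_normalizer_right _ C hRn] at hm
  obtain ⟨r, hr, c, hc, rfl⟩ := hm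
  obtain ⟨x, hx, hxD⟩ := hD.exists_normalizing
  refine ⟨c, hc, ?_⟩
  have h1 : r * c * n ∈ normalizer ((S : Subgroup G) : Set G) :=
    hD.mem_normalizer hA (mul_mem (mul_mem hr.2 (hCN hc)) hn) hx.1 hxD (by
      have := (hmR _ ⟨x, hx, rfl⟩).1
      rw [show r * c * n * x * (r * c * n)⁻¹ = r * c * (n * x * n⁻¹) * (r * c)⁻¹ by group]
      exact this)
  rw [show c * n = r⁻¹ * (r * c * n) by group]
  exact mul_mem (inv_mem (le_normalizer hr.1)) h1

end Ess

end Cfsg.Agent.Fus.AbInt
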