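import Cfsg.Agent.Lib.Fus.FFEmbeddedMain

/-!
# An offender on an elementary abelian module of a group with a TI Sylow 2-subgroup

The offender is the whole Sylow subgroup and the module is natural for `SL₂(q)` modulo fixed points:
the facts used here are stated without coordinates.
-/

set_option autoImplicit false
set_option linter.unusedSectionVars false
set_option linter.style.haveILetI false

open scoped commutatorElement

namespace Cfsg.Agent.Fus.AbInt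

open Subgroup Matrix

universe u

variable {G : Type u} [Group G]

/-- An elementary abelian `V` acted on faithfully by `Γ`, which is generated by 2-elements, has the TI Sylow
2-subgroup `Q`, not normal, and a non-trivial abelian offender `A ≤ Q`. -/
structure OffSit (V Γ Q A : Subgroup G) : Prop where
  vcomm : ∀ x ∈ V, ∀ y ∈ V, x * y = y * x
  vexp : ∀ x ∈ V, x * x = 1
  norm : ∀ g ∈ Γ, ∀ x ∈ V, g * x * g⁻¹ ∈ V
  faith : Γ ⊓ centralizer (V : Set G) = ⊥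
  syl : Grp.IsSylowIn 2 Q Γ
  moved : ¬ Γ ≤ normalizer (Q : Set G)
  ti : ∀ g ∈ Γ, g ∉ normalizer (Q : Set G) → ∀ z ∈ Q, z ≠ 1 → g⁻¹ * z * g ∉ Q
  gen : ∀ R : Subgroup G, (∀ x ∈ Γ, (∃ k : ℕ, x ^ 2 ^ k = 1) → x ∈ R) → Γ ≤ R
  aQ : A ≤ Q
  ane : A ≠ ⊥
  acomm : ∀ x ∈ A, ∀ y ∈ A, x * y = y * x
  off : Nat.card V ≤ Nat.card A * Nat.card ↥(V ⊓ centralizer (A : Set G))

/-- What an offender forces. -/
structure Natural (V Γ Q A : Subgroup G) : Prop where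
  eq : A = Q
  qexp : ∀ x ∈ Q, x * x = 1
  card_V : Nat.card V = Nat.card Q * Nat.card ↥(V ⊓ centralizer (Q : Set G))
  card_W : Nat.card ↥(V ⊓ centralizer (Q : Set G)) = Nat.card Q * Nat.card ↥(V ⊓ centralizer (Γ : Set G))
  fix : ∀ a ∈ Q, a ≠ 1 → ∀ v ∈ V, a * v * a⁻¹ = v → v ∈ V ⊓ centralizer (Q : Set G)
  comm_not : ∀ a ∈ Q, a ≠ 1 → ∀ v ∈ V, v ∉ V ⊓ centralizer (Q : Set G) → ⁅a, v⁆ ∉ V ⊓ centralizer (Γ : Set G)
  trans : ∀ w₁ ∈ V ⊓ centralizer (Q : Set G), ∀ w₂ ∈ V ⊓ centralizer (Q : Set G),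
    w₁ ∉ V ⊓ centralizer (Γ : Set G) → w₂ ∉ V ⊓ centralizer (Γ : Set G) →
    ∃ γ ∈ Γ ⊓ normalizer (Q : Set G), γ * w₁ * γ⁻¹ * w₂⁻¹ ∈ V ⊓ centralizer (Γ : Set G)
  rigid : ∀ γ ∈ Γ, ∀ w ∈ V ⊓ centralizer (Q : Set G),
    γ * w * γ⁻¹ * w⁻¹ ∈ V ⊓ centralizer (Γ : Set G) → γ * w * γ⁻¹ = w

variable {F : Type*} [Field F]

/-- An element of `SL₂` fixing a non-zero vector is unipotent. -/
theorem unipotent_of_fix (M : Matrix.SpecialLinearGroup (Fin 2) F) {y : Fin 2 → F} (hy : y ≠ 0)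
    (h : (M : Matrix (Fin 2) (Fin 2) F) *ᵥ y = y) :
    ((M : Matrix (Fin 2) (Fin 2) F) - 1) * ((M : Matrix (Fin 2) (Fin 2) F) - 1) = 0 := by
  have hdet : (M : Matrix (Fin 2) (Fin 2) F) 0 0 * (M : Matrix (Fin 2) (Fin 2) F) 1 1 -
      (M : Matrix (Fin 2) (Fin 2) F) 0 1 * (M : Matrix (Fin 2) (Fin 2) F) 1 0 = 1 := by
    rw [← Matrix.det_fin_two]; exact M.2
  have hN : ((M : Matrix (Fin 2) (Fin 2) F) - 1).det = 0 :=
    Matrix.exists_mulVec_eq_zero_iff.1 ⟨y, hy, by rw [Matrix.sub_mulVec, h, Matrix.one_mulVec, sub_self]⟩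
  rw [Matrix.det_fin_two] at hN
  simp at hN
  have htr : (M : Matrix (Fin 2) (Fin 2) F) 0 0 + (M : Matrix (Fin 2) (Fin 2) F) 1 1 = 2 := by
    linear_combination hdet - hN
  ext i j
  fin_cases i <;> fin_cases j <;> simp [Matrix.mul_apply, Fin.sum_univ_two]
  · linear_combination ((M : Matrix (Fin 2) (Fin 2) F) 0 0) * htr - hdet
  · linear_combination ((M : Matrix (Fin 2) (Fin 2) F) 0 1) * htr
  · linear_combination ((M : Matrix (Fin 2) (Fin 2) F) 1 0) * htr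
  · linear_combination ((M : Matrix (Fin 2) (Fin 2) F) 1 1) * htr - hdet

/-- The fixed points of a non-trivial element of `SL₂` fixing `y` are the multiples of `y`. -/
theorem fixed_line (M : Matrix.SpecialLinearGroup (Fin 2) F) (hM : M ≠ 1) {y x : Fin 2 → F} (hy : y ≠ 0)
    (h : (M : Matrix (Fin 2) (Fin 2) F) *ᵥ y = y) (hx : (M : Matrix (Fin 2) (Fin 2) F) *ᵥ x = x) :
    ∃ c : F, x = c • y := by
  by_contra hc
  push Not at hc
  have hli : LinearIndependent F ![y, x] := by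
    rw [LinearIndependent.pair_iff]
    intro s t hst
    have ht : t = 0 := by
      by_contra ht
      refine hc (-(s / t)) (smul_right_injective _ ht ?_)
      show t • x = t • (-(s / t)) • y
      rw [smul_smul, show t * -(s / t) = -s by field_simp, neg_smul]
      exact eq_neg_of_add_eq_zero_right hst
    subst ht
    simp only [zero_smul, add_zero, smul_eq_zero] at hst
    exact ⟨hst.resolve_right hy, rfl⟩
  refine hM (Subtype.ext (Matrix.toLin'.injective ((basisOfLinearIndependentOfCardEqFinrank hli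
    (by simp)).ext fun i => ?_)))
  fin_cases i <;> simp [h, hx]

variable {G : Type u} [Group G] [Finite G] {V Γ Q A : Subgroup G}

namespace OffSit

variable (S : OffSit V Γ Q A)
include S

/-- The Sylow subgroup is normal in its normaliser in `Γ`. -/
theorem mem_of_two {z : G} (hz : z ∈ Γ ⊓ normalizer (Q : Set G)) (hp : ∃ k : ℕ, z ^ 2 ^ k = 1) : z ∈ Q := by
  haveI : Fact (Nat.Prime 2) := ⟨Nat.prime_two⟩
  obtain ⟨k, hk⟩ := hp
  have hzp : IsPGroup 2 (zpowers z) := by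
    rintro ⟨w, hw⟩
    obtain ⟨i, rfl⟩ := mem_zpowers_iff.1 hw
    exact ⟨k, Subtype.ext (by
      show (z ^ i) ^ 2 ^ k = 1
      rw [← zpow_natCast, ← _root_.zpow_mul, mul_comm, _root_.zpow_mul, zpow_natCast, hk, _root_.one_zpow])⟩
  have h := S.syl.eq_of_le (Y := Q ⊔ zpowers z) le_sup_left (sup_le S.syl.1 (zpowers_le.2 hz.1))
    (S.syl.2.1.to_sup_of_normal_left' hzp (zpowers_le.2 hz.2))
  exact h.symm ▸ mem_sup_right (mem_zpowers z)

theorem natural : Natural V Γ Q A := by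
  classical
  haveI : Fact (Nat.Prime 2) := ⟨Nat.prime_two⟩
  obtain ⟨B, ⟨hBA, hBne, hBoff⟩, hmin⟩ := Set.exists_min_image
    {B : Subgroup G | B ≤ A ∧ B ≠ ⊥ ∧ Nat.card V ≤ RootPair.meas V B} (fun B => Nat.card B) (Set.toFinite _)
    ⟨A, le_rfl, S.ane, S.off⟩
  have hmem : RootPair.Member 2 V Γ B := by
    refine ⟨hBA.trans (S.aQ.trans S.syl.1), hBne, S.syl.2.1.to_le (hBA.trans S.aQ),
      fun x hx y hy => S.acomm x (hBA hx) y (hBA hy), hBoff, fun B₀ hB₀ hne hne' => ?_⟩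
    by_contra hlt
    push Not at hlt
    exact hne' (eq_of_le_of_card_ge hB₀ (hmin B₀ ⟨hB₀.trans hBA, hne, hBoff.trans hlt⟩))
  have hC : FFEmb.Ctx 2 V Γ (Γ ⊓ normalizer (Q : Set G)) Q B :=
    { vcomm := S.vcomm
      vexp := fun x hx => by rw [pow_two, S.vexp x hx]
      norm := S.norm
      faith := S.faith
      yle := inf_le_left
      syl := S.syl
      sy := le_inf S.syl.1 le_normalizer
      out := fun h => S.moved (h.trans inf_le_right)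
      ti := fun g hg hgY z hz hz1 hzp hmem => by
        obtain ⟨k, hk⟩ := hzp
        refine S.ti g hg (fun h => hgY ⟨hg, h⟩) z (S.mem_of_two hz ⟨k, hk⟩) hz1 (S.mem_of_two hmem ⟨k, ?_⟩)
        rw [show g⁻¹ * z * g = g⁻¹ * z * g⁻¹⁻¹ by rw [inv_inv], conj_pow, hk, mul_one, mul_inv_cancel]
      mem := hmem
      aS := hBA.trans S.aQ }
  obtain ⟨F, _, _, ⟨iso⟩, -, -, ρ, ψ, hρ, hψ, hker, hact⟩ := hC.main S.gen
  have hinj : Function.Injective ρ :=
    ((Nat.bijective_iff_surjective_and_card ρ).2 ⟨MonoidHom.range_eq_top.1 hρ, Nat.card_congr iso.toEquiv⟩).1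
  obtain ⟨U, hU⟩ : ∃ U, U = V ⊓ centralizer (Γ : Set G) := ⟨_, rfl⟩
  obtain ⟨W, hW⟩ : ∃ W, W = V ⊓ centralizer (Q : Set G) := ⟨_, rfl⟩
  have hUW : U ≤ W := by
    rw [hU, hW]; exact inf_le_inf le_rfl (centralizer_le (SetLike.coe_subset_coe.2 S.syl.1))
  obtain ⟨Λ, hΛ⟩ : ∃ Λ : G → (Fin 2 → F), ∀ (v : G) (hv : v ∈ V), Λ v = Multiplicative.toAdd (ψ ⟨v, hv⟩) :=
    ⟨fun v => if hv : v ∈ V then Multiplicative.toAdd (ψ ⟨v, hv⟩) else 0, fun v hv => dif_pos hv⟩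
  have hΛm : ∀ v ∈ V, ∀ w ∈ V, Λ (v * w) = Λ v + Λ w := fun v hv w hw => by
    rw [hΛ v hv, hΛ w hw, hΛ _ (mul_mem hv hw), ← toAdd_mul, ← map_mul]; rfl
  have hΛ0 : ∀ v ∈ V, (Λ v = 0 ↔ v ∈ U) := fun v hv => by
    rw [hΛ v hv, hU, ← hker ⟨v, hv⟩]
    exact ⟨fun h => Multiplicative.toAdd.injective (h.trans toAdd_one.symm), fun h => by rw [h]; rfl⟩
  have hΛc : ∀ (g : ↥Γ) (v : G), v ∈ V → Λ ((g : G) * v * (g : G)⁻¹) =
      ((ρ g : Matrix.SpecialLinearGroup (Fin 2) F) : Matrix (Fin 2) (Fin 2) F) *ᵥ Λ v := by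
    intro g v hv
    obtain ⟨w, hw, hwa⟩ := hact g ⟨v, hv⟩
    rw [← hw, hΛ _ w.2, hwa, ← hΛ v hv]
  have hsurj : ∀ y, ∃ v ∈ V, Λ v = y := fun y => by
    obtain ⟨v, hv⟩ := hψ (Multiplicative.ofAdd y)
    exact ⟨v, v.2, by rw [hΛ _ v.2, hv]; rfl⟩
  -- the characteristic is two
  obtain ⟨a₀, ha₀, ha₀1⟩ : ∃ a ∈ Q, a ≠ 1 := by
    obtain ⟨⟨a, ha⟩, ha1⟩ := A.ne_bot_iff_exists_ne_one.1 S.ane
    exact ⟨a, S.aQ ha, fun h => ha1 (Subtype.ext h)⟩
  have h20 : (2 : F) = 0 := by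
    obtain ⟨v, hv, hvy⟩ := hsurj ![1, 0]
    have h1 : Λ (v * v) = 0 := by rw [S.vexp v hv]; exact (hΛ0 1 (one_mem _)).2 (one_mem _)
    rw [hΛm v hv v hv, hvy] at h1
    have := congrFun h1 0
    simp at this
    linear_combination this
  haveI : CharP F 2 := CharTwo.of_one_ne_zero_of_two_eq_zero one_ne_zero h20
  -- a point fixed by the Sylow subgroup
  obtain ⟨y₀, hy₀, hQy₀⟩ : ∃ y₀ : Fin 2 → F, y₀ ≠ 0 ∧ ∀ (a : ↥Γ), (a : G) ∈ Q →
      ((ρ a : Matrix.SpecialLinearGroup (Fin 2) F) : Matrix (Fin 2) (Fin 2) F) *ᵥ y₀ = y₀ := by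
    letI : MulAction ↥Q (Fin 2 → F) :=
      { smul := fun a y => ((ρ ⟨a, S.syl.1 a.2⟩ : Matrix.SpecialLinearGroup (Fin 2) F) : Matrix (Fin 2) (Fin 2) F) *ᵥ y
        one_smul := fun y => by
          show ((ρ (1 : ↥Γ) : Matrix.SpecialLinearGroup (Fin 2) F) : Matrix (Fin 2) (Fin 2) F) *ᵥ y = y
          rw [map_one, Matrix.SpecialLinearGroup.coe_one, Matrix.one_mulVec]
        mul_smul := fun a b y => by
          show ((ρ ((⟨a, S.syl.1 a.2⟩ : ↥Γ) * ⟨b, S.syl.1 b.2⟩) : Matrix.SpecialLinearGroup (Fin 2) F) :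
            Matrix (Fin 2) (Fin 2) F) *ᵥ y = _
          rw [map_mul, Matrix.SpecialLinearGroup.coe_mul, ← Matrix.mulVec_mulVec]
          rfl }
    have h2dvd : 2 ∣ Nat.card (Fin 2 → F) := by
      haveI : Fintype F := Fintype.ofFinite F
      rw [Nat.card_eq_fintype_card, Fintype.card_fun, Fintype.card_fin]
      exact dvd_pow ((prime_dvd_char_iff_dvd_card 2).1 (by rw [ringChar.eq F 2])) two_ne_zero
    obtain ⟨y, hy, hy0⟩ := S.syl.2.1.exists_fixed_point_of_prime_dvd_card_of_fixed_point (α := Fin 2 → F) h2dvd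
      (a := (0 : Fin 2 → F)) (fun a => Matrix.mulVec_zero _)
    exact ⟨y, hy0.symm, fun a ha => hy ⟨a, ha⟩⟩
  obtain ⟨u₀, hu₀⟩ : ∃ u : Fin 2 → F, ∀ c : F, u ≠ c • y₀ := by
    by_contra hc
    push Not at hc
    obtain ⟨c₁, h₁⟩ := hc ![1, 0]
    obtain ⟨c₂, h₂⟩ := hc ![0, 1]
    have e1 := congrFun h₁ 0; have e2 := congrFun h₁ 1; have e3 := congrFun h₂ 1
    simp at e1 e2 e3
    rcases e2 with h | h
    · simp [h] at e1
    · simp [h] at e3
  have hne1 : ∀ a : ↥Γ, (a : G) ≠ 1 → ρ a ≠ 1 := fun a ha h =>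
    ha (congrArg Subtype.val (hinj (h.trans (map_one ρ).symm)))
  have hfixline : ∀ a : ↥Γ, (a : G) ∈ Q → (a : G) ≠ 1 → ∀ v ∈ V,
      Λ ((a : G) * v * (a : G)⁻¹) = Λ v → ∃ c : F, Λ v = c • y₀ := fun a ha ha1 v hv h =>
    fixed_line _ (hne1 a ha1) hy₀ (hQy₀ a ha) ((hΛc a v hv).symm.trans h)
  -- the stabiliser of the point is the Sylow subgroup
  have hsq : ∀ a : ↥Γ, ((ρ a : Matrix.SpecialLinearGroup (Fin 2) F) : Matrix (Fin 2) (Fin 2) F) *ᵥ y₀ = y₀ →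
      a * a = 1 := by
    intro a ha
    refine hinj (Matrix.SpecialLinearGroup.ext _ _ fun i j => ?_)
    rw [map_mul, map_one, Matrix.SpecialLinearGroup.coe_mul, Matrix.SpecialLinearGroup.coe_one]
    have h := unipotent_of_fix _ hy₀ ha
    rw [mul_sub, sub_mul, one_mul, mul_one] at h
    have h2 : ∀ x : Matrix (Fin 2) (Fin 2) F, x + x = 0 := fun x => by
      ext i j; simp only [Matrix.add_apply, Matrix.zero_apply]; exact CharTwo.add_self_eq_zero _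
    have h3 := congrFun (congrFun h i) j
    simp only [Matrix.sub_apply, Matrix.zero_apply] at h3
    linear_combination h3 + ((ρ a : Matrix.SpecialLinearGroup (Fin 2) F) : Matrix (Fin 2) (Fin 2) F) i j * h20 -
      (1 : Matrix (Fin 2) (Fin 2) F) i j * h20
  have hstab : ∀ a : ↥Γ, ((ρ a : Matrix.SpecialLinearGroup (Fin 2) F) : Matrix (Fin 2) (Fin 2) F) *ᵥ y₀ = y₀ →
      (a : G) ∈ Q := by
    obtain ⟨K, hK⟩ : ∃ K : Subgroup G, ∀ x, x ∈ K ↔ ∃ a : ↥Γ, (a : G) = x ∧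
        ((ρ a : Matrix.SpecialLinearGroup (Fin 2) F) : Matrix (Fin 2) (Fin 2) F) *ᵥ y₀ = y₀ :=
      ⟨{ carrier := {x | ∃ a : ↥Γ, (a : G) = x ∧
            ((ρ a : Matrix.SpecialLinearGroup (Fin 2) F) : Matrix (Fin 2) (Fin 2) F) *ᵥ y₀ = y₀}
         one_mem' := ⟨1, rfl, by rw [map_one, Matrix.SpecialLinearGroup.coe_one, Matrix.one_mulVec]⟩
         mul_mem' := by
           rintro x y ⟨a, rfl, ha⟩ ⟨b, rfl, hb⟩
           exact ⟨a * b, rfl, by rw [map_mul, Matrix.SpecialLinearGroup.coe_mul, ← Matrix.mulVec_mulVec, hb, ha]⟩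
         inv_mem' := by
           rintro x ⟨a, rfl, ha⟩
           refine ⟨a⁻¹, rfl, ?_⟩
           conv_lhs => rw [← ha]
           rw [Matrix.mulVec_mulVec, ← Matrix.SpecialLinearGroup.coe_mul, ← map_mul, inv_mul_cancel, map_one,
             Matrix.SpecialLinearGroup.coe_one, Matrix.one_mulVec] }, fun x => Iff.rfl⟩
    have hKp : IsPGroup 2 K := by
      rintro ⟨x, hx⟩
      obtain ⟨a, rfl, ha⟩ := (hK x).1 hx
      exact ⟨1, Subtype.ext (by
        show (a : G) ^ 2 ^ 1 = 1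
        rw [pow_one, pow_two]; exact congrArg Subtype.val (hsq a ha))⟩
    have h := S.syl.eq_of_le (Y := K) (fun x hx => (hK x).2 ⟨⟨x, S.syl.1 hx⟩, rfl, hQy₀ _ hx⟩)
      (fun x hx => by obtain ⟨a, rfl, -⟩ := (hK x).1 hx; exact a.2) hKp
    exact fun a ha => h.symm ▸ (hK _).2 ⟨a, rfl, ha⟩
  have hqexp : ∀ x ∈ Q, x * x = 1 := fun x hx => congrArg Subtype.val (hsq ⟨x, S.syl.1 hx⟩ (hQy₀ _ hx))
  -- the Sylow subgroup embeds into the line
  have hQle : Nat.card Q ≤ Nat.card F := by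
    have hc : ∀ a : ↥Q, ∃ c : F,
        ((ρ ⟨a, S.syl.1 a.2⟩ : Matrix.SpecialLinearGroup (Fin 2) F) : Matrix (Fin 2) (Fin 2) F) *ᵥ u₀ - u₀ = c • y₀ := by
      intro a
      by_cases ha1 : (a : G) = 1
      · refine ⟨0, ?_⟩
        rw [show (⟨a, S.syl.1 a.2⟩ : ↥Γ) = 1 from Subtype.ext ha1, map_one, Matrix.SpecialLinearGroup.coe_one,
          Matrix.one_mulVec, sub_self, zero_smul]
      · refine fixed_line _ (hne1 ⟨a, S.syl.1 a.2⟩ ha1) hy₀ (hQy₀ _ a.2) ?_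
        have h := congrFun (congrArg Matrix.mulVec (unipotent_of_fix _ hy₀ (hQy₀ ⟨a, S.syl.1 a.2⟩ a.2))) u₀
        rw [← Matrix.mulVec_mulVec, Matrix.zero_mulVec, Matrix.sub_mulVec (A := _) (B := 1), Matrix.one_mulVec,
          Matrix.sub_mulVec, Matrix.one_mulVec, sub_eq_zero] at h
        exact h
    choose c hc using hc
    refine Nat.card_le_card_of_injective c fun a b hab => ?_
    have h := (hc a).trans ((congrArg (· • y₀) hab).trans (hc b).symm)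
    rw [sub_left_inj] at h
    refine Subtype.ext (inv_mul_eq_one.1 ?_)
    by_contra hne
    obtain ⟨d, hd⟩ := fixed_line (ρ (⟨a, S.syl.1 a.2⟩⁻¹ * ⟨b, S.syl.1 b.2⟩ : ↥Γ)) (hne1 _ hne) hy₀
      (hQy₀ _ (Q.mul_mem (Q.inv_mem a.2) b.2)) (x := u₀) (by
        rw [map_mul, Matrix.SpecialLinearGroup.coe_mul, ← Matrix.mulVec_mulVec, ← h, Matrix.mulVec_mulVec,
          ← Matrix.SpecialLinearGroup.coe_mul, ← map_mul, inv_mul_cancel, map_one, Matrix.SpecialLinearGroup.coe_one,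
          Matrix.one_mulVec])
    exact hu₀ d hd
  -- counting with the line
  let Φ : ↥V →* Multiplicative ((Fin 2 → F) ⧸ (F ∙ y₀).toAddSubgroup) :=
    { toFun := fun v => Multiplicative.ofAdd ((Λ v : Fin 2 → F) : (Fin 2 → F) ⧸ (F ∙ y₀).toAddSubgroup)
      map_one' := by
        show Multiplicative.ofAdd ((Λ 1 : Fin 2 → F) : (Fin 2 → F) ⧸ (F ∙ y₀).toAddSubgroup) = 1
        rw [(hΛ0 1 (one_mem _)).2 (one_mem _)]; rfl
      map_mul' := fun v w => by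
        show Multiplicative.ofAdd ((Λ (v * w) : Fin 2 → F) : (Fin 2 → F) ⧸ (F ∙ y₀).toAddSubgroup) = _
        rw [hΛm v v.2 w w.2]; rfl }
  obtain ⟨L, hL⟩ : ∃ L : Subgroup G, L = Φ.ker.map V.subtype := ⟨_, rfl⟩
  have hLmem : ∀ v, v ∈ L ↔ v ∈ V ∧ ∃ c : F, Λ v = c • y₀ := fun v => by
    have hk : ∀ w : ↥V, Φ w = 1 ↔ ∃ c : F, Λ w = c • y₀ := fun w => by
      show Multiplicative.ofAdd _ = 1 ↔ _
      rw [ofAdd_eq_one, QuotientAddGroup.eq_zero_iff, Submodule.mem_toAddSubgroup, Submodule.mem_span_singleton]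
      exact ⟨fun ⟨c, h⟩ => ⟨c, h.symm⟩, fun ⟨c, h⟩ => ⟨c, h.symm⟩⟩
    rw [hL]
    constructor
    · rintro ⟨w, hw, rfl⟩; exact ⟨w.2, (hk w).1 hw⟩
    · rintro ⟨hv, h⟩; exact ⟨⟨v, hv⟩, (hk ⟨v, hv⟩).2 h, rfl⟩
  have hFpos : 0 < Nat.card F := Nat.card_pos
  have hline : Nat.card ↥(F ∙ y₀).toAddSubgroup = Nat.card F :=
    Nat.card_congr (LinearEquiv.toSpanNonzeroSingleton F _ y₀ hy₀).toEquiv.symm
  have hquot : Nat.card ((Fin 2 → F) ⧸ (F ∙ y₀).toAddSubgroup) = Nat.card F := by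
    have h := AddSubgroup.card_eq_card_quotient_mul_card_addSubgroup (F ∙ y₀).toAddSubgroup
    rw [hline, Nat.card_fun, Nat.card_fin, pow_two] at h
    exact Nat.eq_of_mul_eq_mul_right hFpos h.symm
  have hVL : Nat.card V = Nat.card F * Nat.card L := by
    rw [hL, card_map_of_injective V.subtype_injective, ← Φ.ker.index_mul_card, Subgroup.index_ker,
      MonoidHom.range_eq_top.2 (fun y => ?_), card_top, Nat.card_congr Multiplicative.toAdd, hquot]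
    obtain ⟨z, rfl⟩ := QuotientAddGroup.mk_surjective (Multiplicative.toAdd y)
    obtain ⟨v, hv, rfl⟩ := hsurj z
    exact ⟨⟨v, hv⟩, rfl⟩
  let Ψ : ↥L →* Multiplicative (Fin 2 → F) :=
    { toFun := fun v => Multiplicative.ofAdd (Λ v)
      map_one' := by
        show Multiplicative.ofAdd (Λ 1) = 1
        rw [(hΛ0 1 (one_mem _)).2 (one_mem _)]; rfl
      map_mul' := fun v w => by
        show Multiplicative.ofAdd (Λ (v * w)) = _
        rw [hΛm v ((hLmem v).1 v.2).1 w ((hLmem w).1 w.2).1]; rfl }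
  have hLU : Nat.card L = Nat.card F * Nat.card U := by
    have hk : Ψ.ker.map L.subtype = U := by
      ext v
      constructor
      · rintro ⟨w, hw, rfl⟩; exact (hΛ0 w ((hLmem w).1 w.2).1).1 hw
      · intro hv
        have hvV : v ∈ V := (hU.le hv).1
        have h0 := (hΛ0 v hvV).2 hv
        exact ⟨⟨v, (hLmem v).2 ⟨hvV, 0, by rw [h0, zero_smul]⟩⟩, h0, rfl⟩
    rw [← Ψ.ker.index_mul_card, Subgroup.index_ker, ← hk, card_map_of_injective L.subtype_injective]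
    congr 1
    let e : Ψ.range ≃ ↥(F ∙ y₀) :=
      { toFun := fun y => ⟨Multiplicative.toAdd y.1, by
          obtain ⟨v, hv⟩ := y.2
          obtain ⟨-, c, hc⟩ := (hLmem v).1 v.2
          rw [← hv]; exact Submodule.mem_span_singleton.2 ⟨c, hc.symm⟩⟩
        invFun := fun y => ⟨Multiplicative.ofAdd y.1, by
          obtain ⟨c, hc⟩ := Submodule.mem_span_singleton.1 y.2
          obtain ⟨v, hv, hvy⟩ := hsurj y.1
          exact ⟨⟨v, (hLmem v).2 ⟨hv, c, hvy.trans hc.symm⟩⟩, congrArg Multiplicative.ofAdd hvy⟩⟩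
        left_inv := fun y => rfl
        right_inv := fun y => rfl }
    exact (Nat.card_congr e).trans (Nat.card_congr (LinearEquiv.toSpanNonzeroSingleton F _ y₀ hy₀).toEquiv.symm)
  have hfix : ∀ a ∈ Q, a ≠ 1 → ∀ v ∈ V, a * v * a⁻¹ = v → v ∈ L := fun a ha ha1 v hv h =>
    (hLmem v).2 ⟨hv, hfixline ⟨a, S.syl.1 ha⟩ ha ha1 v hv (congrArg Λ h)⟩
  have hWA : V ⊓ centralizer (A : Set G) ≤ L := fun v hv => by
    obtain ⟨⟨a, ha⟩, ha1⟩ := A.ne_bot_iff_exists_ne_one.1 S.ane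
    refine hfix a (S.aQ ha) (fun h => ha1 (Subtype.ext h)) v hv.1 ?_
    rw [mem_centralizer_iff.1 hv.2 a ha, mul_inv_cancel_right]
  have hkey : Nat.card A = Nat.card Q ∧ Nat.card Q = Nat.card F ∧
      Nat.card ↥(V ⊓ centralizer (A : Set G)) = Nat.card L := by
    have h1 := S.off
    rw [hVL] at h1
    have h2 : Nat.card A ≤ Nat.card Q := card_le_of_le S.aQ
    have h3 := card_le_of_le hWA
    have hL0 : 0 < Nat.card L := Nat.card_pos
    have hA0 : 0 < Nat.card A := Nat.card_pos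
    have h4 : Nat.card F ≤ Nat.card A :=
      Nat.le_of_mul_le_mul_right (h1.trans (Nat.mul_le_mul_left _ h3)) hL0
    have e1 : Nat.card A = Nat.card Q := le_antisymm h2 (hQle.trans h4)
    have e2 : Nat.card Q = Nat.card F := le_antisymm hQle (h4.trans h2)
    refine ⟨e1, e2, le_antisymm h3 ?_⟩
    rw [e1, e2] at h1
    exact Nat.le_of_mul_le_mul_left h1 hFpos
  obtain ⟨hAQ', hQF, hWL⟩ := hkey
  have hAQ : A = Q := eq_of_le_of_card_ge S.aQ hAQ'.ge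
  have hWeq : W = L := by
    rw [hW, ← hAQ]
    exact eq_of_le_of_card_ge hWA hWL.ge
  refine ⟨hAQ, hqexp, by rw [← hW, hWeq, hVL, hQF], by rw [← hW, ← hU, hWeq, hLU, hQF],
    fun a ha ha1 v hv h => hW ▸ hWeq ▸ hfix a ha ha1 v hv h, fun a ha ha1 v hv hvW hmem => ?_,
    fun w₁ hw₁ w₂ hw₂ hn₁ hn₂ => ?_, fun γ hγ w hw hmem => ?_⟩
  · rw [← hU] at hmem
    rw [← hW, hWeq] at hvW
    refine hvW ((hLmem v).2 ⟨hv, hfixline ⟨a, S.syl.1 ha⟩ ha ha1 v hv ?_⟩)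
    have hcv := S.norm a (S.syl.1 ha) v hv
    have := hΛm _ (mul_mem hcv (inv_mem hv)) v hv
    rw [inv_mul_cancel_right, (hΛ0 _ (mul_mem hcv (inv_mem hv))).2 (by simpa [commutatorElement_def] using hmem),
      zero_add] at this
    exact this
  · rw [← hU] at hn₁ hn₂ ⊢
    rw [← hW, hWeq] at hw₁ hw₂
    obtain ⟨hv₁, c₁, h₁⟩ := (hLmem w₁).1 hw₁
    obtain ⟨hv₂, c₂, h₂⟩ := (hLmem w₂).1 hw₂
    have hc₁ : c₁ ≠ 0 := fun h => hn₁ ((hΛ0 _ hv₁).1 (by rw [h₁, h, zero_smul]))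
    have hc₂ : c₂ ≠ 0 := fun h => hn₂ ((hΛ0 _ hv₂).1 (by rw [h₂, h, zero_smul]))
    obtain ⟨c, hc⟩ : ∃ c : F, c = c₂ / c₁ := ⟨_, rfl⟩
    have hc0 : c ≠ 0 := hc ▸ div_ne_zero hc₂ hc₁
    obtain ⟨M, hM⟩ : ∃ M : Matrix.SpecialLinearGroup (Fin 2) F,
        (M : Matrix (Fin 2) (Fin 2) F) *ᵥ y₀ = c • y₀ := by
      have hd : y₀ 0 * u₀ 1 - y₀ 1 * u₀ 0 ≠ 0 := by
        intro h
        by_cases h0 : y₀ 0 = 0
        · have h1 : y₀ 1 ≠ 0 := fun h1 => hy₀ (funext fun i => by fin_cases i <;> simp [h0, h1])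
          refine hu₀ (u₀ 1 / y₀ 1) (funext fun i => ?_)
          fin_cases i <;> simp [h0, div_mul_cancel₀ _ h1]
          simpa [h0, h1] using h
        · refine hu₀ (u₀ 0 / y₀ 0) (funext fun i => ?_)
          fin_cases i <;> simp [div_mul_cancel₀ _ h0]
          field_simp
          linear_combination h
      obtain ⟨d, hdd⟩ : ∃ d, d = y₀ 0 * u₀ 1 - y₀ 1 * u₀ 0 := ⟨_, rfl⟩
      refine ⟨⟨!![(c * y₀ 0 * u₀ 1 - c⁻¹ * u₀ 0 * y₀ 1) / d, (c⁻¹ - c) * y₀ 0 * u₀ 0 / d;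
        (c - c⁻¹) * y₀ 1 * u₀ 1 / d, (c⁻¹ * u₀ 1 * y₀ 0 - c * y₀ 1 * u₀ 0) / d], ?_⟩, ?_⟩
      · rw [Matrix.det_fin_two]
        rw [← hdd] at hd
        simp
        field_simp
        rw [hdd]; ring
      · rw [← hdd] at hd
        funext i
        fin_cases i <;> simp [Matrix.mulVec, dotProduct, Fin.sum_univ_two] <;> field_simp <;> rw [hdd] <;> ring
    obtain ⟨γ, hγ⟩ := MonoidHom.range_eq_top.1 hρ M
    refine ⟨γ, ⟨γ.2, mem_normalizer_fintype fun x hx => ?_⟩, ?_⟩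
    · refine hstab (γ * ⟨x, S.syl.1 hx⟩ * γ⁻¹) ?_
      have hi : ((ρ γ⁻¹ : Matrix.SpecialLinearGroup (Fin 2) F) : Matrix (Fin 2) (Fin 2) F) *ᵥ y₀ = c⁻¹ • y₀ := by
        have := congrArg (fun y => c⁻¹ • ((ρ γ⁻¹ : Matrix.SpecialLinearGroup (Fin 2) F) : Matrix (Fin 2) (Fin 2) F) *ᵥ y) hM
        rw [← hγ] at this
        simp only [Matrix.mulVec_smul, Matrix.mulVec_mulVec, ← Matrix.SpecialLinearGroup.coe_mul, ← map_mul,
          inv_mul_cancel, map_one, Matrix.SpecialLinearGroup.coe_one, Matrix.one_mulVec, smul_smul,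
          inv_mul_cancel₀ hc0, one_smul] at this
        exact this.symm
      rw [map_mul, map_mul, Matrix.SpecialLinearGroup.coe_mul, Matrix.SpecialLinearGroup.coe_mul,
        ← Matrix.mulVec_mulVec, hi, Matrix.mulVec_smul, ← Matrix.mulVec_mulVec, hQy₀ _ hx, hγ, hM, smul_smul,
        inv_mul_cancel₀ hc0, one_smul]
    · have hg := hΛc γ w₁ hv₁
      rw [hγ, h₁, Matrix.mulVec_smul, hM, smul_smul, hc, mul_div_cancel₀ _ hc₁] at hg
      have hgv := S.norm γ γ.2 w₁ hv₁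
      refine (hΛ0 _ (mul_mem hgv (inv_mem hv₂))).1 ?_
      have h := hΛm _ (mul_mem hgv (inv_mem hv₂)) w₂ hv₂
      rw [inv_mul_cancel_right, hg, h₂] at h
      simpa using h
  · rw [← hU] at hmem
    rw [← hW, hWeq] at hw
    obtain ⟨hwV, c, hc⟩ := (hLmem w).1 hw
    have hgv := S.norm γ hγ w hwV
    by_cases hc0 : c = 0
    · have hwU : w ∈ U := (hΛ0 w hwV).1 (by rw [hc, hc0, zero_smul])
      rw [mem_centralizer_iff.1 (hU.le hwU).2 γ hγ, mul_inv_cancel_right]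
    have h := hΛm _ (mul_mem hgv (inv_mem hwV)) w hwV
    rw [inv_mul_cancel_right, (hΛ0 _ (mul_mem hgv (inv_mem hwV))).2 hmem, zero_add, hΛc ⟨γ, hγ⟩ w hwV, hc,
      Matrix.mulVec_smul] at h
    have hγQ := hstab ⟨γ, hγ⟩ (smul_right_injective _ hc0 h)
    rw [← hWeq, hW] at hw
    rw [mem_centralizer_iff.1 hw.2 γ hγQ, mul_inv_cancel_right]

end OffSit

end Cfsg.Agent.Fus.AbInt
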