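import Cfsg.Agent.Lib.Fus.AbInt.Kernel
import Cfsg.Agent.Lib.Fus.AbInt.Offender

/-!
# An essential abelian subgroup with a second abelian subgroup in its local Sylow subgroup

If `E ≤ N_S(D)` is abelian, self-centralising towards `D`, not in `D` and at least as large as `D`, then
`N_S(D) = D E` and `N(D)` induces a natural module.
-/

set_option autoImplicit false
set_option linter.unusedSectionVars false
set_option linter.style.haveILetI false
set_option maxHeartbeats 1000000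

open scoped commutatorElement

namespace Cfsg.Agent.Fus.AbInt

open Subgroup

universe u

variable {G : Type u} [Group G] {S : Sylow 2 G}

/-- The hypotheses on the second subgroup. -/
structure Offends (S : Sylow 2 G) (D E : Subgroup G) : Prop where
  le : E ≤ nsyl S D
  comm : ∀ x ∈ E, ∀ y ∈ E, x * y = y * x
  not_le : ¬ E ≤ D
  big : Nat.card D ≤ Nat.card E
  self : ∀ x ∈ D, (∀ e ∈ E, x * e = e * x) → x ∈ E

/-- The action on the involutions. -/
structure VData (S : Sylow 2 G) (D E V : Subgroup G) (q : ℕ) : Prop where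
  gen : ∀ r ∈ nsyl S D, ∃ d ∈ D, ∃ e ∈ E, r = d * e
  sq : ∀ r ∈ nsyl S D, r * r ∈ D
  q_two : 2 ≤ q
  card_R : Nat.card (nsyl S D) = q * Nat.card D
  card_V : Nat.card V = q * Nat.card ↥(V ⊓ E)
  card_W : Nat.card ↥(V ⊓ E) = q * Nat.card ↥(V ⊓ fix S D)
  fixed : ∀ r ∈ nsyl S D, r ∉ D → ∀ v ∈ V, r * v * r⁻¹ = v → v ∈ E
  comm_not : ∀ r ∈ nsyl S D, r ∉ D → ∀ v ∈ V, v ∉ E → ⁅r, v⁆ ∉ fix S D
  trans : ∀ w₁ ∈ V ⊓ E, ∀ w₂ ∈ V ⊓ E, w₁ ∉ fix S D → w₂ ∉ fix S D →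
    ∃ γ ∈ clo S D, (∀ r ∈ nsyl S D, γ * r * γ⁻¹ ∈ nsyl S D ⊔ centralizer (D : Set G)) ∧
      γ * w₁ * γ⁻¹ * w₂⁻¹ ∈ fix S D
  rigid : ∀ γ ∈ clo S D, ∀ w ∈ V ⊓ E, γ * w * γ⁻¹ * w⁻¹ ∈ fix S D → γ * w * γ⁻¹ = w

theorem Offends.vdata [Finite G] (hA : AbelianMeet G) {D E : Subgroup G} (hD : Ess S D) (hE : Offends S D E) :
    ∃ q : ℕ, VData S D E (omega hD.comm) q := by
  classical
  haveI : Fact (Nat.Prime 2) := ⟨Nat.prime_two⟩
  obtain ⟨V, hV⟩ : ∃ V, V = omega hD.comm := ⟨_, rfl⟩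
  rw [← hV]
  obtain ⟨N, hN⟩ : ∃ N : Subgroup G, N = normalizer (D : Set G) := ⟨_, rfl⟩
  have hVD : ∀ v ∈ V, v ∈ D := fun v hv => (hV.le hv).1
  have hNV : N ≤ normalizer (V : Set G) := fun n hn => by
    refine mem_normalizer_fintype fun v hv => ?_
    obtain ⟨hvD, hv2⟩ := hV.le hv
    refine hV.ge ⟨(mem_normalizer_iff.1 (hN.le hn) v).1 hvD, ?_⟩
    rw [show n * v * n⁻¹ * (n * v * n⁻¹) = n * (v * v) * n⁻¹ by group, hv2, mul_one, mul_inv_cancel]
  let φ : ↥N →* MulAut ↥V := V.normalizerMonoidHom.comp (inclusion hNV)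
  let π : ↥N →* (↥V ⋊[φ.range.subtype] ↥φ.range) := SemidirectProduct.inr.comp φ.rangeRestrict
  let ι : ↥V →* (↥V ⋊[φ.range.subtype] ↥φ.range) := SemidirectProduct.inl
  haveI : Finite (↥V ⋊[φ.range.subtype] ↥φ.range) := Finite.of_equiv _ SemidirectProduct.equivProd.symm
  have hιinj : Function.Injective ι := SemidirectProduct.inl_injective
  have hconj : ∀ (n : ↥N) (v : ↥V), π n * ι v * (π n)⁻¹ =
      ι ⟨(n : G) * v * (n : G)⁻¹, (mem_normalizer_iff.1 (hNV n.2) v).1 v.2⟩ := by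
    intro n v
    rw [← map_inv]
    show SemidirectProduct.inr (φ.rangeRestrict n) * ι v * SemidirectProduct.inr (φ.rangeRestrict n⁻¹) = _
    rw [map_inv φ.rangeRestrict, ← SemidirectProduct.inl_aut]
    rfl
  have hker : ∀ n : ↥N, π n = 1 ↔ (n : G) ∈ centralizer (D : Set G) := by
    intro n
    constructor
    · intro h
      refine hD.centralizes hA (hN.le n.2) fun x hx => ?_
      have h2 := hconj n ⟨x, hV.ge hx⟩
      rw [h, one_mul, inv_one, mul_one] at h2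
      exact (congrArg Subtype.val (hιinj h2)).symm
    · intro h
      have h1 : φ n = 1 := MulEquiv.ext fun v => Subtype.ext (by
        show (n : G) * v * (n : G)⁻¹ = v
        rw [← mem_centralizer_iff.1 h _ (hVD v v.2), mul_inv_cancel_right])
      show SemidirectProduct.inr (φ.rangeRestrict n) = 1
      rw [show φ.rangeRestrict n = 1 from Subtype.ext h1, map_one]
  have hRN : nsyl S D ≤ N := hN ▸ inf_le_right
  have hΓN : clo S D ≤ N := hN ▸ clo_le D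
  have hCN : centralizer (D : Set G) ≤ N := hN ▸ centralizer_le_normalizer _
  have hkerR : ∀ r : ↥N, (r : G) ∈ nsyl S D → (π r = 1 ↔ (r : G) ∈ D) := fun r hr =>
    ⟨fun h => hD.centralizer_inf _ hr ((hker r).1 h),
      fun h => (hker r).2 (mem_centralizer_iff.2 fun d hd => hD.comm d hd _ h)⟩
  -- the images
  obtain ⟨Q, hQ⟩ : ∃ Q, Q = ((nsyl S D).subgroupOf N).map π := ⟨_, rfl⟩
  obtain ⟨A, hAA⟩ : ∃ A, A = (E.subgroupOf N).map π := ⟨_, rfl⟩
  obtain ⟨Γ, hΓ⟩ : ∃ Γ, Γ = ((clo S D).subgroupOf N).map π := ⟨_, rfl⟩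
  obtain ⟨V', hV'⟩ : ∃ V', V' = ι.range := ⟨_, rfl⟩
  have hcent : ∀ (K : Subgroup G) (hK : K ≤ N) (v : ↥V),
      ι v ∈ centralizer (((K.subgroupOf N).map π : Subgroup _) : Set (↥V ⋊[φ.range.subtype] ↥φ.range)) ↔
        (v : G) ∈ centralizer (K : Set G) := by
    intro K hK v
    rw [mem_centralizer_iff, mem_centralizer_iff]
    constructor
    · intro h k hk
      have h1 := h (π ⟨k, hK hk⟩) ⟨⟨k, hK hk⟩, hk, rfl⟩
      have h2 := hconj ⟨k, hK hk⟩ v
      rw [h1, mul_inv_cancel_right] at h2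
      exact mul_inv_eq_iff_eq_mul.1 (congrArg Subtype.val (hιinj h2)).symm
    · rintro h _ ⟨k, hk, rfl⟩
      refine mul_inv_eq_iff_eq_mul.1 ((hconj k v).trans (congrArg ι (Subtype.ext ?_)))
      exact mul_inv_eq_iff_eq_mul.2 (h k hk)
  have hcardK : ∀ (K : Subgroup G), K ≤ N →
      Nat.card ↥(V' ⊓ centralizer (((K.subgroupOf N).map π : Subgroup _) : Set (↥V ⋊[φ.range.subtype] ↥φ.range))) =
        Nat.card ↥(V ⊓ centralizer (K : Set G)) := by
    intro K hK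
    symm
    refine Nat.card_eq_of_bijective
      (fun v => ⟨ι ⟨v, v.2.1⟩, hV'.ge ⟨_, rfl⟩, (hcent K hK ⟨v, v.2.1⟩).2 v.2.2⟩) ⟨fun a b h => ?_, fun x => ?_⟩
    · exact Subtype.ext (congrArg Subtype.val (hιinj (congrArg Subtype.val h)) :)
    · obtain ⟨x, hx, hxc⟩ := x
      obtain ⟨v, rfl⟩ := hV'.le hx
      exact ⟨⟨v, v.2, (hcent K hK v).1 hxc⟩, rfl⟩
  have hQmem : ∀ n : ↥N, (n : G) ∈ nsyl S D ⊔ centralizer (D : Set G) ↔ π n ∈ Q := by
    intro n
    rw [hQ]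
    constructor
    · intro h
      have hle : nsyl S D ⊔ centralizer (D : Set G) ≤ ((((nsyl S D).subgroupOf N).map π).comap π).map N.subtype :=
        sup_le (fun r hr => ⟨⟨r, hRN hr⟩, ⟨⟨r, hRN hr⟩, hr, rfl⟩, rfl⟩)
          (fun c hc => ⟨⟨c, hCN hc⟩, by rw [SetLike.mem_coe, mem_comap, (hker ⟨c, hCN hc⟩).2 hc]; exact one_mem _, rfl⟩)
      obtain ⟨m, hm, hmn⟩ := hle h
      exact (Subtype.ext hmn : m = n) ▸ hm
    · rintro ⟨r, hr, hrn⟩
      have h1 : (r⁻¹ * n : ↥N) ∈ π.ker := by rw [MonoidHom.mem_ker, map_mul, map_inv, hrn, inv_mul_cancel]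
      have h2 := (hker _).1 h1
      rw [show (n : G) = r * ((r⁻¹ * n : ↥N) : G) by rw [coe_mul, coe_inv]; group]
      exact mul_mem (mem_sup_left hr) (mem_sup_right h2)
  have hpow : ∀ x ∈ V, x * x = 1 := fun x hx => (hV.le hx).2
  have hER : E ≤ nsyl S D := hE.le
  have hDE : D ⊓ centralizer (E : Set G) = D ⊓ E := le_antisymm
    (fun x hx => ⟨hx.1, hE.self x hx.1 fun e he => (mem_centralizer_iff.1 hx.2 e he).symm⟩)
    (fun x hx => ⟨hx.1, mem_centralizer_iff.2 fun e he => hE.comm e he x hx.2⟩)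
  have hVcE : V ⊓ centralizer (E : Set G) = V ⊓ E := by
    ext x
    refine ⟨fun h => ⟨h.1, ((hDE.le : _) ⟨hVD x h.1, h.2⟩).2⟩, fun h => ⟨h.1, (hDE.ge ⟨hVD x h.1, h.2⟩).2⟩⟩
  have hAcard : Nat.card A * Nat.card ↥(D ⊓ E) = Nat.card E := by
    let f := π.comp (inclusion (hER.trans hRN))
    have h1 : f.range = A := by
      rw [hAA]
      ext x
      constructor
      · rintro ⟨e, rfl⟩; exact ⟨_, e.2, rfl⟩
      · rintro ⟨e, he, rfl⟩; exact ⟨⟨e, he⟩, rfl⟩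
    have h2 : f.ker = (D ⊓ E).subgroupOf E := by
      ext e
      rw [MonoidHom.mem_ker, mem_subgroupOf]
      exact (hkerR ⟨e, hRN (hER e.2)⟩ (hER e.2)).trans ⟨fun h => ⟨h, e.2⟩, And.left⟩
    rw [← h1, ← Subgroup.index_ker, ← Nat.card_congr (subgroupOfEquivOfLe (inf_le_right : D ⊓ E ≤ E)).toEquiv,
      ← h2, Subgroup.index_mul_card]
  have hQcard : Nat.card Q * Nat.card D = Nat.card (nsyl S D) := by
    let f := π.comp (inclusion hRN)
    have h1 : f.range = Q := by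
      rw [hQ]
      ext x
      constructor
      · rintro ⟨e, rfl⟩; exact ⟨_, e.2, rfl⟩
      · rintro ⟨e, he, rfl⟩; exact ⟨⟨e, he⟩, rfl⟩
    have hDR : D ≤ nsyl S D := le_inf hD.le le_normalizer
    have h2 : f.ker = D.subgroupOf (nsyl S D) := by
      ext e
      rw [MonoidHom.mem_ker, mem_subgroupOf]
      exact hkerR ⟨e, hRN e.2⟩ e.2
    rw [← h1, ← Subgroup.index_ker, ← Nat.card_congr (subgroupOfEquivOfLe hDR).toEquiv, ← h2, Subgroup.index_mul_card]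
  have hQs : Grp.IsSylowIn 2 Q Γ := by
    refine ⟨hQ ▸ hΓ ▸ map_mono (comap_mono (nsyl_le_clo D)), hQ ▸ ((S.isPGroup'.to_le inf_le_left).comap_of_injective
      N.subtype N.subtype_injective).map π, fun hd => ?_⟩
    rw [hQ, hΓ, relIndex_map_map] at hd
    have h2 : (((nsyl S D).subgroupOf N ⊔ π.ker)).relIndex ((clo S D).subgroupOf N ⊔ π.ker) ∣
        ((nsyl S D).subgroupOf N).index :=
      (relIndex_dvd_index_of_le (sup_le_sup_right (comap_mono (nsyl_le_clo D)) _)).trans (index_dvd_of_le le_sup_left)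
    have h3 : 2 ∣ (nsyl S D).relIndex N := hd.trans h2
    rw [hN] at h3
    exact hD.not_two_dvd hA h3
  have hsit : OffSit V' Γ Q A :=
    { vcomm := by
        rintro x hx y hy
        obtain ⟨a, rfl⟩ := hV'.le hx
        obtain ⟨b, rfl⟩ := hV'.le hy
        rw [← map_mul, ← map_mul, show a * b = b * a from Subtype.ext (hD.comm _ (hVD a a.2) _ (hVD b b.2))]
      vexp := by
        rintro x hx
        obtain ⟨a, rfl⟩ := hV'.le hx
        rw [← map_mul, show a * a = 1 from Subtype.ext (hpow a a.2), map_one]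
      norm := by
        rintro g hg x hx
        obtain ⟨n, -, rfl⟩ := hΓ.le hg
        obtain ⟨a, rfl⟩ := hV'.le hx
        rw [hconj]
        exact hV'.ge ⟨_, rfl⟩
      faith := by
        rw [eq_bot_iff]
        rintro g ⟨hg, hgc⟩
        obtain ⟨n, -, rfl⟩ := hΓ.le hg
        refine mem_bot.2 ((hker n).2 (hD.centralizes hA (hN.le n.2) fun x hx => ?_))
        have h := hconj n ⟨x, hV.ge hx⟩
        rw [← mem_centralizer_iff.1 hgc _ (hV'.ge ⟨_, rfl⟩), mul_inv_cancel_right] at h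
        exact (congrArg Subtype.val (hιinj h)).symm
      syl := hQs
      moved := by
        intro hle
        obtain ⟨n, hn, hout⟩ := hD.out
        obtain ⟨c, hc, hcn⟩ := hD.exists_fixing hA hn fun r hr => by
          have hnr : n * r * n⁻¹ ∈ clo S D := subset_closure ⟨n, hn, r, hr, rfl⟩
          refine (hQmem ⟨n * r * n⁻¹, hΓN hnr⟩).2 ?_
          have hp : IsPGroup 2 (zpowers (π ⟨n * r * n⁻¹, hΓN hnr⟩)) := by
            refine ((((S.isPGroup'.to_le inf_le_left : IsPGroup 2 (nsyl S D)).map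
              (MulAut.conj n).toMonoidHom).comap_of_injective N.subtype N.subtype_injective).map π).to_le ?_
            rw [zpowers_le]
            exact ⟨⟨n * r * n⁻¹, hΓN hnr⟩, ⟨r, hr, rfl⟩, rfl⟩
          have hmemΓ : π ⟨n * r * n⁻¹, hΓN hnr⟩ ∈ Γ := hΓ.ge ⟨_, hnr, rfl⟩
          have h := hQs.eq_of_le (Y := Q ⊔ zpowers (π ⟨n * r * n⁻¹, hΓN hnr⟩)) le_sup_left
            (sup_le hQs.1 (zpowers_le.2 hmemΓ)) (hQs.2.1.to_sup_of_normal_left' hp (zpowers_le.2 (hle hmemΓ)))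
          exact h.symm ▸ mem_sup_right (mem_zpowers _)
        exact hout c hc hcn
      ti := by
        rintro g hg hgQ z hz hz1 hmem
        obtain ⟨γ, -, rfl⟩ := hΓ.le hg
        obtain ⟨r, hr, rfl⟩ := hQ.le hz
        have hrD : (r : G) ∉ D := fun h => hz1 ((hkerR r hr).2 h)
        rw [← map_inv, ← map_mul, ← map_mul, ← hQmem] at hmem
        have hodd : ¬ 2 ∣ (nsyl S D).relIndex (nsyl S D ⊔ centralizer (D : Set G)) := fun hd =>
          hD.not_two_dvd hA (hd.trans (Dvd.intro _ (relIndex_mul_relIndex _ _ _ le_sup_left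
            (sup_le inf_le_right (centralizer_le_normalizer _)))))
        obtain ⟨m, hm, hmR⟩ := exists_conj_mem (S.isPGroup'.to_le inf_le_left) le_sup_left hodd
          (((S.isPGroup'.to_le inf_le_left : IsPGroup 2 (nsyl S D)).to_le (zpowers_le.2 hr)).map
            (MulAut.conj ((γ : G)⁻¹)).toMonoidHom)
          (by
            rw [MonoidHom.map_zpowers, zpowers_le]
            show (γ : G)⁻¹ * r * ((γ : G)⁻¹)⁻¹ ∈ nsyl S D ⊔ _
            simpa using hmem)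
        have hmem' : m * ((γ : G)⁻¹ * r * γ) * m⁻¹ ∈ nsyl S D :=
          hmR _ ⟨r, mem_zpowers _, by simp⟩
        have hmN : m ∈ N := hN.ge ((sup_le inf_le_right (centralizer_le_normalizer _)) hm)
        have hn1 : m * (γ : G)⁻¹ ∈ normalizer ((S : Subgroup G) : Set G) :=
          hD.mem_normalizer hA (hN.le (mul_mem hmN (inv_mem γ.2))) (show (r : G) ∈ (S : Subgroup G) from hr.1) hrD (by
            rw [show m * (γ : G)⁻¹ * r * (m * (γ : G)⁻¹)⁻¹ = m * ((γ : G)⁻¹ * r * γ) * m⁻¹ by group]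
            exact hmem'.1)
        refine hgQ ?_
        have hmQ : π ⟨m, hmN⟩ ∈ Q := (hQmem _).1 hm
        have hk : π (⟨m, hmN⟩ * γ⁻¹) ∈ normalizer (Q : Set _) := by
          refine mem_normalizer_fintype fun y hy => ?_
          obtain ⟨s, hs, rfl⟩ := hQ.le hy
          rw [← map_inv, ← map_mul, ← map_mul]
          refine hQ.ge ⟨_, ?_, rfl⟩
          rw [SetLike.mem_coe, mem_subgroupOf]
          simp only [coe_mul, coe_inv]
          have hn2 : m * (γ : G)⁻¹ ∈ normalizer (D : Set G) := hN.le (mul_mem hmN (inv_mem γ.2))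
          have hs2 : ((s : ↥N) : G) ∈ normalizer (D : Set G) := hs.2
          exact mem_inf.2 ⟨(mem_normalizer_iff.1 hn1 _).1 hs.1, mul_mem (mul_mem hn2 hs2) (inv_mem hn2)⟩
        rw [map_mul, map_inv] at hk
        have := inv_mem (mul_mem (inv_mem (le_normalizer hmQ)) hk)
        simpa using this
      gen := by
        intro M hM g hg
        obtain ⟨x, hx, rfl⟩ := hΓ.le hg
        have hle : clo S D ≤ (M.comap π).map N.subtype := by
          rw [clo, closure_le]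
          rintro _ ⟨n, hn, r, hr, rfl⟩
          have hnr : n * r * n⁻¹ ∈ clo S D := subset_closure ⟨n, hn, r, hr, rfl⟩
          refine ⟨⟨n * r * n⁻¹, hΓN hnr⟩, hM _ (hΓ.ge ⟨_, hnr, rfl⟩) ?_, rfl⟩
          obtain ⟨k, hk⟩ := S.isPGroup' ⟨r, hr.1⟩
          refine ⟨k, ?_⟩
          rw [← map_pow, show (⟨n * r * n⁻¹, hΓN hnr⟩ : ↥N) ^ 2 ^ k = 1 from Subtype.ext (by
            rw [coe_pow, coe_one]
            show (n * r * n⁻¹) ^ 2 ^ k = 1
            rw [conj_pow, show r ^ 2 ^ k = 1 from congrArg Subtype.val hk, mul_one, mul_inv_cancel]), map_one]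
        obtain ⟨y, hy, hyx⟩ := hle hx
        exact (Subtype.ext hyx : y = x) ▸ hy
      aQ := hAA ▸ hQ ▸ map_mono (comap_mono hER)
      ane := by
        intro h
        refine hE.not_le fun e he => ((hkerR ⟨e, hRN (hER he)⟩ (hER he)).1 ?_)
        exact mem_bot.1 (h ▸ hAA.ge ⟨⟨e, hRN (hER he)⟩, he, rfl⟩)
      acomm := by
        rintro x hx y hy
        obtain ⟨a, ha, rfl⟩ := hAA.le hx
        obtain ⟨b, hb, rfl⟩ := hAA.le hy
        rw [← map_mul, ← map_mul, show a * b = b * a from Subtype.ext (hE.comm _ ha _ hb)]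
      off := by
        have h1 : Nat.card ↥(V' ⊓ centralizer (A : Set _)) = Nat.card ↥(V ⊓ E) := by
          rw [hAA, hcardK E (hER.trans hRN), hVcE]
        have h2 : Nat.card V' = Nat.card V := by
          rw [hV']
          exact (Nat.card_congr (MonoidHom.ofInjective hιinj).toEquiv).symm
        rw [h1, h2]
        have h3 : Nat.card ↥(V ⊔ D ⊓ E) * Nat.card ↥(V ⊓ (D ⊓ E)) = Nat.card V * Nat.card ↥(D ⊓ E) :=
          Grp.card_sup_mul_card_inf fun v hv => centralizer_le_normalizer _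
            (mem_centralizer_iff.2 fun x hx => hD.comm x hx.1 v (hVD v hv))
        have h4 : V ⊓ (D ⊓ E) = V ⊓ E := by
          ext x; exact ⟨fun h => ⟨h.1, h.2.2⟩, fun h => ⟨h.1, hVD x h.1, h.2⟩⟩
        rw [h4] at h3
        refine Nat.le_of_mul_le_mul_right (?_ : Nat.card V * Nat.card ↥(D ⊓ E) ≤ _ * Nat.card ↥(D ⊓ E)) Nat.card_pos
        rw [← h3, mul_right_comm, hAcard]
        exact Nat.mul_le_mul_right _ ((card_le_of_le (sup_le hVD inf_le_left)).trans hE.big) }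
  have hnat := hsit.natural
  have hW : V ⊓ centralizer (nsyl S D : Set G) = V ⊓ E := by
    rw [← hVcE]
    ext x
    refine ⟨fun h => ⟨h.1, centralizer_le (SetLike.coe_subset_coe.2 hER) h.2⟩, fun h => ⟨h.1, ?_⟩⟩
    have h1 := (hcent E (hER.trans hRN) ⟨x, h.1⟩).2 h.2
    rw [← hAA, hnat.eq, hQ] at h1
    exact (hcent _ hRN ⟨x, h.1⟩).1 h1
  have hU : V ⊓ centralizer (clo S D : Set G) = V ⊓ fix S D := by
    ext x
    exact ⟨fun h => ⟨h.1, hVD x h.1, h.2⟩, fun h => ⟨h.1, h.2.2⟩⟩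
  have hWmem : ∀ v : ↥V, ι v ∈ V' ⊓ centralizer (Q : Set _) ↔ (v : G) ∈ E := by
    intro v
    constructor
    · intro h
      have h1 : (v : G) ∈ V ⊓ centralizer (nsyl S D : Set G) := ⟨v.2, (hcent _ hRN v).1 (hQ ▸ h.2)⟩
      rw [hW] at h1
      exact h1.2
    · intro h
      have h1 : (v : G) ∈ V ⊓ E := ⟨v.2, h⟩
      rw [← hW] at h1
      exact ⟨hV'.ge ⟨_, rfl⟩, hQ ▸ (hcent _ hRN v).2 h1.2⟩
  have hUmem : ∀ v : ↥V, ι v ∈ V' ⊓ centralizer (Γ : Set _) ↔ (v : G) ∈ fix S D := by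
    intro v
    refine ⟨fun h => ⟨hVD v v.2, (hcent _ hΓN v).1 (hΓ ▸ h.2)⟩, fun h => ?_⟩
    exact ⟨hV'.ge ⟨_, rfl⟩, hΓ ▸ (hcent _ hΓN v).2 h.2⟩
  have hQc : Nat.card V' = Nat.card V := by
    rw [hV']; exact (Nat.card_congr (MonoidHom.ofInjective hιinj).toEquiv).symm
  refine ⟨Nat.card Q, ?_⟩
  refine ⟨fun r hr => ?_, fun r hr => ?_, ?_, hQcard.symm, ?_, ?_, fun r hr hrD v hv h => ?_,
    fun r hr hrD v hv hvE hmem => ?_, fun w₁ hw₁ w₂ hw₂ hn₁ hn₂ => ?_, fun γ hγ w hw hmem => ?_⟩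
  · have h1 : π ⟨r, hRN hr⟩ ∈ A := hnat.eq ▸ hQ.ge ⟨_, hr, rfl⟩
    obtain ⟨e, he, hee⟩ := hAA.le h1
    refine ⟨r * (e : G)⁻¹, ?_, e, he, by group⟩
    exact (hkerR (⟨r, hRN hr⟩ * e⁻¹) (mul_mem hr (inv_mem (hER he)))).1 (by rw [map_mul, map_inv, hee, mul_inv_cancel])
  · refine (hkerR (⟨r, hRN hr⟩ * ⟨r, hRN hr⟩) (mul_mem hr hr)).1 ?_
    rw [map_mul]
    exact hnat.qexp _ (hQ.ge ⟨_, hr, rfl⟩)
  · obtain ⟨x, hx, hxD⟩ := hD.exists_normalizing
    refine Nat.one_lt_iff_ne_zero_and_ne_one.2 ⟨Nat.card_pos.ne', fun h => ?_⟩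
    refine hxD ((hkerR ⟨x, hRN hx⟩ hx).1 ?_)
    have h1 : π ⟨x, hRN hx⟩ ∈ Q := hQ.ge ⟨_, hx, rfl⟩
    rw [Subgroup.card_eq_one.1 h] at h1
    exact mem_bot.1 h1
  · have h := hnat.card_V
    rw [hQc, hQ, hcardK _ hRN, hW, ← hQ] at h
    exact h
  · have h := hnat.card_W
    rw [hQ, hcardK _ hRN, hW, ← hQ, hΓ, hcardK _ hΓN, hU] at h
    exact h
  · refine (hWmem ⟨v, hv⟩).1 (hnat.fix _ (hQ.ge ⟨_, hr, rfl⟩) (fun e => hrD ((hkerR ⟨r, hRN hr⟩ hr).1 e)) _
      (hV'.ge ⟨_, rfl⟩) ((hconj ⟨r, hRN hr⟩ ⟨v, hv⟩).trans (congrArg ι (Subtype.ext h))))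
  · refine hnat.comm_not _ (hQ.ge ⟨_, hr, rfl⟩) (fun e => hrD ((hkerR ⟨r, hRN hr⟩ hr).1 e)) _
      (hV'.ge ⟨_, rfl⟩) (fun h => hvE ((hWmem ⟨v, hv⟩).1 h)) ?_
    rw [commutatorElement_def, hconj, ← map_inv, ← map_mul]
    exact (hUmem _).2 (by simpa [commutatorElement_def] using hmem)
  · obtain ⟨g, hg, hgw⟩ := hnat.trans _ ((hWmem ⟨w₁, hw₁.1⟩).2 hw₁.2) _ ((hWmem ⟨w₂, hw₂.1⟩).2 hw₂.2)
      (fun h => hn₁ ((hUmem _).1 h)) (fun h => hn₂ ((hUmem _).1 h))
    obtain ⟨γ, hγ, rfl⟩ := hΓ.le hg.1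
    rw [hconj, ← map_inv, ← map_mul] at hgw
    refine ⟨γ, hγ, fun r hr => ?_, by simpa using (hUmem _).1 hgw⟩
    refine (hQmem (γ * ⟨r, hRN hr⟩ * γ⁻¹)).2 ?_
    rw [map_mul, map_mul, map_inv]
    exact (mem_normalizer_iff.1 hg.2 _).1 (hQ.ge ⟨_, hr, rfl⟩)
  · have h := hnat.rigid (π ⟨γ, hΓN hγ⟩) (hΓ.ge ⟨_, hγ, rfl⟩) _ ((hWmem ⟨w, hw.1⟩).2 hw.2) (by
      rw [hconj, ← map_inv, ← map_mul]
      exact (hUmem _).2 (by simpa using hmem))
    rw [hconj] at h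
    exact congrArg Subtype.val (hιinj h)

end Cfsg.Agent.Fus.AbInt
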