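import Cfsg.Agent.Lib.Fus.AbInt.NormalGone
import Cfsg.Agent.Lib.Fus.DihedralAut

/-!
# Sylow 2-subgroups with pairwise abelian intersections in a simple group: dihedral or class two
-/

set_option autoImplicit false
set_option linter.unusedSectionVars false
set_option linter.style.haveILetI false

open scoped commutatorElement

namespace Cfsg.Agent.Fus.AbInt

open Subgroup

universe u

variable {G : Type u} [Group G]

/-- The points fixed by every `clo S D`. -/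
def core (S : Sylow 2 G) : Subgroup G := (S : Subgroup G) ⊓ ⨅ D : {D : Subgroup G // Ess S D}, fix S D.1

theorem mem_core {S : Sylow 2 G} {x : G} : x ∈ core S ↔ x ∈ (S : Subgroup G) ∧ ∀ D, Ess S D → x ∈ fix S D := by
  rw [core, mem_inf, mem_iInf]
  exact ⟨fun h => ⟨h.1, fun D hD => h.2 ⟨D, hD⟩⟩, fun h => ⟨h.1, fun D => h.2 D.1 D.2⟩⟩

variable [Finite G]

/-- A subgroup supplementing the commutator subgroup of a finite 2-group is the whole group. -/
theorem eq_top_of_sup {P : Type u} [Group P] [Finite P] (hP : IsPGroup 2 P) {H : Subgroup P}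
    (h : H ⊔ commutator P = ⊤) : H = ⊤ := by
  haveI : Fact (Nat.Prime 2) := ⟨Nat.prime_two⟩
  haveI := hP.isNilpotent
  rcases eq_top_or_exists_le_coatom H with hH | ⟨K, hK, hle⟩
  · exact hH
  exfalso
  haveI hKn : K.Normal := NormalizerCondition.normal_of_coatom K Group.normalizerCondition_of_isNilpotent hK
  obtain ⟨x, -, hx⟩ := SetLike.exists_of_lt hK.lt_top
  have hsup : K ⊔ zpowers x = ⊤ :=
    hK.2 _ (lt_of_le_of_ne le_sup_left fun e => hx (e ▸ mem_sup_right (mem_zpowers x)))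
  have := Subgroup.Normal.commutator_le_of_self_sup_commutative_eq_top hsup inferInstance
  exact hK.1 (top_le_iff.1 (h.ge.trans (sup_le hle this)))

/-- An element normalising `S` is a 2-element of `S` times a power of odd order. -/
theorem exists_odd_power (S : Sylow 2 G) {n : G} (hn : n ∈ normalizer ((S : Subgroup G) : Set G)) :
    ∃ j : ℕ, Odd (orderOf (n ^ j)) ∧ n * (n ^ j)⁻¹ ∈ (S : Subgroup G) := by
  haveI : Fact (Nat.Prime 2) := ⟨Nat.prime_two⟩
  obtain ⟨e, m, hmodd, hord⟩ := Nat.exists_eq_pow_mul_and_not_dvd (orderOf_pos n).ne' 2 (by norm_num)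
  have hcop : Nat.Coprime (2 ^ e) m := Nat.Coprime.pow_left _ ((Nat.prime_two.coprime_iff_not_dvd).2 hmodd)
  obtain ⟨j, hj0, hj1⟩ := Nat.chineseRemainder hcop 0 1
  refine ⟨j, ?_, ?_⟩
  · have h1 : orderOf (n ^ j) ∣ m := by
      refine orderOf_dvd_of_pow_eq_one ?_
      obtain ⟨t, ht⟩ := (Nat.modEq_zero_iff_dvd).1 hj0
      rw [← pow_mul, ht, show 2 ^ e * t * m = (2 ^ e * m) * t by ring, ← hord, pow_mul, pow_orderOf_eq_one, one_pow]
    exact (Nat.not_even_iff_odd.1 fun h => hmodd (even_iff_two_dvd.1 h)).of_dvd_nat h1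
  · obtain ⟨x, hx⟩ : ∃ x, x = n * (n ^ j)⁻¹ := ⟨_, rfl⟩
    rw [← hx]
    have hp : x ^ 2 ^ e = 1 := by
      rw [hx, ((Commute.refl n).pow_right j).inv_right.mul_pow, inv_pow, ← pow_mul, mul_inv_eq_one]
      refine pow_eq_pow_iff_modEq.2 ?_
      rw [hord]
      have : 1 * 2 ^ e ≡ j * 2 ^ e [MOD m * 2 ^ e] := Nat.ModEq.mul_right' _ hj1.symm
      rwa [one_mul, mul_comm m] at this
    have hxp : IsPGroup 2 (zpowers x) := by
      rintro ⟨w, hw⟩
      obtain ⟨i, rfl⟩ := mem_zpowers_iff.1 hw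
      exact ⟨e, Subtype.ext (by
        show (x ^ i) ^ 2 ^ e = 1
        rw [← zpow_natCast, ← zpow_mul, mul_comm, zpow_mul, zpow_natCast, hp, one_zpow])⟩
    have hxN : x ∈ normalizer ((S : Subgroup G) : Set G) := hx ▸ mul_mem hn (inv_mem (pow_mem hn j))
    have h := S.is_maximal' (S.isPGroup'.to_sup_of_normal_left' hxp (zpowers_le.2 hxN)) le_sup_left
    exact h.le (mem_sup_right (mem_zpowers x))

variable {S : Sylow 2 G}

theorem conj_mem_core {n a : G} (hn : n ∈ normalizer ((S : Subgroup G) : Set G)) (ha : a ∈ core S) :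
    n * a * n⁻¹ ∈ core S := by
  rw [mem_core] at ha ⊢
  refine ⟨(mem_normalizer_iff.1 hn a).1 ha.1, fun D hD => ?_⟩
  have := conj_fix hn (ha.2 _ (hD.map_conj (inv_mem hn)))
  change n * a * n⁻¹ ∈ fix S (cj (cj D n⁻¹) n) at this
  have e := cj_cj_inv D n⁻¹
  rw [inv_inv] at e
  rwa [e] at this

/-- An element of odd order normalising `S` centralises `M` and moves `S` inside the common fixed points. -/
theorem odd_moves {z : G} {M : Subgroup G} (hM : DihData S z M)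
    (hstar : ∀ D, Ess S D → ∃ w v, Star S D w v) {o : G} (ho : o ∈ normalizer ((S : Subgroup G) : Set G))
    (hodd : Odd (orderOf o)) {s : G} (hs : s ∈ (S : Subgroup G)) : o * s * o⁻¹ * s⁻¹ ∈ core S := by
  haveI : Fact (Nat.Prime 2) := ⟨Nat.prime_two⟩
  obtain ⟨k, ⟨iso⟩⟩ := hM.iso
  have hcen : ∀ x ∈ M, o * x * o⁻¹ = x := by
    have hp : IsPGroup 2 (MulAut ↥M) :=
      Cfsg.Agent.Fus.isPGroup_mulAut_congr iso (Cfsg.Agent.Fus.isPGroup_mulAut_dihedralGroup (by omega))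
    obtain ⟨φ, hφ⟩ : ∃ φ, φ = M.normalizerMonoidHom ⟨o, hM.norm o ho⟩ := ⟨_, rfl⟩
    have h1 : orderOf φ ∣ orderOf o := by
      rw [hφ, ← Subgroup.orderOf_mk o (hM.norm o ho)]
      exact orderOf_map_dvd _ _
    obtain ⟨i, hi⟩ := hp φ
    obtain ⟨l, -, hl⟩ := (Nat.dvd_prime_pow Nat.prime_two).1 (orderOf_dvd_of_pow_eq_one hi)
    rw [hl] at h1
    have hl0 : l = 0 := by
      by_contra hne
      exact Nat.not_even_iff_odd.2 hodd (even_iff_two_dvd.2 ((dvd_pow_self 2 hne).trans h1))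
    have hone : φ = 1 := orderOf_eq_one_iff.1 (by rw [hl, hl0, pow_zero])
    intro x hx
    have := congrArg (fun f : MulAut ↥M => ((f ⟨x, hx⟩ : ↥M) : G)) hone
    rw [hφ] at this
    exact this
  obtain ⟨w, hw⟩ : ∃ w, w = o * s * o⁻¹ * s⁻¹ := ⟨_, rfl⟩
  rw [← hw]
  have hwS : w ∈ (S : Subgroup G) := hw ▸ mul_mem ((mem_normalizer_iff.1 ho s).1 hs) (inv_mem hs)
  have hwM : ∀ x ∈ M, w * x = x * w := fun x hx => by
    have hx' : s⁻¹ * x * s ∈ M := by
      simpa using (mem_normalizer_iff.1 (inv_mem (hM.norm s (le_normalizer hs))) x).1 hx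
    refine mul_inv_eq_iff_eq_mul.1 ?_
    calc w * x * w⁻¹ = o * s * (o⁻¹ * (s⁻¹ * x * s) * o) * s⁻¹ * o⁻¹ := by rw [hw]; group
      _ = o * s * (o⁻¹ * (o * (s⁻¹ * x * s) * o⁻¹) * o) * s⁻¹ * o⁻¹ := by rw [hcen _ hx']
      _ = o * x * o⁻¹ := by group
      _ = x := hcen x hx
  refine mem_core.2 ⟨hwS, fun D hD => ?_⟩
  obtain ⟨z0, v, h⟩ := hstar D hD
  have hvM : v ∈ M := hM.mark v h.mark
  have hzvM : z0 * v ∈ M := hM.mark _ h.flip.mark
  have hz0M : z0 ∈ M := by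
    have := mul_mem hzvM (inv_mem hvM)
    rwa [mul_inv_cancel_right] at this
  have hoD : o ∈ normalizer (D : Set G) := mem_normalizer_fintype fun d hd => by
    refine h.cent_v ((mem_normalizer_iff.1 ho d).1 (hD.le hd)) ?_
    calc o * d * o⁻¹ * v = o * d * o⁻¹ * (o * v * o⁻¹) := by rw [hcen v hvM]
      _ = o * (d * v) * o⁻¹ := by group
      _ = o * (v * d) * o⁻¹ := by rw [hD.comm d hd v h.vD]
      _ = (o * v * o⁻¹) * (o * d * o⁻¹) := by group
      _ = _ := by rw [hcen v hvM]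
  have hwD : w ∈ D := h.cent_v hwS (hwM v hvM)
  obtain ⟨y, hy, hvy⟩ := h.exists_not_comm
  have hwR : ∀ r ∈ nsyl S D, r * w = w * r :=
    (h.central_or hwD).resolve_right fun hc => hvy
      (hD.comm v h.vD y (hc y hy.memS (hwM y (hM.mark y hy)).symm))
  obtain ⟨c, hc, he⟩ := h.gen w hwD
  obtain ⟨r, hr, hrD⟩ := hD.exists_normalizing
  have hnotv : ∀ a, Star S D z0 a → w ≠ c * a := fun a ha e => by
    have h1 := hwR r hr
    rw [e, ← mul_assoc r c a, h.fcomm c hc r hr, mul_assoc, mul_assoc] at h1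
    have h2 := mul_left_cancel h1
    exact ha.zv_ne (by rw [← ha.moves r hr hrD, h2, mul_inv_cancel_right])
  rcases he with e | e | e | e
  · exact e ▸ hc
  · exfalso
    have hzcen : ∀ a, a ∈ fix S D → o * a * o⁻¹ ∈ fix S D := fun a ha => conj_mem_fix hoD ha
    have hiter : ∀ j : ℕ, ∃ b ∈ fix S D, o ^ j * s * (o ^ j)⁻¹ = b * z0 ^ j * s := by
      intro j
      induction j with
      | zero => exact ⟨1, one_mem _, by simp⟩
      | succ j ih =>
        obtain ⟨b, hb, hbe⟩ := ih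
        refine ⟨o * b * o⁻¹ * c, mul_mem (hzcen b hb) hc, ?_⟩
        have hos : o * s * o⁻¹ = c * z0 * s := by rw [← e, hw, inv_mul_cancel_right]
        calc o ^ (j + 1) * s * (o ^ (j + 1))⁻¹ = o * (o ^ j * s * (o ^ j)⁻¹) * o⁻¹ := by rw [pow_succ']; group
          _ = o * b * o⁻¹ * (o * z0 ^ j * o⁻¹) * (o * s * o⁻¹) := by rw [hbe]; group
          _ = o * b * o⁻¹ * z0 ^ j * (c * z0 * s) := by rw [hcen _ (pow_mem hz0M j), hos]
          _ = o * b * o⁻¹ * (z0 ^ j * c) * z0 * s := by group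
          _ = o * b * o⁻¹ * (c * z0 ^ j) * z0 * s := by rw [hD.comm _ (pow_mem h.zD j) c hc.1]
          _ = _ := by rw [pow_succ]; group
    obtain ⟨b, hb, hbe⟩ := hiter (orderOf o)
    rw [pow_orderOf_eq_one, one_mul, inv_one, mul_one] at hbe
    obtain ⟨i, hi⟩ := hodd
    have h1 : b * z0 ^ orderOf o = 1 := mul_eq_right.1 hbe.symm
    rw [hi, pow_succ, pow_mul, pow_two, h.z_sq, one_pow, one_mul] at h1
    exact h.z_fix (eq_inv_of_mul_eq_one_right h1 ▸ inv_mem hb)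
  · exact absurd e (hnotv v h)
  · exact absurd e (hnotv _ h.flip)

theorem commutator_fix_mem {D : Subgroup G} {w v : G} (h : Star S D w v) {M : Subgroup G}
    (hM : ∀ x, Mark S x → x ∈ M) {γ d : G} (hγ : γ ∈ clo S D) (hd : d ∈ D) : γ * d * γ⁻¹ * d⁻¹ ∈ M := by
  have hvM := hM v h.mark
  have hzvM := hM _ h.flip.mark
  have hzM : w ∈ M := by
    have := mul_mem hzvM (inv_mem hvM)
    rwa [mul_inv_cancel_right] at this
  have him : ∀ {y : G}, (y = w ∨ y = v ∨ y = w * v) → y ∈ M := fun {y} hy => by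
    rcases hy with e | e | e <;> rw [e] <;> assumption
  obtain ⟨c, hc, he⟩ := h.gen d hd
  have hfc : γ * c * γ⁻¹ = c := by rw [mem_centralizer_iff.1 hc.2 γ hγ, mul_inv_cancel_right]
  have hmain : ∀ a ∈ D, a ∈ M → γ * a * γ⁻¹ ∈ M → γ * (c * a) * γ⁻¹ * (c * a)⁻¹ ∈ M := by
    intro a ha haM hγa
    rw [h.hD.comm c hc.1 a ha, show γ * (a * c) * γ⁻¹ * (a * c)⁻¹ = γ * a * γ⁻¹ * ((γ * c * γ⁻¹) * c⁻¹) * a⁻¹ by group,
      hfc, mul_inv_cancel, mul_one]
    exact mul_mem hγa (inv_mem haM)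
  rcases he with e | e | e | e
  · rw [e, hfc, mul_inv_cancel]; exact one_mem _
  · exact e ▸ hmain w h.zD hzM (him (h.perm γ hγ))
  · exact e ▸ hmain v h.vD hvM (him (h.perm_v hγ))
  · refine e ▸ hmain _ (mul_mem h.zD h.vD) hzvM ?_
    rw [show γ * (w * v) * γ⁻¹ = γ * w * γ⁻¹ * (γ * v * γ⁻¹) by group]
    exact mul_mem (him (h.perm γ hγ)) (him (h.perm_v hγ))

/-- A simple group with abelian Sylow intersections: `S` is dihedral or of class at most two. -/
theorem dihedral_or_classTwo [IsSimpleGroup G] (hG : ¬ IsMulCommutative G) (hA : AbelianMeet G)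
    (hperf : _root_.commutator G = ⊤) (S : Sylow 2 G) :
    (∃ k : ℕ, Nonempty (↥(S : Subgroup G) ≃* DihedralGroup (2 ^ (k + 2)))) ∨ ClassTwo S := by
  haveI : Fact (Nat.Prime 2) := ⟨Nat.prime_two⟩
  by_cases hall : ∀ D, Ess S D → (S : Subgroup G) ≤ normalizer (D : Set G)
  · exact Or.inr (classTwo_of_all_normal hG hA hall)
  push Not at hall
  obtain ⟨D1, hD1, hnot1⟩ := hall
  obtain ⟨z, v1, h1⟩ := hD1.exists_star hA hperf hnot1
  have hstar : ∀ D, Ess S D → ∃ w v, Star S D w v := fun D hD =>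
    hD.exists_star hA hperf fun hn => h1.not_normal hA hD hn
  obtain ⟨M, hM⟩ := exists_dihData h1
  have hfrat : ∀ D, Ess S D → ∀ n ∈ normalizer (D : Set G), ∃ γ ∈ clo S D,
      γ⁻¹ * n ∈ normalizer ((S : Subgroup G) : Set G) ∧ γ⁻¹ * n ∈ normalizer (D : Set G) := fun D hD n hn => by
    obtain ⟨γ, hγ, hm⟩ := hD.frattini hA hn
    exact ⟨γ, hγ, hm, mul_mem (inv_mem (clo_le D hγ)) hn⟩
  by_cases hcore : core S = ⊥
  swap
  · refine Or.inr (classTwo_of_closed hG S (core S) hcore (fun x hx y hy => ?_) ⟨inf_le_left, fun x hx g hg => ?_⟩)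
    · exact hD1.comm x ((mem_core.1 hx).2 D1 hD1).1 y ((mem_core.1 hy).2 D1 hD1).1
    · refine fusion hA S (fun a b => a ∈ core S → b ∈ core S) (fun a h => h) (fun a b c k1 k2 k => k2 (k1 k))
        (fun n hn a _ ha => conj_mem_core hn ha) (fun D hD n hn a _ ha => ?_) x (mem_core.1 hx).1 g hg hx
      obtain ⟨γ, hγ, hmS, -⟩ := hfrat D hD n hn
      have h2 := conj_mem_core hmS ha
      have h3 := mem_centralizer_iff.1 ((mem_core.1 h2).2 D hD).2 γ hγ
      rw [show n * a * n⁻¹ = γ * (γ⁻¹ * n * a * (γ⁻¹ * n)⁻¹) * γ⁻¹ by group, h3, mul_inv_cancel_right]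
      exact h2
  obtain ⟨N, hN⟩ : ∃ N : Subgroup G, N = M ⊔ ⁅(S : Subgroup G), (S : Subgroup G)⁆ := ⟨_, rfl⟩
  have hNS : ∀ n ∈ normalizer ((S : Subgroup G) : Set G), ∀ a ∈ (S : Subgroup G), n * a * n⁻¹ * a⁻¹ ∈ N := by
    intro n hn a ha
    obtain ⟨j, hjodd, hjS⟩ := exists_odd_power S hn
    obtain ⟨o, ho⟩ : ∃ o, o = n ^ j := ⟨_, rfl⟩
    rw [← ho] at hjodd hjS
    have h2 := odd_moves hM hstar (ho ▸ pow_mem hn j) hjodd ha
    rw [hcore, mem_bot, mul_inv_eq_one] at h2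
    rw [show n * a * n⁻¹ * a⁻¹ = (n * o⁻¹) * (o * a * o⁻¹) * (n * o⁻¹)⁻¹ * a⁻¹ by group, h2, hN]
    exact mem_sup_right (commutator_mem_commutator hjS ha)
  have hSN : (S : Subgroup G) ≤ N := by
    refine sylow_le_of_fusion hperf S N fun a ha g hg => ?_
    refine (fusion hA S (fun a b => a ∈ (S : Subgroup G) → b ∈ (S : Subgroup G) ∧ b * a⁻¹ ∈ N)
      (fun a ha => ⟨ha, by rw [mul_inv_cancel]; exact one_mem _⟩) (fun a b c k1 k2 ha => ?_)
      (fun n hn a _ ha => ⟨(mem_normalizer_iff.1 hn a).1 ha, hNS n hn a ha⟩)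
      (fun D hD n hn a haD ha => ?_) a ha g hg ha).2
    · obtain ⟨hb, e1⟩ := k1 ha
      obtain ⟨hc, e2⟩ := k2 hb
      exact ⟨hc, by simpa using mul_mem e2 e1⟩
    · refine ⟨hD.le ((mem_normalizer_iff.1 hn a).1 haD), ?_⟩
      obtain ⟨γ, hγ, hmS, hmD⟩ := hfrat D hD n hn
      obtain ⟨m, hm⟩ : ∃ m, m = γ⁻¹ * n := ⟨_, rfl⟩
      rw [← hm] at hmS hmD
      obtain ⟨w, v, hst⟩ := hstar D hD
      rw [show n * a * n⁻¹ * a⁻¹ = γ * (m * a * m⁻¹) * γ⁻¹ * (m * a * m⁻¹)⁻¹ * (m * a * m⁻¹ * a⁻¹) by rw [hm]; group]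
      exact mul_mem (hN ▸ mem_sup_left (commutator_fix_mem hst hM.mark hγ ((mem_normalizer_iff.1 hmD a).1 haD)))
        (hNS m hmS a ha)
  have hcom : ⁅(S : Subgroup G), (S : Subgroup G)⁆ = (_root_.commutator ↥(S : Subgroup G)).map (S : Subgroup G).subtype := by
    rw [commutator_def, map_commutator, ← MonoidHom.range_eq_map, range_subtype]
  have hcomle : ⁅(S : Subgroup G), (S : Subgroup G)⁆ ≤ (S : Subgroup G) := hcom ▸ map_subtype_le _
  have htop : M.subgroupOf (S : Subgroup G) ⊔ _root_.commutator ↥(S : Subgroup G) = ⊤ := by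
    apply map_injective (S : Subgroup G).subtype_injective
    rw [Subgroup.map_sup, subgroupOf_map_subtype, inf_eq_left.2 hM.le, ← hcom, ← hN, ← MonoidHom.range_eq_map,
      range_subtype]
    exact le_antisymm (hN ▸ sup_le hM.le hcomle) hSN
  have hMS : (S : Subgroup G) = M :=
    le_antisymm (subgroupOf_eq_top.1 (eq_top_of_sup S.isPGroup' htop)) hM.le
  obtain ⟨k, ⟨e⟩⟩ := hM.iso
  exact Or.inl ⟨k, ⟨(MulEquiv.subgroupCongr hMS).trans e⟩⟩

end Cfsg.Agent.Fus.AbInt
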