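import Cfsg.Agent.Lib.Fus.AbInt.Closed

/-!
# An essential subgroup `D` which is not normal in `S`, and a second one `gDg⁻¹`
-/

set_option autoImplicit false
set_option linter.unusedSectionVars false
set_option linter.style.haveILetI false

open scoped commutatorElement

namespace Cfsg.Agent.Fus.AbInt

open Subgroup

universe u

variable {G : Type u} [Group G] {S : Sylow 2 G}

/-- The conjugate `g D g⁻¹`. -/
def cj (D : Subgroup G) (g : G) : Subgroup G := D.map (MulAut.conj g).toMonoidHom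

theorem conj_mem_cj {D : Subgroup G} {d : G} (g : G) (hd : d ∈ D) : g * d * g⁻¹ ∈ cj D g := ⟨d, hd, rfl⟩

theorem mem_cj {D : Subgroup G} {g x : G} (h : x ∈ cj D g) : ∃ d ∈ D, x = g * d * g⁻¹ := by
  obtain ⟨d, hd, rfl⟩ := h
  exact ⟨d, hd, rfl⟩

theorem card_cj (D : Subgroup G) (g : G) : Nat.card (cj D g) = Nat.card D :=
  card_map_of_injective (MulAut.conj g).injective

/-- `g ∈ S` normalises `N_S(D)` but lies outside it. -/
structure Swap (S : Sylow 2 G) (D : Subgroup G) (q : ℕ) (g : G) : Prop where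
  pair : Pair S D (cj D g) q
  memS : g ∈ (S : Subgroup G)
  norm : g ∈ normalizer (nsyl S D : Set G)
  out : g ∉ nsyl S D

variable [Finite G]

/-- A member of `N(D) ∩ S` is detected by `gDg⁻¹ ⊆ D`. -/
theorem mem_nsyl_of_cj_le {D : Subgroup G} {g : G} (hg : g ∈ (S : Subgroup G)) (h : cj D g ≤ D) :
    g ∈ nsyl S D :=
  mem_inf.2 ⟨hg, mem_normalizer_fintype fun _ hd => h (conj_mem_cj g hd)⟩

theorem nsyl_conj {D : Subgroup G} {n r : G} (hnS : n ∈ normalizer ((S : Subgroup G) : Set G))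
    (hnD : n ∈ normalizer (D : Set G)) (hr : r ∈ nsyl S D) : n * r * n⁻¹ ∈ nsyl S D :=
  mem_inf.2 ⟨(mem_normalizer_iff.1 hnS r).1 (mem_inf.1 hr).1,
    mul_mem (mul_mem hnD (mem_inf.1 hr).2) (inv_mem hnD)⟩

/-- A non-normal essential subgroup has a swap. -/
theorem Ess.exists_swap (hA : AbelianMeet G) {D : Subgroup G} (hD : Ess S D)
    (hnot : ¬ (S : Subgroup G) ≤ normalizer (D : Set G)) : ∃ (q : ℕ) (g : G), Swap S D q g := by
  haveI : Fact (Nat.Prime 2) := ⟨Nat.prime_two⟩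
  have hlt : nsyl S D < (S : Subgroup G) :=
    lt_of_le_of_ne inf_le_left fun h => hnot fun x hx => (mem_inf.1 (h.ge hx)).2
  obtain ⟨g, hg, hgR⟩ := SetLike.exists_of_lt (Transfer.lt_inf_normalizer S hlt)
  obtain ⟨hgS, hgN⟩ := mem_inf.1 hg
  have hE : Ess S (cj D g) := hD.map_conj (le_normalizer hgS)
  have hoff : Offends S D (cj D g) := by
    refine ⟨?_, hE.comm, fun h => hgR (mem_nsyl_of_cj_le hgS h), (card_cj D g).ge,
      fun x hx h => hE.self x (hD.le hx) h⟩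
    intro x hx
    obtain ⟨d, hd, rfl⟩ := mem_cj hx
    exact (mem_normalizer_iff.1 hgN d).1 (mem_inf.2 ⟨hD.le hd, le_normalizer hd⟩)
  obtain ⟨q, hP⟩ := hoff.pair hA hD
  exact ⟨q, g, hP, hgS, hgN, hgR⟩

namespace Swap

variable {D : Subgroup G} {q : ℕ} {g : G} (h : Swap S D q g)
include h

theorem left_le : D ≤ nsyl S D := fun _ hd => mem_inf.2 ⟨h.pair.hD.le hd, le_normalizer hd⟩

theorem right_le : cj D g ≤ nsyl S D := h.pair.hE.le

theorem essE : Ess S (cj D g) := h.pair.hD.map_conj (le_normalizer h.memS)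

theorem conj_nsyl {r : G} (hr : r ∈ nsyl S D) : g * r * g⁻¹ ∈ nsyl S D :=
  (mem_normalizer_iff.1 h.norm r).1 hr

theorem inv_conj_nsyl {r : G} (hr : r ∈ nsyl S D) : g⁻¹ * r * g ∈ nsyl S D := by
  simpa using (mem_normalizer_iff.1 (inv_mem h.norm) r).1 hr

theorem exists_invol {r : G} (hr : r ∈ nsyl S D) : ∃ d ∈ D, ∃ v ∈ cj D g, v * v = 1 ∧ r = d * v := by
  obtain ⟨d, hd, e, he, rfl⟩ := h.pair.gen r hr
  obtain ⟨d0, hd0, rfl⟩ := mem_cj he
  obtain ⟨v, hv, hv2, c, hc, rfl⟩ := h.pair.split d0 hd0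
  have hcD : g * c * g⁻¹ ∈ D := by
    refine h.pair.hD.self _ (mem_inf.1 (h.conj_nsyl (h.left_le hc.1))).1 fun x hx => ?_
    have hx' := h.inv_conj_nsyl (h.left_le hx)
    calc g * c * g⁻¹ * x = g * (c * (g⁻¹ * x * g)) * g⁻¹ := by group
      _ = g * ((g⁻¹ * x * g) * c) * g⁻¹ := by rw [h.pair.zcomm c (h.pair.fix_le hc) _ hx']
      _ = _ := by group
  refine ⟨d * (g * c * g⁻¹), mul_mem hd hcD, g * v * g⁻¹, conj_mem_cj g hv, ?_, ?_⟩
  · rw [show g * v * g⁻¹ * (g * v * g⁻¹) = g * (v * v) * g⁻¹ by group, hv2, mul_one, mul_inv_cancel]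
  · rw [show g * (v * c) * g⁻¹ = g * (v * c) * g⁻¹ from rfl,
      show v * c = c * v from h.pair.hD.comm v hv c hc.1]
    group

/-- The involutions of `N_S(D)` lie in `D` or in `gDg⁻¹`. -/
theorem invol {r : G} (hr : r ∈ nsyl S D) (h2 : r * r = 1) : r ∈ D ∨ r ∈ cj D g := by
  obtain ⟨d, hd, v, hv, hv2, rfl⟩ := h.exists_invol hr
  by_cases hvD : v ∈ D
  · exact Or.inl (mul_mem hd hvD)
  refine Or.inr (mul_mem ?_ hv)
  by_contra hdE
  refine h.pair.comm_not v (h.right_le hv) hvD d hd hdE ?_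
  have hvi : v⁻¹ = v := inv_eq_of_mul_eq_one_right hv2
  have he : ⁅v, d⁆ = (d * d)⁻¹ := by
    rw [commutatorElement_def, hvi, mul_inv_rev, ← mul_left_inj d, inv_mul_cancel_right,
      inv_mul_cancel_right]
    refine eq_inv_of_mul_eq_one_right ?_
    rw [show d * (v * d * v) = d * v * (d * v) by group]
    exact h2
  rw [he]
  exact inv_mem (h.pair.sq_fix d hd)

theorem mem_of_comm_invol {r : G} (hr : r ∈ nsyl S D) (hc : ∀ v ∈ D, v * v = 1 → r * v = v * r) :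
    r ∈ D := by
  refine h.pair.hD.self r (mem_inf.1 hr).1 fun d hd => ?_
  obtain ⟨v, hv, hv2, c, hcf, rfl⟩ := h.pair.split d hd
  rw [← mul_assoc, hc v hv hv2, mul_assoc, h.pair.zcomm c (h.pair.fix_le hcf) r hr, ← mul_assoc]

theorem cj_eq_of_invol_mem {m : G} (hle : cj D m ≤ nsyl S D)
    (hm : ∀ v ∈ D, v * v = 1 → m * v * m⁻¹ ∈ D) : cj D m = D := by
  refine eq_of_le_of_card_ge ?_ (card_cj D m).ge
  intro x hx
  obtain ⟨d, hd, rfl⟩ := mem_cj hx
  refine h.mem_of_comm_invol (hle hx) fun w hw hw2 => ?_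
  let f : ↥(omega h.pair.hD.comm) → ↥(omega h.pair.hD.comm) := fun v => ⟨m * v * m⁻¹, hm v v.2.1 v.2.2, by
    rw [show m * v * m⁻¹ * (m * v * m⁻¹) = m * ((v : G) * v) * m⁻¹ by group, v.2.2, mul_one, mul_inv_cancel]⟩
  have hinj : Function.Injective f := fun a b e =>
    Subtype.ext (mul_left_cancel (mul_right_cancel (congrArg Subtype.val e)))
  obtain ⟨⟨v, hv⟩, hvw⟩ := (Finite.surjective_of_injective hinj) ⟨w, hw, hw2⟩
  obtain rfl : m * v * m⁻¹ = w := congrArg Subtype.val hvw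
  calc m * d * m⁻¹ * (m * v * m⁻¹) = m * (d * v) * m⁻¹ := by group
    _ = m * (v * d) * m⁻¹ := by rw [h.pair.hD.comm d hd v hv.1]
    _ = _ := by group

/-- The only conjugates of `D` inside `N_S(D)` are `D` and `gDg⁻¹`. -/
theorem cj_cases {m : G} (hle : cj D m ≤ nsyl S D) : cj D m = D ∨ cj D m = cj D g := by
  by_cases hD' : ∀ v ∈ D, v * v = 1 → m * v * m⁻¹ ∈ D
  · exact Or.inl (h.cj_eq_of_invol_mem hle hD')
  right
  push Not at hD'
  obtain ⟨a, ha, ha2, haD⟩ := hD'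
  have hinv : ∀ v : G, v * v = 1 → m * v * m⁻¹ * (m * v * m⁻¹) = 1 := fun v hv => by
    rw [show m * v * m⁻¹ * (m * v * m⁻¹) = m * (v * v) * m⁻¹ by group, hv, mul_one, mul_inv_cancel]
  have haE := (h.invol (hle (conj_mem_cj m ha)) (hinv a ha2)).resolve_left haD
  have hall : ∀ v ∈ D, v * v = 1 → m * v * m⁻¹ ∈ cj D g := by
    intro v hv hv2
    by_contra hvE
    have hvD := (h.invol (hle (conj_mem_cj m hv)) (hinv v hv2)).resolve_right hvE
    have hav2 : a * v * (a * v) = 1 := by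
      rw [show a * v * (a * v) = a * (v * a) * v by group, h.pair.hD.comm v hv a ha,
        show a * (a * v) * v = (a * a) * (v * v) by group, ha2, hv2, one_mul]
    have hprod : m * (a * v) * m⁻¹ = m * a * m⁻¹ * (m * v * m⁻¹) := by group
    rcases h.invol (hle (conj_mem_cj m (mul_mem ha hv))) (hinv _ hav2) with h1 | h1
    · rw [hprod] at h1
      exact haD ((Subgroup.mul_mem_cancel_right _ hvD).1 h1)
    · rw [hprod] at h1
      exact hvE ((Subgroup.mul_mem_cancel_left _ haE).1 h1)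
  have hcj : ∀ x ∈ cj D (g⁻¹ * m), ∃ d ∈ D, x = g⁻¹ * (m * d * m⁻¹) * g := fun x hx => by
    obtain ⟨d, hd, rfl⟩ := mem_cj hx
    exact ⟨d, hd, by group⟩
  have key : cj D (g⁻¹ * m) = D := by
    refine h.cj_eq_of_invol_mem (fun x hx => ?_) fun v hv hv2 => ?_
    · obtain ⟨d, hd, rfl⟩ := hcj x hx
      exact h.inv_conj_nsyl (hle (conj_mem_cj m hd))
    · obtain ⟨d, hd, he⟩ := mem_cj (hall v hv hv2)
      have : g⁻¹ * m * v * (g⁻¹ * m)⁻¹ = d := by
        calc g⁻¹ * m * v * (g⁻¹ * m)⁻¹ = g⁻¹ * (m * v * m⁻¹) * g := by group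
          _ = d := by rw [he]; group
      rwa [this]
  refine eq_of_le_of_card_ge (fun x hx => ?_) (by rw [card_cj, card_cj])
  obtain ⟨d, hd, rfl⟩ := mem_cj hx
  have h1 : g⁻¹ * m * d * (g⁻¹ * m)⁻¹ ∈ D := key.le (conj_mem_cj _ hd)
  have := conj_mem_cj g h1
  rwa [show g * (g⁻¹ * m * d * (g⁻¹ * m)⁻¹) * g⁻¹ = m * d * m⁻¹ by group] at this

theorem not_le : ¬ cj D g ≤ D := h.pair.hE.not_le

theorem cj_eq_cases {x : G} (hxS : x ∈ (S : Subgroup G)) (hxN : x ∈ normalizer (nsyl S D : Set G)) :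
    x ∈ nsyl S D ∨ g⁻¹ * x ∈ nsyl S D := by
  have hle : cj D x ≤ nsyl S D := fun y hy => by
    obtain ⟨d, hd, rfl⟩ := mem_cj hy
    exact (mem_normalizer_iff.1 hxN d).1 (h.left_le hd)
  rcases h.cj_cases hle with e | e
  · exact Or.inl (mem_nsyl_of_cj_le hxS e.le)
  · refine Or.inr (mem_nsyl_of_cj_le (mul_mem (inv_mem h.memS) hxS) fun y hy => ?_)
    obtain ⟨d, hd, rfl⟩ := mem_cj hy
    obtain ⟨d', hd', he⟩ := mem_cj (e.le (conj_mem_cj x hd))
    rw [show g⁻¹ * x * d * (g⁻¹ * x)⁻¹ = g⁻¹ * (x * d * x⁻¹) * g by group, he]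
    simpa [mul_assoc] using hd'

theorem sq_mem : g * g ∈ nsyl S D := by
  rcases h.cj_eq_cases (mul_mem h.memS h.memS) (mul_mem h.norm h.norm) with h1 | h1
  · exact h1
  · rw [inv_mul_cancel_left] at h1
    exact absurd h1 h.out

theorem conj_left {d : G} (hd : d ∈ D) : g * d * g⁻¹ ∈ cj D g := conj_mem_cj g hd

theorem conj_right {e : G} (he : e ∈ cj D g) : g * e * g⁻¹ ∈ D := by
  obtain ⟨d, hd, rfl⟩ := mem_cj he
  rw [show g * (g * d * g⁻¹) * g⁻¹ = g * g * d * (g * g)⁻¹ by group]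
  exact (mem_normalizer_iff.1 (mem_inf.1 h.sq_mem).2 d).1 hd

theorem inv_conj_right {e : G} (he : e ∈ cj D g) : g⁻¹ * e * g ∈ D := by
  obtain ⟨d, hd, rfl⟩ := mem_cj he
  simpa [mul_assoc] using hd

theorem conj_mid {z : G} (hz : z ∈ D ⊓ cj D g) : g * z * g⁻¹ ∈ D ⊓ cj D g :=
  mem_inf.2 ⟨h.conj_right (mem_inf.1 hz).2, h.conj_left (mem_inf.1 hz).1⟩

theorem inv_conj_mid {z : G} (hz : z ∈ D ⊓ cj D g) : g⁻¹ * z * g ∈ D ⊓ cj D g := by
  refine mem_inf.2 ⟨h.inv_conj_right (mem_inf.1 hz).2, ?_⟩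
  have hD' : g⁻¹ * g⁻¹ * z * (g⁻¹ * g⁻¹)⁻¹ ∈ D := by
    have := (mem_normalizer_iff.1 (inv_mem (mem_inf.1 h.sq_mem).2) z).1 (mem_inf.1 hz).1
    rwa [mul_inv_rev] at this
  have := h.conj_left hD'
  rwa [show g * (g⁻¹ * g⁻¹ * z * (g⁻¹ * g⁻¹)⁻¹) * g⁻¹ = g⁻¹ * z * g by group] at this

/-- Any element of `(S ∩ N(R)) \ R` is again a swap. -/
theorem change {x : G} (hxS : x ∈ (S : Subgroup G)) (hxN : x ∈ normalizer (nsyl S D : Set G))
    (hx : x ∉ nsyl S D) : Swap S D q x := by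
  have hle : cj D x ≤ nsyl S D := fun y hy => by
    obtain ⟨d, hd, rfl⟩ := mem_cj hy
    exact (mem_normalizer_iff.1 hxN d).1 (h.left_le hd)
  rcases h.cj_cases hle with e | e
  · exact absurd (mem_nsyl_of_cj_le hxS e.le) hx
  · exact ⟨e.symm ▸ h.pair, hxS, hxN, hx⟩

theorem mul_mem_of_out {x y : G} (hxS : x ∈ (S : Subgroup G)) (hxN : x ∈ normalizer (nsyl S D : Set G))
    (hx : x ∉ nsyl S D) (hyS : y ∈ (S : Subgroup G)) (hyN : y ∈ normalizer (nsyl S D : Set G))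
    (hy : y ∉ nsyl S D) : x * y ∈ nsyl S D := by
  have h1 := (h.cj_eq_cases hxS hxN).resolve_left hx
  have h2 := (h.cj_eq_cases hyS hyN).resolve_left hy
  rw [show x * y = (g * g) * (g⁻¹ * (g⁻¹ * x) * g) * (g⁻¹ * y) by group]
  exact mul_mem (mul_mem h.sq_mem (h.inv_conj_nsyl h1)) h2

/-- Elements of `N(D) ∩ N(S)` commute with the action of `g` on `D ∩ gDg⁻¹`. -/
theorem act_comm {n z : G} (hnD : n ∈ normalizer (D : Set G))
    (hnS : n ∈ normalizer ((S : Subgroup G) : Set G)) (hz : z ∈ D ⊓ cj D g) :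
    g * (n * z * n⁻¹) * g⁻¹ = n * (g * z * g⁻¹) * n⁻¹ := by
  have hnR : ∀ r ∈ nsyl S D, n⁻¹ * r * n ∈ nsyl S D := fun r hr => by
    simpa using nsyl_conj (inv_mem hnS) (inv_mem hnD) hr
  have hxS : n⁻¹ * g * n ∈ (S : Subgroup G) := by
    simpa using (mem_normalizer_iff.1 (inv_mem hnS) g).1 h.memS
  have hxN : n⁻¹ * g * n ∈ normalizer (nsyl S D : Set G) := mem_normalizer_fintype fun r hr => by
    show n⁻¹ * g * n * r * (n⁻¹ * g * n)⁻¹ ∈ nsyl S D
    rw [show n⁻¹ * g * n * r * (n⁻¹ * g * n)⁻¹ = n⁻¹ * (g * (n * r * n⁻¹) * g⁻¹) * n by group]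
    exact hnR _ (h.conj_nsyl (nsyl_conj hnS hnD hr))
  have hxR : n⁻¹ * g * n ∉ nsyl S D := fun hc => h.out (by
    have := nsyl_conj hnS hnD hc
    rwa [show n * (n⁻¹ * g * n) * n⁻¹ = g by group] at this)
  obtain ⟨r, hr⟩ : ∃ r, r = g⁻¹ * (n⁻¹ * g * n) := ⟨_, rfl⟩
  have hrR : r ∈ nsyl S D := hr ▸ (h.cj_eq_cases hxS hxN).resolve_left hxR
  calc g * (n * z * n⁻¹) * g⁻¹ = n * g * (r * z) * r⁻¹ * g⁻¹ * n⁻¹ := by rw [hr]; group
    _ = n * g * (z * r) * r⁻¹ * g⁻¹ * n⁻¹ := by rw [h.pair.zcomm z hz r hrR]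
    _ = _ := by group

end Swap

end Cfsg.Agent.Fus.AbInt
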