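import Cfsg.Agent.Lib.Fus.AbInt.Dih

/-!
# No normal essential subgroup beside a non-normal one
-/

set_option autoImplicit false
set_option linter.unusedSectionVars false
set_option linter.style.haveILetI false

namespace Cfsg.Agent.Fus.AbInt

open Subgroup

universe u

variable {G : Type u} [Group G] [Finite G] {S : Sylow 2 G}

/-- An element of `C(D)·S` containing a conjugate of a point outside `D`. -/
theorem Ess.not_conj_into (hA : AbelianMeet G) {D : Subgroup G} (hD : Ess S D) {n v s c : G}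
    (hn : n ∈ normalizer (D : Set G)) (hout : ∀ c ∈ centralizer (D : Set G), c * n ∉ normalizer ((S : Subgroup G) : Set G))
    (hSD : (S : Subgroup G) ≤ normalizer (D : Set G))
    (hvS : v ∈ (S : Subgroup G)) (hvD : v ∉ D) (hs : s ∈ (S : Subgroup G)) (hc : c ∈ centralizer (D : Set G))
    (he : n * v * n⁻¹ = s * c) : False := by
  haveI : Fact (Nat.Prime 2) := ⟨Nat.prime_two⟩
  have hCN : centralizer (D : Set G) ≤ normalizer (D : Set G) := centralizer_le_normalizer _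
  have hN : (S : Subgroup G) ⊔ centralizer (D : Set G) ≤ normalizer (D : Set G) := sup_le hSD hCN
  have hodd : ¬ 2 ∣ (S : Subgroup G).relIndex ((S : Subgroup G) ⊔ centralizer (D : Set G)) := fun hd => by
    refine hD.not_two_dvd hA ?_
    rw [inf_eq_left.2 hSD]
    exact hd.trans (Dvd.intro _ (relIndex_mul_relIndex _ _ _ le_sup_left hN))
  obtain ⟨m, hm, hmU⟩ := exists_conj_mem S.isPGroup' le_sup_left hodd
    ((S.isPGroup'.to_le (zpowers_le.2 hvS)).map (MulAut.conj n).toMonoidHom) (by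
      rw [MonoidHom.map_zpowers, zpowers_le]
      show n * v * n⁻¹ ∈ _
      rw [he]
      exact mul_mem (mem_sup_left hs) (mem_sup_right hc))
  have hmv : m * n * v * (m * n)⁻¹ ∈ (S : Subgroup G) := by
    rw [show m * n * v * (m * n)⁻¹ = m * (n * v * n⁻¹) * m⁻¹ by group]
    exact hmU _ ⟨v, mem_zpowers v, rfl⟩
  have h1 := hD.mem_normalizer hA (mul_mem (hN hm) hn) hvS hvD hmv
  have hSC : (S : Subgroup G) ≤ normalizer (centralizer (D : Set G) : Set G) := fun p hp => by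
    refine mem_normalizer_fintype fun a ha => mem_centralizer_iff.2 fun d hd => ?_
    have hd' : p⁻¹ * d * p ∈ D := by simpa using (mem_normalizer_iff.1 (inv_mem (hSD hp)) d).1 hd
    calc d * (p * a * p⁻¹) = p * ((p⁻¹ * d * p) * a) * p⁻¹ := by group
      _ = p * (a * (p⁻¹ * d * p)) * p⁻¹ := by rw [mem_centralizer_iff.1 ha _ hd']
      _ = _ := by group
  rw [← SetLike.mem_coe, coe_mul_of_left_le_normalizer_right _ _ hSC] at hm
  obtain ⟨s', hs', c', hc', rfl⟩ := hm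
  refine hout c' hc' ?_
  rw [show c' * n = s'⁻¹ * (s' * c' * n) by group]
  exact mul_mem (inv_mem (le_normalizer hs')) h1

theorem pow_split {ρ : G} {P : Subgroup G} {i : ℕ} (h : ρ ^ 2 ^ i ∈ P) :
    ∃ j : ℕ, (∃ l : ℕ, (ρ ^ j) ^ 2 ^ l = 1) ∧ ρ * (ρ ^ j)⁻¹ ∈ P := by
  obtain ⟨e, m, hmodd, hord⟩ := Nat.exists_eq_pow_mul_and_not_dvd (orderOf_pos ρ).ne' 2 (by norm_num)
  have hcop : Nat.Coprime m (2 ^ (max e i)) :=
    Nat.Coprime.pow_right _ ((Nat.prime_two.coprime_iff_not_dvd).2 hmodd).symm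
  obtain ⟨j, hj0, hj1⟩ := Nat.chineseRemainder hcop 0 1
  refine ⟨j, ⟨e, ?_⟩, ?_⟩
  · obtain ⟨t, ht⟩ := (Nat.modEq_zero_iff_dvd).1 hj0
    rw [← pow_mul, ht, show m * t * 2 ^ e = (2 ^ e * m) * t by ring, ← hord, pow_mul, pow_orderOf_eq_one, one_pow]
  · obtain ⟨t, ht⟩ : ((2 ^ (max e i) : ℕ) : ℤ) ∣ ((j : ℤ) - 1) := Nat.modEq_iff_dvd.1 hj1.symm
    have h2 : ρ ^ 2 ^ (max e i) ∈ P := by
      rw [show 2 ^ max e i = 2 ^ i * 2 ^ (max e i - i) by rw [← pow_add, Nat.add_sub_cancel' (le_max_right _ _)],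
        pow_mul]
      exact pow_mem h _
    have : ρ * (ρ ^ j)⁻¹ = (ρ ^ 2 ^ (max e i)) ^ (-t) := by
      rw [← zpow_natCast ρ (2 ^ max e i), ← zpow_mul, ← zpow_natCast ρ j, ← zpow_neg]
      nth_rewrite 1 [← zpow_one ρ]
      rw [← zpow_add]
      congr 1
      rw [mul_neg, ← ht]; ring
    rw [this]
    exact zpow_mem h2 _

/-- A fixed point and a point moved by it: the fourth power acts trivially. -/
theorem four_fix {Ω : Subgroup G} (hcomm : ∀ x ∈ Ω, ∀ y ∈ Ω, x * y = y * x) (h2 : ∀ x ∈ Ω, x * x = 1)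
    {ρ y c : G} (hy : y ∈ Ω) (hc : c ∈ Ω) (fy : ρ * y * ρ⁻¹ = y) (fc : ρ * c * ρ⁻¹ = c ∨ ρ * c * ρ⁻¹ = c * y)
    (hx : ∀ x ∈ Ω, ρ * x * ρ⁻¹ = x ∨ ρ * x * ρ⁻¹ = x * y ∨ ρ * x * ρ⁻¹ = x * c ∨ ρ * x * ρ⁻¹ = x * c * y) :
    ∀ x ∈ Ω, ρ ^ 2 ^ 2 * x * (ρ ^ 2 ^ 2)⁻¹ = x := by
  have hmul : ∀ a b : G, ρ * (a * b) * ρ⁻¹ = ρ * a * ρ⁻¹ * (ρ * b * ρ⁻¹) := fun a b => by group
  have hcy : c * y = y * c := hcomm c hc y hy
  have hcc : c * c = 1 := h2 c hc
  have hyy : y * y = 1 := h2 y hy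
  have hsq : ∀ a ∈ Ω, ρ * (ρ * a * ρ⁻¹) * ρ⁻¹ = a ∨ ρ * (ρ * a * ρ⁻¹) * ρ⁻¹ = a * y := by
    intro a ha
    rcases hx a ha with e | e | e | e
    · exact Or.inl (by rw [e, e])
    · exact Or.inl (by rw [e, hmul, e, fy, mul_assoc, hyy, mul_one])
    · rcases fc with f | f
      · exact Or.inl (by rw [e, hmul, e, f, mul_assoc, hcc, mul_one])
      · exact Or.inr (by rw [e, hmul, e, f, ← mul_assoc, mul_assoc a, hcc, mul_one])
    · have hk : a * c * y * c * y = a := by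
        rw [mul_assoc (a * c), ← hcy, ← mul_assoc, mul_assoc a, hcc, mul_one, mul_assoc, hyy, mul_one]
      rcases fc with f | f
      · refine Or.inl ?_
        rw [e, hmul, hmul, e, f, fy]
        exact hk
      · refine Or.inr ?_
        rw [e, hmul, hmul, e, f, fy]
        rw [← mul_assoc (a * c * y), hk]
  intro a ha
  rw [show (2 : ℕ) ^ 2 = 4 from rfl]
  rw [show ρ ^ 4 * a * (ρ ^ 4)⁻¹ = ρ * (ρ * (ρ * (ρ * a * ρ⁻¹) * ρ⁻¹) * ρ⁻¹) * ρ⁻¹ by
    simp only [pow_succ, pow_zero, one_mul, mul_inv_rev, mul_assoc]]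
  rcases hsq a ha with e | e
  · rw [e, e]
  · rw [e, hmul a y, fy, hmul (ρ * a * ρ⁻¹) y, fy, e, mul_assoc, hyy, mul_one]

namespace Star

variable {D D0 : Subgroup G} {z v : G} (h : Star S D z v) (hA : AbelianMeet G) (hD0 : Ess S D0)
  (hn : (S : Subgroup G) ≤ normalizer (D0 : Set G))
include h hA hD0 hn

theorem v_not_mem : v ∉ D0 := by
  intro hv
  refine h.nonnormal ?_
  have hle : D0 ≤ D := fun a ha => h.cent_v (hD0.le ha) (hD0.comm a ha v hv)
  have : D = D0 := le_antisymm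
    (fun a ha => hD0.self a (h.hD.le ha) fun b hb => h.hD.comm a ha b (hle hb)) hle
  exact this ▸ hn

theorem z_mem : z ∈ D0 := hD0.self z h.zS fun d hd => (h.z_central (hD0.le hd)).symm

theorem not_normal : False := by
  haveI : Fact (Nat.Prime 2) := ⟨Nat.prime_two⟩
  have hvi := h.v_inv
  have hv0 := h.v_not_mem hA hD0 hn
  have hz0 := h.z_mem hA hD0 hn
  have hfix : ∀ a ∈ D0, a * v = v * a → a ∈ D0 ⊓ D := fun a ha e => mem_inf.2 ⟨ha, h.cent_v (hD0.le ha) e⟩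
  have hcj : ∀ a ∈ D0, v * a * v ∈ D0 := fun a ha => by
    have := (mem_normalizer_iff.1 (hn h.vS) a).1 ha
    rwa [hvi] at this
  -- a commutator of order at most two lies in `⟨z⟩`
  have hsmall : ∀ a ∈ D0, (a * v * a⁻¹ * v) * (a * v * a⁻¹ * v) = 1 → a * v * a⁻¹ = v ∨ a * v * a⁻¹ = z * v := by
    intro a ha ht
    have hst := h.conj (le_normalizer (hD0.le ha))
    refine (h.of_comm hst ?_).2.2
    have := inv_eq_of_mul_eq_one_right ht
    rw [mul_inv_rev, hvi, hst.v_inv] at this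
    exact this
  by_cases hall : ∀ a ∈ D0, a * v * a⁻¹ = v ∨ a * v * a⁻¹ = z * v
  · -- `D` is then an offender on `D0`
    have hlt : D0 ⊓ D < D := lt_of_le_of_ne inf_le_right fun e => hv0 (mem_inf.1 (e.ge h.vD)).1
    have hhalf : Nat.card D0 ≤ 2 * Nat.card ↥(D0 ⊓ D) := by
      by_cases hex : ∃ a ∈ D0, a * v * a⁻¹ = z * v
      · obtain ⟨b, hb, hbv⟩ := hex
        refine card_le_two_mul b fun a ha => ?_
        rcases hall a ha with e | e
        · exact Or.inl (hfix a ha (mul_inv_eq_iff_eq_mul.1 e))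
        · refine Or.inr (hfix _ (mul_mem ha hb) (mul_inv_eq_iff_eq_mul.1 ?_))
          rw [show a * b * v * (a * b)⁻¹ = a * (b * v * b⁻¹) * a⁻¹ by group, hbv,
            show a * (z * v) * a⁻¹ = a * z * a⁻¹ * (a * v * a⁻¹) by group, e, h.z_central (hD0.le ha),
            mul_inv_cancel_right, ← mul_assoc, h.z_sq, one_mul]
      · push Not at hex
        refine le_trans (card_le_of_le fun a ha => hfix a ha (mul_inv_eq_iff_eq_mul.1
          ((hall a ha).resolve_right (hex a ha)))) (Nat.le_mul_of_pos_left _ two_pos)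
    have hbig : 2 * Nat.card ↥(D0 ⊓ D) ≤ Nat.card D := by
      have h1 := Grp.card_mul_relIndex hlt.le
      rw [← h1, mul_comm 2]
      refine Nat.mul_le_mul_left _ ?_
      have h2 : (D0 ⊓ D).relIndex D ≠ 0 := Nat.pos_iff_ne_zero.1
        (Nat.pos_of_ne_zero fun e => by
          rw [e, mul_zero] at h1
          exact (Nat.card_pos (α := ↥D)).ne h1)
      have h3 : (D0 ⊓ D).relIndex D ≠ 1 := fun e => hlt.not_ge (relIndex_eq_one.1 e)
      omega
    have hSn : nsyl S D0 = (S : Subgroup G) := inf_eq_left.2 hn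
    have hoff : Offends S D0 D :=
      ⟨hSn.symm ▸ h.hD.le, h.hD.comm, fun hle => hv0 (hle h.vD), hhalf.trans hbig,
        fun x hx hc => h.hD.self x (hD0.le hx) hc⟩
    obtain ⟨q, hP⟩ := hoff.pair hA hD0
    have hq : q = 2 := by
      have h1 := hP.card_D
      rw [h1] at hhalf
      have := Nat.le_of_mul_le_mul_right hhalf Nat.card_pos
      have := hP.q_two
      omega
    have hR := hP.card_R
    rw [hSn, hq, ← hP.card_eq] at hR
    obtain ⟨x, hx, hxD⟩ := h.hD.exists_normalizing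
    change x ∈ nsyl S D at hx
    have h2 : 2 * Nat.card D ≤ Nat.card (nsyl S D) := by
      have hlt' : D < nsyl S D := lt_of_le_of_ne (le_inf h.hD.le le_normalizer) fun e => hxD (e.ge hx)
      have h1 := Grp.card_mul_relIndex hlt'.le
      rw [← h1, mul_comm 2]
      refine Nat.mul_le_mul_left _ ?_
      have h3 : D.relIndex (nsyl S D) ≠ 1 := fun e => hlt'.not_ge (relIndex_eq_one.1 e)
      have h4 : D.relIndex (nsyl S D) ≠ 0 := fun e => by
        rw [e, mul_zero] at h1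
        exact (Nat.card_pos (α := ↥(nsyl S D))).ne h1
      omega
    have heq : nsyl S D = (S : Subgroup G) := eq_of_le_of_card_ge inf_le_left (hR.le.trans h2)
    exact h.nonnormal fun s hs => (mem_inf.1 (heq.ge hs)).2
  push Not at hall
  obtain ⟨a, ha, ha1, ha2⟩ := hall
  -- `t` of order four inverted by `v`, with `t² = z`
  have hconjt : ∀ a ∈ D0, v * (a * v * a⁻¹ * v) * v = (a * v * a⁻¹ * v)⁻¹ := fun a _ => by
    rw [mul_inv_rev, mul_inv_rev, mul_inv_rev, inv_inv, hvi,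
      show v * (a * v * a⁻¹ * v) * v = v * a * v * a⁻¹ * (v * v) by group, h.v_sq, mul_one]
    group
  have hhom : ∀ a ∈ D0, ∀ b ∈ D0, a * b * v * (a * b)⁻¹ * v = (a * v * a⁻¹ * v) * (b * v * b⁻¹ * v) := by
    intro a ha b hb
    have hA' := mul_mem ha (hcj a⁻¹ (inv_mem ha))
    have hB' := mul_mem hb (hcj b⁻¹ (inv_mem hb))
    have e1 : a * v * a⁻¹ * v = a * (v * a⁻¹ * v) := by group
    have e2 : b * v * b⁻¹ * v = b * (v * b⁻¹ * v) := by group
    rw [e1, e2]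
    calc a * b * v * (a * b)⁻¹ * v = a * (b * (v * b⁻¹ * v)) * (v⁻¹ * a⁻¹ * v) := by group
      _ = (b * (v * b⁻¹ * v)) * a * (v * a⁻¹ * v) := by rw [hvi, hD0.comm a ha _ hB']
      _ = _ := by rw [mul_assoc, hD0.comm _ hB' _ hA']
  have hpowt : ∀ n : ℕ, a ^ n * v * (a ^ n)⁻¹ * v = (a * v * a⁻¹ * v) ^ n := by
    intro n
    induction n with
    | zero => simp [h.v_sq]
    | succ n ih => rw [pow_succ, pow_succ, hhom _ (pow_mem ha n) a ha, ih]
  obtain ⟨t0, ht0⟩ : ∃ t0, t0 = a * v * a⁻¹ * v := ⟨_, rfl⟩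
  have ht0D : t0 ∈ D0 := by
    rw [ht0, show a * v * a⁻¹ * v = a * (v * a⁻¹ * v) by group]
    exact mul_mem ha (hcj _ (inv_mem ha))
  have ht0sq : t0 * t0 ≠ 1 := fun e => by
    rcases hsmall a ha (ht0 ▸ e) with h1 | h1
    · exact ha1 h1
    · exact ha2 h1
  obtain ⟨j, hj⟩ := IsPGroup.iff_orderOf.1 S.isPGroup' ⟨t0, hD0.le ht0D⟩
  rw [Subgroup.orderOf_mk] at hj
  obtain ⟨j, rfl⟩ : ∃ l, j = l + 2 := by
    refine ⟨j - 2, ?_⟩
    by_contra hne
    refine ht0sq ?_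
    have h1 : orderOf t0 ∣ 2 := by rw [hj]; exact Nat.pow_dvd_pow 2 (show j ≤ 1 by omega)
    rw [← pow_two]
    exact orderOf_dvd_iff_pow_eq_one.1 h1
  obtain ⟨t, ht⟩ : ∃ t, t = t0 ^ 2 ^ j := ⟨_, rfl⟩
  have htD : t ∈ D0 := ht ▸ pow_mem ht0D _
  have htinv : v * t * v = t⁻¹ := by
    rw [ht, show v * t0 ^ 2 ^ j * v = v * t0 ^ 2 ^ j * v⁻¹ by rw [hvi], ← conj_pow, hvi, ht0, hconjt a ha,
      inv_pow]
  have htt : t * t = z := by
    have hw : t * t = t0 ^ 2 ^ (j + 1) := by rw [ht, ← pow_add, pow_succ, mul_two]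
    have hne : t * t ≠ 1 := fun e => by
      have h1 := Nat.le_of_dvd (pow_pos two_pos _) (orderOf_dvd_of_pow_eq_one (hw ▸ e))
      rw [hj] at h1
      have := (Nat.pow_le_pow_iff_right (by norm_num : 1 < 2)).1 h1
      omega
    have h1 : a ^ 2 ^ (j + 1) * v * (a ^ 2 ^ (j + 1))⁻¹ * v = t * t := by rw [hpowt, ← ht0, hw]
    have h2 : (t * t) * (t * t) = 1 := by
      rw [hw, ← pow_add, ← mul_two, ← pow_succ, ← hj, pow_orderOf_eq_one]
    rcases hsmall _ (pow_mem ha _) (h1.symm ▸ h2) with e | e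
    · rw [e, h.v_sq] at h1
      exact absurd h1.symm hne
    · rw [← h1, e, mul_assoc, h.v_sq, mul_one]
  -- the action on the involutions of `D0`
  obtain ⟨n, hnN, hout⟩ := hD0.out
  have hact : ∀ x ∈ omega hD0.comm, v * x * v⁻¹ = x ∨ v * x * v⁻¹ = x * z := by
    intro x hx
    have hxi : x⁻¹ = x := inv_eq_of_mul_eq_one_right hx.2
    have hy : v * x⁻¹ * v ∈ D0 := hcj _ (inv_mem hx.1)
    have h2 : (x * v * x⁻¹ * v) * (x * v * x⁻¹ * v) = 1 := by
      rw [show x * v * x⁻¹ * v = x * (v * x⁻¹ * v) by group,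
        show x * (v * x⁻¹ * v) * (x * (v * x⁻¹ * v)) = x * ((v * x⁻¹ * v) * x) * (v * x⁻¹ * v) by group,
        hD0.comm _ hy x hx.1, show x * (x * (v * x⁻¹ * v)) * (v * x⁻¹ * v) = (x * x) * (v * x⁻¹ * (v * v) * x⁻¹ * v) by group,
        hx.2, h.v_sq, one_mul, mul_one, hxi, show v * x * x * v = v * (x * x) * v by group, hx.2, mul_one, h.v_sq]
    rcases hsmall x hx.1 h2 with e | e
    · left
      rw [hvi]
      calc v * x * v = (x * v * x⁻¹) * x * v := by rw [e]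
        _ = x * (v * v) := by group
        _ = x := by rw [h.v_sq, mul_one]
    · right
      rw [hvi]
      calc v * x * v = z * (z * v) * x * v := by rw [← mul_assoc, h.z_sq, one_mul]
        _ = z * (x * v * x⁻¹) * x * v := by rw [e]
        _ = z * x * (v * v) := by group
        _ = x * z := by rw [h.v_sq, mul_one, hD0.comm z hz0 x hx.1]
  obtain ⟨z', hz'⟩ : ∃ z', z' = n * z * n⁻¹ := ⟨_, rfl⟩
  obtain ⟨v', hv'⟩ : ∃ v', v' = n * v * n⁻¹ := ⟨_, rfl⟩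
  have hzO : z ∈ omega hD0.comm := ⟨hz0, h.z_sq⟩
  have hconjO : ∀ k ∈ normalizer (D0 : Set G), ∀ x ∈ omega hD0.comm, k * x * k⁻¹ ∈ omega hD0.comm := by
    intro k hk x hx
    refine ⟨(mem_normalizer_iff.1 hk x).1 hx.1, ?_⟩
    rw [show k * x * k⁻¹ * (k * x * k⁻¹) = k * (x * x) * k⁻¹ by group, hx.2, mul_one, mul_inv_cancel]
  have hz'O : z' ∈ omega hD0.comm := hz' ▸ hconjO n hnN z hzO
  have hact' : ∀ x ∈ omega hD0.comm, v' * x * v'⁻¹ = x ∨ v' * x * v'⁻¹ = x * z' := by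
    intro x hx
    rcases hact _ (hconjO n⁻¹ (inv_mem hnN) x hx) with e | e
    · left
      calc v' * x * v'⁻¹ = n * (v * (n⁻¹ * x * n⁻¹⁻¹) * v⁻¹) * n⁻¹ := by rw [hv']; group
        _ = x := by rw [e]; group
    · right
      calc v' * x * v'⁻¹ = n * (v * (n⁻¹ * x * n⁻¹⁻¹) * v⁻¹) * n⁻¹ := by rw [hv']; group
        _ = x * z' := by rw [e, hz']; group
  have hvz : v * z * v⁻¹ = z := by rw [h.z_central h.vS, mul_inv_cancel_right]
  have hv'z' : v' * z' * v'⁻¹ = z' := by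
    rw [hv', hz', show n * v * n⁻¹ * (n * z * n⁻¹) * (n * v * n⁻¹)⁻¹ = n * (v * z * v⁻¹) * n⁻¹ by group, hvz]
  have hv'2 : v' * v' = 1 := by
    rw [hv', show n * v * n⁻¹ * (n * v * n⁻¹) = n * (v * v) * n⁻¹ by group, h.v_sq, mul_one, mul_inv_cancel]
  have hv'i : v'⁻¹ = v' := inv_eq_of_mul_eq_one_right hv'2
  obtain ⟨ρ, hρ⟩ : ∃ ρ, ρ = v' * v := ⟨_, rfl⟩
  have hρN : ρ ∈ normalizer (D0 : Set G) :=
    hρ ▸ mul_mem (hv' ▸ mul_mem (mul_mem hnN (hn h.vS)) (inv_mem hnN)) (hn h.vS)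
  have hρz : ρ * z * ρ⁻¹ = v' * z * v'⁻¹ := by
    rw [hρ, show v' * v * z * (v' * v)⁻¹ = v' * (v * z * v⁻¹) * v'⁻¹ by group, hvz]
  -- `ρ` moves a point of `ω` inside its coset of `⟨z, z'⟩`
  have hρx : ∀ x ∈ omega hD0.comm, ρ * x * ρ⁻¹ = x ∨ ρ * x * ρ⁻¹ = x * z' ∨
      ρ * x * ρ⁻¹ = x * (ρ * z * ρ⁻¹) ∨ ρ * x * ρ⁻¹ = x * z' * (ρ * z * ρ⁻¹) := by
    intro x hx
    have e0 : ρ * x * ρ⁻¹ = v' * (v * x * v⁻¹) * v'⁻¹ := by rw [hρ]; group
    rw [e0, hρz]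
    rcases hact x hx with e | e <;> rw [e] <;> rcases hact' x hx with e' | e'
    · exact Or.inl e'
    · exact Or.inr (Or.inl e')
    · refine Or.inr (Or.inr (Or.inl ?_))
      rw [show v' * (x * z) * v'⁻¹ = v' * x * v'⁻¹ * (v' * z * v'⁻¹) by group, e']
    · refine Or.inr (Or.inr (Or.inr ?_))
      rw [show v' * (x * z) * v'⁻¹ = v' * x * v'⁻¹ * (v' * z * v'⁻¹) by group, e']
  -- both are moved, otherwise `v'` is conjugate into `S` inside `S C(D0)`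
  have hρv : v * ρ * v⁻¹ = ρ⁻¹ := by
    rw [hρ, mul_inv_rev, hv'i, hvi, show v * (v' * v) * v = v * v' * (v * v) by group, h.v_sq, mul_one]
  have hcrit : ρ ^ 2 ^ 2 ∉ centralizer (D0 : Set G) := by
    intro hP
    obtain ⟨j, ⟨l, hl⟩, hrem⟩ := pow_split hP
    obtain ⟨s, hs⟩ : ∃ s, s = ρ ^ j := ⟨_, rfl⟩
    rw [← hs] at hl hrem
    have hvs : v * s * v⁻¹ = s⁻¹ := by rw [hs, ← conj_pow, hρv, inv_pow]
    have hsN : s ∈ normalizer (D0 : Set G) := hs ▸ pow_mem hρN j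
    have hzp : IsPGroup 2 (zpowers s) := by
      rintro ⟨w, hw⟩
      obtain ⟨i, rfl⟩ := mem_zpowers_iff.1 hw
      exact ⟨l, Subtype.ext (by
        show (s ^ i) ^ 2 ^ l = 1
        rw [← zpow_natCast, ← zpow_mul, mul_comm, zpow_mul, zpow_natCast, hl, one_zpow])⟩
    have hTv : zpowers v ≤ normalizer (zpowers s : Set G) := by
      rw [zpowers_le]
      refine mem_normalizer_fintype fun w hw => ?_
      obtain ⟨i, rfl⟩ := mem_zpowers_iff.1 hw
      show v * s ^ i * v⁻¹ ∈ zpowers s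
      rw [← conj_zpow, hvs]
      exact zpow_mem (inv_mem (mem_zpowers s)) i
    have hTp : IsPGroup 2 ↥(zpowers s ⊔ zpowers v) :=
      hzp.to_sup_of_normal_left' (S.isPGroup'.to_le (zpowers_le.2 h.vS)) hTv
    have hTN : zpowers s ⊔ zpowers v ≤ normalizer (D0 : Set G) :=
      sup_le (zpowers_le.2 hsN) (zpowers_le.2 (hn h.vS))
    obtain ⟨m, hm, hmT⟩ := exists_conj_mem (S.isPGroup'.to_le inf_le_left) inf_le_right (hD0.not_two_dvd hA)
      hTp hTN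
    have hmS : m ∈ normalizer ((S : Subgroup G) : Set G) :=
      hD0.mem_normalizer hA hm h.vS hv0 (mem_inf.1 (hmT v (mem_sup_right (mem_zpowers v)))).1
    have hsS : s ∈ (S : Subgroup G) :=
      (mem_normalizer_iff.1 hmS s).2 (mem_inf.1 (hmT s (mem_sup_left (mem_zpowers s)))).1
    refine hD0.not_conj_into hA hnN hout hn h.vS hv0 (s := s * v) (c := v⁻¹ * (s⁻¹ * ρ) * v)
      (mul_mem hsS h.vS) ?_ ?_
    · have h1 : s⁻¹ * ρ ∈ centralizer (D0 : Set G) := by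
        rw [hs, ← (Commute.self_pow ρ j).inv_right.eq, ← hs]
        exact hrem
      rw [mem_centralizer_iff]
      intro d hd
      have hd' : v * d * v⁻¹ ∈ D0 := (mem_normalizer_iff.1 (hn h.vS) d).1 hd
      calc d * (v⁻¹ * (s⁻¹ * ρ) * v) = v⁻¹ * ((v * d * v⁻¹) * (s⁻¹ * ρ)) * v := by group
        _ = v⁻¹ * ((s⁻¹ * ρ) * (v * d * v⁻¹)) * v := by rw [mem_centralizer_iff.1 h1 _ hd']
        _ = _ := by group
    · rw [← hv', hρ]
      calc v' = v' * (v * v) := by rw [h.v_sq, mul_one]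
        _ = _ := by group
  have hcomm2 : ∀ x ∈ omega hD0.comm, ∀ y ∈ omega hD0.comm, x * y = y * x := fun x hx y hy =>
    hD0.comm x hx.1 y hy.1
  have hsqO : ∀ x ∈ omega hD0.comm, x * x = 1 := fun x hx => hx.2
  have hc : ∀ x y : G, ρ * (x * y) * ρ⁻¹ = ρ * x * ρ⁻¹ * (ρ * y * ρ⁻¹) := fun x y => by group
  have hz'2 : z' * z' = 1 := hz'O.2
  have hzz' : z * z' = z' * z := hcomm2 z hzO z' hz'O
  have hρz' : ρ * z' * ρ⁻¹ = v' * (v * z' * v⁻¹) * v'⁻¹ := by rw [hρ]; group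
  have hmove1 : v * z' * v⁻¹ = z' * z := by
    refine (hact z' hz'O).resolve_left fun e => hcrit ?_
    refine hD0.centralizes hA (pow_mem hρN _) (four_fix hcomm2 hsqO hz'O hzO ?_ ?_ fun x hx => ?_)
    · rw [hρz', e, hv'z']
    · rw [hρz]; exact hact' z hzO
    · rcases hρx x hx with e1 | e1 | e1 | e1
      · exact Or.inl e1
      · exact Or.inr (Or.inl e1)
      · rcases hact' z hzO with e2 | e2 <;> rw [hρz, e2] at e1
        · exact Or.inr (Or.inr (Or.inl e1))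
        · exact Or.inr (Or.inr (Or.inr (by rw [e1, mul_assoc])))
      · rcases hact' z hzO with e2 | e2 <;> rw [hρz, e2] at e1
        · exact Or.inr (Or.inr (Or.inr (by rw [e1, mul_assoc, mul_assoc, hzz'])))
        · exact Or.inr (Or.inr (Or.inl (by
            rw [e1, mul_assoc, ← mul_assoc z', ← hzz', mul_assoc z, hz'2, mul_one])))
  have hmove2 : v' * z * v'⁻¹ = z * z' := by
    refine (hact' z hzO).resolve_left fun e => hcrit ?_
    refine hD0.centralizes hA (pow_mem hρN _) (four_fix hcomm2 hsqO hzO hz'O ?_ ?_ fun x hx => ?_)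
    · rw [hρz, e]
    · refine Or.inr ?_
      rw [hρz', hmove1, show v' * (z' * z) * v'⁻¹ = v' * z' * v'⁻¹ * (v' * z * v'⁻¹) by group, hv'z', e]
    · have := hρx x hx
      rw [hρz, e] at this
      tauto
  -- the cycle `z ↦ z z' ↦ z' ↦ z`
  have e1 : ρ * z * ρ⁻¹ = z * z' := by rw [hρz, hmove2]
  have e3 : ρ * z' * ρ⁻¹ = z := by
    rw [hρz', hmove1, show v' * (z' * z) * v'⁻¹ = v' * z' * v'⁻¹ * (v' * z * v'⁻¹) by group, hv'z', hmove2,
      ← mul_assoc, ← hzz', mul_assoc, hz'2, mul_one]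
  have e2 : ρ * (z * z') * ρ⁻¹ = z' := by
    rw [hc, e1, e3, hzz', mul_assoc, h.z_sq, mul_one]
  have hit3 : ∀ x : G, ρ ^ 3 * x * (ρ ^ 3)⁻¹ = ρ * (ρ * (ρ * x * ρ⁻¹) * ρ⁻¹) * ρ⁻¹ := fun x => by
    simp only [pow_succ, pow_zero, one_mul, mul_inv_rev, mul_assoc]
  have hρ3 : ρ ^ 3 ∈ centralizer (D0 : Set G) := by
    refine hD0.centralizes hA (pow_mem hρN _) fun x hx => ?_
    rw [hit3]
    have key : ∀ p q r : G, ρ * x * ρ⁻¹ = x * p → ρ * p * ρ⁻¹ = q → ρ * q * ρ⁻¹ = r → p * (q * r) = 1 →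
        ρ * (ρ * (ρ * x * ρ⁻¹) * ρ⁻¹) * ρ⁻¹ = x := by
      intro p q r k0 k1 k2 k3
      rw [k0, hc x p, k0, k1, hc (x * p) q, hc x p, k0, k1, k2, mul_assoc, mul_assoc, k3, mul_one]
    have he : z' * (z * (z * z')) = 1 := by rw [← mul_assoc z z, h.z_sq, one_mul, hz'2]
    rcases hρx x hx with k | k | k | k
    · rw [k, k, k]
    · exact key z' z (z * z') k e3 e1 he
    · rw [e1] at k
      exact key (z * z') z' z k e2 e3 (by rw [mul_assoc, ← mul_assoc z', hz'2, one_mul, h.z_sq])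
    · rw [e1, mul_assoc x, ← mul_assoc z', ← hzz', mul_assoc z z', hz'2, mul_one] at k
      exact key z (z * z') z' k e1 e2 (by rw [mul_assoc, hz'2, mul_one, h.z_sq])
  -- the element fixed by `v` with square `z`
  have hfix3 : ∀ a ∈ D0, ρ * (ρ * (ρ * a * ρ⁻¹) * ρ⁻¹) * ρ⁻¹ = a := fun a ha => by
    rw [← hit3, ← mem_centralizer_iff.1 hρ3 a ha, mul_inv_cancel_right]
  have hρD : ∀ a ∈ D0, ρ * a * ρ⁻¹ ∈ D0 := fun a ha => (mem_normalizer_iff.1 hρN a).1 ha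
  have hρ1 : ρ⁻¹ = v * ρ * v := by rw [← hρv, hvi]
  obtain ⟨p, hp⟩ : ∃ p, p = ρ * t * ρ⁻¹ := ⟨_, rfl⟩
  obtain ⟨p', hp'⟩ : ∃ p', p' = ρ * p * ρ⁻¹ := ⟨_, rfl⟩
  have hpD : p ∈ D0 := hp ▸ hρD t htD
  have hp'D : p' ∈ D0 := hp' ▸ hρD p hpD
  have hp'' : ρ * p' * ρ⁻¹ = t := by rw [hp', hp, hfix3 t htD]
  have hvp : v * p * v = p'⁻¹ := by
    calc v * p * v = v * ρ * v⁻¹ * (v * t * v⁻¹) * (v * ρ * v⁻¹)⁻¹ * (v * v) := by rw [hp]; group
      _ = ρ⁻¹ * t⁻¹ * ρ := by rw [hρv, show v * t * v⁻¹ = t⁻¹ by rw [hvi, htinv], h.v_sq, mul_one, inv_inv]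
      _ = p'⁻¹ := by rw [← hp'']; group
  have hvp' : v * p' * v = p⁻¹ := by
    calc v * p' * v = v * ρ * v⁻¹ * (v * p * v⁻¹) * (v * ρ * v⁻¹)⁻¹ * (v * v) := by rw [hp']; group
      _ = ρ⁻¹ * p'⁻¹ * ρ := by rw [hρv, show v * p * v⁻¹ = p'⁻¹ by rw [hvi, hvp], h.v_sq, mul_one, inv_inv]
      _ = p⁻¹ := by rw [hp']; group
  have hbD : p * p'⁻¹ ∈ D0 := mul_mem hpD (inv_mem hp'D)
  have hbv : v * (p * p'⁻¹) * v⁻¹ = p * p'⁻¹ := by
    calc v * (p * p'⁻¹) * v⁻¹ = (v * p * v) * (v * p' * v)⁻¹ := by rw [mul_inv_rev, mul_inv_rev, hvi]; simp [mul_assoc, ← mul_assoc v v, h.v_sq]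
      _ = p * p'⁻¹ := by rw [hvp, hvp', inv_inv, hD0.comm _ (inv_mem hp'D) p hpD]
  have hb2 : (p * p'⁻¹) * (p * p'⁻¹) = z := by
    have k1 : p * p = z * z' := by rw [hp, ← hc, htt, e1]
    have k2 : p' * p' = z' := by rw [hp', ← hc, k1, e2]
    calc p * p'⁻¹ * (p * p'⁻¹) = p * (p'⁻¹ * p) * p'⁻¹ := by group
      _ = p * (p * p'⁻¹) * p'⁻¹ := by rw [hD0.comm _ (inv_mem hp'D) p hpD]
      _ = (p * p) * (p' * p')⁻¹ := by group
      _ = z := by rw [k1, k2, mul_inv_cancel_right]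
  refine h.z_fix ?_
  rw [← hb2]
  exact h.sq_fix _ (mem_inf.1 (hfix _ hbD (mul_inv_eq_iff_eq_mul.1 hbv).symm)).2

end Star

end Cfsg.Agent.Fus.AbInt
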