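import Cfsg.Agent.Lib.Fus.AbInt.Local

/-!
# The structure of `D` and `N_S(D) = D E`
-/

set_option autoImplicit false
set_option linter.unusedSectionVars false
set_option linter.style.haveILetI false

open scoped commutatorElement

namespace Cfsg.Agent.Fus.AbInt

open Subgroup

universe u

variable {G : Type u} [Group G] {S : Sylow 2 G}

/-- The structure of a pair `D`, `E`. -/
structure Pair (S : Sylow 2 G) (D E : Subgroup G) (q : ℕ) : Prop where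
  hD : Ess S D
  hE : Offends S D E
  q_two : 2 ≤ q
  gen : ∀ r ∈ nsyl S D, ∃ d ∈ D, ∃ e ∈ E, r = d * e
  sq : ∀ r ∈ nsyl S D, r * r ∈ D
  card_R : Nat.card (nsyl S D) = q * Nat.card D
  card_eq : Nat.card E = Nat.card D
  card_D : Nat.card D = q * Nat.card ↥(D ⊓ E)
  card_Z : Nat.card ↥(D ⊓ E) = q * Nat.card (fix S D)
  fix_le : fix S D ≤ D ⊓ E
  split : ∀ d ∈ D, ∃ v ∈ D, v * v = 1 ∧ ∃ c ∈ fix S D, d = v * c
  sq_fix : ∀ d ∈ D, d * d ∈ fix S D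
  zcomm : ∀ z ∈ D ⊓ E, ∀ r ∈ nsyl S D, r * z = z * r
  cz : ∀ r ∈ nsyl S D, r ∉ D → ∀ d ∈ D, r * d = d * r → d ∈ E
  comm_mem : ∀ r ∈ nsyl S D, ∀ d ∈ D, ⁅r, d⁆ ∈ D ⊓ E
  comm_sq : ∀ r ∈ nsyl S D, ∀ d ∈ D, ⁅r, d⁆ * ⁅r, d⁆ = 1
  comm_not : ∀ r ∈ nsyl S D, r ∉ D → ∀ d ∈ D, d ∉ E → ⁅r, d⁆ ∉ fix S D
  trans : ∀ w₁ ∈ D ⊓ E, ∀ w₂ ∈ D ⊓ E, w₁ ∉ fix S D → w₂ ∉ fix S D →
    ∃ n ∈ normalizer (D : Set G) ⊓ normalizer ((S : Subgroup G) : Set G), Odd (orderOf n) ∧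
      (∀ c ∈ fix S D, n * c * n⁻¹ = c) ∧ n * w₁ * n⁻¹ * w₂⁻¹ ∈ fix S D
  rigid : ∀ γ ∈ clo S D, ∀ w ∈ D ⊓ E, γ * w * γ⁻¹ * w⁻¹ ∈ fix S D → γ * w * γ⁻¹ = w

variable [Finite G]

/-- An element of `N(D)` lies in `clo S D · N(S)`. -/
theorem Ess.frattini (hA : AbelianMeet G) {D : Subgroup G} (hD : Ess S D) {n : G}
    (hn : n ∈ normalizer (D : Set G)) :
    ∃ γ ∈ clo S D, γ⁻¹ * n ∈ normalizer ((S : Subgroup G) : Set G) := by
  haveI : Fact (Nat.Prime 2) := ⟨Nat.prime_two⟩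
  have hodd : ¬ 2 ∣ (nsyl S D).relIndex (clo S D) := fun hd =>
    hD.not_two_dvd hA (hd.trans (Dvd.intro _ (relIndex_mul_relIndex _ _ _ (nsyl_le_clo D) (clo_le D))))
  obtain ⟨m, hm, hmR⟩ := exists_conj_mem (S.isPGroup'.to_le inf_le_left) (nsyl_le_clo D) hodd
    ((S.isPGroup'.to_le inf_le_left : IsPGroup 2 (nsyl S D)).map (MulAut.conj n).toMonoidHom) (by
      rintro _ ⟨r, hr, rfl⟩
      exact conj_mem_clo hn (nsyl_le_clo D hr))
  obtain ⟨x, hx, hxD⟩ := hD.exists_normalizing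
  refine ⟨m⁻¹, inv_mem hm, ?_⟩
  rw [inv_inv]
  refine hD.mem_normalizer hA (mul_mem (clo_le D hm) hn) hx.1 hxD ?_
  rw [show m * n * x * (m * n)⁻¹ = m * (n * x * n⁻¹) * m⁻¹ by group]
  exact (hmR _ ⟨x, hx, rfl⟩).1

/-- An element normalising `D` and `S` has an odd power acting in the same way on the centre of `N_S(D)`. -/
theorem Ess.exists_odd (hA : AbelianMeet G) {D : Subgroup G} (hD : Ess S D) {n : G}
    (hn : n ∈ normalizer (D : Set G) ⊓ normalizer ((S : Subgroup G) : Set G)) :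
    ∃ j : ℕ, Odd (orderOf (n ^ j)) ∧ n * (n ^ j)⁻¹ ∈ nsyl S D := by
  haveI : Fact (Nat.Prime 2) := ⟨Nat.prime_two⟩
  obtain ⟨e, m, hmodd, hord⟩ := Nat.exists_eq_pow_mul_and_not_dvd (orderOf_pos n).ne' 2 (by norm_num)
  have hcop : Nat.Coprime (2 ^ e) m := Nat.Coprime.pow_left _ ((Nat.prime_two.coprime_iff_not_dvd).2 hmodd)
  obtain ⟨j, hj0, hj1⟩ := Nat.chineseRemainder hcop 0 1
  refine ⟨j, ?_, ?_⟩
  · have h1 : orderOf (n ^ j) ∣ m := by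
      refine orderOf_dvd_of_pow_eq_one ?_
      obtain ⟨t, ht⟩ := (Nat.modEq_zero_iff_dvd).1 hj0
      rw [← pow_mul, ht, show 2 ^ e * t * m = (2 ^ e * m) * t by ring, ← hord, pow_mul, pow_orderOf_eq_one, one_pow]
    exact (Nat.not_even_iff_odd.1 fun h => hmodd (even_iff_two_dvd.1 h)).of_dvd_nat h1
  · have hx : n * (n ^ j)⁻¹ ∈ normalizer (D : Set G) ⊓ normalizer ((S : Subgroup G) : Set G) :=
      mul_mem hn (inv_mem (pow_mem hn j))
    have hp : (n * (n ^ j)⁻¹) ^ 2 ^ e = 1 := by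
      rw [((Commute.refl n).pow_right j).inv_right.mul_pow, inv_pow, ← pow_mul, mul_inv_eq_one]
      refine pow_eq_pow_iff_modEq.2 ?_
      rw [hord]
      have : 1 * 2 ^ e ≡ j * 2 ^ e [MOD m * 2 ^ e] := Nat.ModEq.mul_right' _ hj1.symm
      rwa [one_mul, mul_comm m] at this
    refine hD.two_mem hA ?_ hx.1 ?_
    · rintro ⟨w, hw⟩
      obtain ⟨i, rfl⟩ := mem_zpowers_iff.1 hw
      exact ⟨e, Subtype.ext (by
        show ((n * (n ^ j)⁻¹) ^ i) ^ 2 ^ e = 1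
        rw [← zpow_natCast, ← zpow_mul, mul_comm, zpow_mul, zpow_natCast, hp, one_zpow])⟩
    · refine mem_normalizer_fintype fun r hr => ?_
      have hx1 : n * (n ^ j)⁻¹ ∈ normalizer (D : Set G) := hx.1
      exact mem_inf.2 ⟨(mem_normalizer_iff.1 hx.2 r).1 hr.1, mul_mem (mul_mem hx1 (hr.2 : r ∈ normalizer (D : Set G))) (inv_mem hx1)⟩

theorem Offends.pair (hA : AbelianMeet G) {D E : Subgroup G} (hD : Ess S D) (hE : Offends S D E) :
    ∃ q : ℕ, Pair S D E q := by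
  classical
  haveI : Fact (Nat.Prime 2) := ⟨Nat.prime_two⟩
  obtain ⟨q, hV⟩ := hE.vdata hA hD
  obtain ⟨V, hVdef⟩ : ∃ V, V = omega hD.comm := ⟨_, rfl⟩
  rw [← hVdef] at hV
  have hVD : ∀ v ∈ V, v ∈ D := fun v hv => (hVdef.le hv).1
  have hVle : V ≤ D := hVD
  have hER : E ≤ nsyl S D := hE.le
  have hDR : D ≤ nsyl S D := le_inf hD.le le_normalizer
  have hzcomm : ∀ z ∈ D ⊓ E, ∀ r ∈ nsyl S D, r * z = z * r := by
    intro z hz r hr
    obtain ⟨d, hd, e, he, rfl⟩ := hV.gen r hr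
    rw [mul_assoc, hE.comm e he z hz.2, ← mul_assoc, hD.comm d hd z hz.1, mul_assoc]
  have hfix_le : fix S D ≤ D ⊓ E := fun c hc => ⟨hc.1, hE.self c hc.1 fun e he =>
    (mem_centralizer_iff.1 hc.2 e (nsyl_le_clo D (hER he))).symm⟩
  -- orders
  have hcardE : Nat.card E = q * Nat.card ↥(D ⊓ E) := by
    have h1 := Grp.card_sup_mul_card_inf (H := E) (N := D) (fun e he => (hER he).2)
    have h2 : E ⊔ D = nsyl S D := le_antisymm (sup_le hER hDR) fun r hr => by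
      obtain ⟨d, hd, e, he, rfl⟩ := hV.gen r hr
      exact mul_mem (mem_sup_right hd) (mem_sup_left he)
    rw [h2, hV.card_R, inf_comm] at h1
    exact Nat.eq_of_mul_eq_mul_right Nat.card_pos (by linarith : Nat.card E * Nat.card D = q * Nat.card ↥(D ⊓ E) * Nat.card D)
  have hVZ : V ⊓ (D ⊓ E) = V ⊓ E := le_antisymm (fun x h => ⟨h.1, h.2.2⟩) fun x h => ⟨h.1, hVD x h.1, h.2⟩
  have hsupVZ : V ⊔ (D ⊓ E) = D ∧ Nat.card D = q * Nat.card ↥(D ⊓ E) := by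
    have h1 := Grp.card_sup_mul_card_inf (H := V) (N := D ⊓ E) fun v hv => centralizer_le_normalizer _
      (mem_centralizer_iff.2 fun x hx => hD.comm x hx.1 v (hVD v hv))
    rw [hVZ, hV.card_V] at h1
    have h2 : Nat.card ↥(V ⊔ (D ⊓ E)) = q * Nat.card ↥(D ⊓ E) :=
      Nat.eq_of_mul_eq_mul_right Nat.card_pos (h1.trans (by ring))
    have hle : V ⊔ (D ⊓ E) ≤ D := sup_le hVle inf_le_left
    have h3 := eq_of_le_of_card_ge hle (by rw [h2, ← hcardE]; exact hE.big)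
    exact ⟨h3, by rw [← h2, h3]⟩
  obtain ⟨hsup, hcardD⟩ := hsupVZ
  have hVn : V ≤ normalizer ((D ⊓ E : Subgroup G) : Set G) := fun v hv => centralizer_le_normalizer _
      (mem_centralizer_iff.2 fun x hx => hD.comm x (mem_inf.1 hx).1 v (hVD v hv))
  have hdec : ∀ d ∈ D, ∃ v ∈ V, ∃ z ∈ D ⊓ E, d = v * z := fun d hd => by
    rw [← hsup] at hd
    rw [← SetLike.mem_coe, coe_mul_of_left_le_normalizer_right _ _ hVn] at hd
    obtain ⟨v, hv, z, hz, h⟩ := hd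
    exact ⟨v, hv, z, hz, h.symm⟩
  have hcomm_eq : ∀ r ∈ nsyl S D, ∀ v z : G, z ∈ D ⊓ E → ⁅r, v * z⁆ = ⁅r, v⁆ := by
    intro r hr v z hz
    rw [commutatorElement_def, commutatorElement_def, show r * (v * z) * r⁻¹ * (v * z)⁻¹ =
      r * v * (z * r⁻¹) * z⁻¹ * v⁻¹ by group, ← hzcomm z hz r⁻¹ (inv_mem hr)]
    group
  have hcomm_mem : ∀ r ∈ nsyl S D, ∀ d ∈ D, ⁅r, d⁆ ∈ V ⊓ E := by
    intro r hr d hd
    obtain ⟨v, hv, z, hz, rfl⟩ := hdec d hd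
    rw [hcomm_eq r hr v z hz, commutatorElement_def]
    have hvr : r * v * r⁻¹ ∈ V := by
      refine hVdef.ge ⟨(mem_normalizer_iff.1 hr.2 v).1 (hVD v hv), ?_⟩
      rw [show r * v * r⁻¹ * (r * v * r⁻¹) = r * (v * v) * r⁻¹ by group, (hVdef.le hv).2, mul_one, mul_inv_cancel]
    have hw : r * v * r⁻¹ * v⁻¹ ∈ V := mul_mem hvr (inv_mem hv)
    by_cases hrD : r ∈ D
    · rw [hD.comm r hrD v (hVD v hv), mul_inv_cancel_right, mul_inv_cancel]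
      exact one_mem _
    refine ⟨hw, hV.fixed r hr hrD _ hw ?_⟩
    have h2 : r * r * v * (r * r)⁻¹ = v := by
      rw [hD.comm _ (hV.sq r hr) v (hVD v hv), mul_inv_cancel_right]
    have hinv : ∀ x ∈ V, x⁻¹ = x := fun x hx => inv_eq_of_mul_eq_one_left (hVdef.le hx).2
    calc r * (r * v * r⁻¹ * v⁻¹) * r⁻¹ = (r * r * v * (r * r)⁻¹) * (r * v * r⁻¹)⁻¹ := by group
      _ = v⁻¹ * (r * v * r⁻¹) := by rw [h2, hinv _ hvr, hinv v hv]
      _ = r * v * r⁻¹ * v⁻¹ := hD.comm _ (inv_mem (hVD v hv)) _ (hVD _ hvr)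
  -- squares
  have hsqZ : ∀ d ∈ D, d * d ∈ D ⊓ E := by
    intro d hd
    obtain ⟨v, hv, z, hz, rfl⟩ := hdec d hd
    rw [show v * z * (v * z) = v * (z * v) * z by group, hD.comm z hz.1 v (hVD v hv),
      show v * (v * z) * z = (v * v) * (z * z) by group, (hVdef.le hv).2, one_mul]
    exact mul_mem hz hz
  have hsqfix : ∀ d ∈ D, d * d ∈ fix S D := by
    intro d hd
    refine ⟨mul_mem hd hd, ?_⟩
    rw [clo, centralizer_closure]
    show d * d ∈ centralizer _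
    rw [mem_centralizer_iff]
    rintro _ ⟨n, hn, r, hr, rfl⟩
    have hd' : n⁻¹ * d * n ∈ D := by simpa using (mem_normalizer_iff.1 (inv_mem hn) d).1 hd
    have h1 := hzcomm _ (hsqZ _ hd') r hr
    calc n * r * n⁻¹ * (d * d) = n * (r * (n⁻¹ * d * n * (n⁻¹ * d * n))) * n⁻¹ := by group
      _ = n * ((n⁻¹ * d * n * (n⁻¹ * d * n)) * r) * n⁻¹ := by rw [h1]
      _ = _ := by group
  -- `clo` acts trivially modulo `V`
  have hKclo : ∀ γ ∈ clo S D, γ ∈ normalizer (D : Set G) ∧ ∀ d ∈ D, γ * d * γ⁻¹ * d⁻¹ ∈ V := by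
    intro γ hγ
    induction hγ using closure_induction with
    | mem x hx =>
      obtain ⟨n, hn, r, hr, rfl⟩ := hx
      refine ⟨mul_mem (mul_mem hn hr.2) (inv_mem hn), fun d hd => ?_⟩
      have hd' : n⁻¹ * d * n ∈ D := by simpa using (mem_normalizer_iff.1 (inv_mem hn) d).1 hd
      have h1 := hcomm_mem r hr _ hd'
      rw [show n * r * n⁻¹ * d * (n * r * n⁻¹)⁻¹ * d⁻¹ = n * ⁅r, n⁻¹ * d * n⁆ * n⁻¹ by
        rw [commutatorElement_def]; group]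
      refine hVdef.ge ⟨(mem_normalizer_iff.1 hn _).1 (hVD _ h1.1), ?_⟩
      rw [show n * ⁅r, n⁻¹ * d * n⁆ * n⁻¹ * (n * ⁅r, n⁻¹ * d * n⁆ * n⁻¹) =
        n * (⁅r, n⁻¹ * d * n⁆ * ⁅r, n⁻¹ * d * n⁆) * n⁻¹ by group, (hVdef.le h1.1).2, mul_one, mul_inv_cancel]
    | one => exact ⟨one_mem _, fun d hd => by simp⟩
    | mul x y _ _ hx hy =>
      refine ⟨mul_mem hx.1 hy.1, fun d hd => ?_⟩
      rw [show x * y * d * (x * y)⁻¹ * d⁻¹ = (x * (y * d * y⁻¹) * x⁻¹ * (y * d * y⁻¹)⁻¹) * (y * d * y⁻¹ * d⁻¹) by group]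
      exact mul_mem (hx.2 _ ((mem_normalizer_iff.1 hy.1 d).1 hd)) (hy.2 d hd)
    | inv x _ hx =>
      refine ⟨inv_mem hx.1, fun d hd => ?_⟩
      have hd' : x⁻¹ * d * x ∈ D := by simpa using (mem_normalizer_iff.1 (inv_mem hx.1) d).1 hd
      rw [show x⁻¹ * d * x⁻¹⁻¹ * d⁻¹ = (x * (x⁻¹ * d * x) * x⁻¹ * (x⁻¹ * d * x)⁻¹)⁻¹ by group]
      exact inv_mem (hx.2 _ hd')
  have hsplit : ∀ d ∈ D, ∃ v ∈ V, ∃ c ∈ fix S D, d = v * c := by
    suffices hz : ∀ z ∈ D ⊓ E, ∃ v ∈ V, ∃ c ∈ fix S D, z = v * c by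
      intro d hd
      obtain ⟨v, hv, z, hzZ, rfl⟩ := hdec d hd
      obtain ⟨v', hv', c, hc, rfl⟩ := hz z hzZ
      exact ⟨v * v', mul_mem hv hv', c, hc, by rw [mul_assoc]⟩
    intro z hz
    letI : CommGroup ↥D :=
      { (inferInstance : Group ↥D) with mul_comm := fun x y => Subtype.ext (hD.comm _ x.2 _ y.2) }
    let f : ↥(clo S D) →* MulAut ↥D := D.normalizerMonoidHom.comp (inclusion (clo_le D))
    letI : MulAction ↥(clo S D) ↥D := MulAction.compHom ↥D f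
    have hsmul : ∀ (γ : ↥(clo S D)) (d : ↥D), ((γ • d : ↥D) : G) = (γ : G) * d * (γ : G)⁻¹ := fun _ _ => rfl
    let z' : ↥D := ⟨z, hz.1⟩
    haveI : Fintype ↥(MulAction.orbit ↥(clo S D) z') := Fintype.ofFinite _
    obtain ⟨O, hO⟩ : ∃ O, O = (MulAction.orbit ↥(clo S D) z').toFinset := ⟨_, rfl⟩
    have hcard : ¬ 2 ∣ O.card := by
      rw [hO, Set.toFinset_card, ← Nat.card_eq_fintype_card, Nat.card_coe_set_eq,
        ← MulAction.index_stabilizer]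
      have hle : (nsyl S D).subgroupOf (clo S D) ≤ MulAction.stabilizer ↥(clo S D) z' := fun r hr => by
        rw [MulAction.mem_stabilizer_iff]
        refine Subtype.ext ?_
        rw [hsmul]
        exact mul_inv_eq_iff_eq_mul.2 (hzcomm z hz _ hr)
      exact fun hd => hD.not_two_dvd hA ((hd.trans (index_dvd_of_le hle)).trans
        (Dvd.intro _ (relIndex_mul_relIndex _ _ _ (nsyl_le_clo D) (clo_le D))))
    obtain ⟨T, hT⟩ : ∃ T : ↥D, T = ∏ y ∈ O, y := ⟨_, rfl⟩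
    have hTfix : (T : G) ∈ fix S D := by
      refine ⟨T.2, mem_centralizer_iff.2 fun γ hγ => ?_⟩
      have h1 : f ⟨γ, hγ⟩ T = T := by
        rw [hT, map_prod]
        refine Finset.prod_nbij (fun y => (⟨γ, hγ⟩ : ↥(clo S D)) • y) (fun y hy => ?_) (fun a _ b _ h => ?_)
          (fun y hy => ?_) (fun y _ => rfl)
        · rw [hO, Set.mem_toFinset] at hy ⊢
          obtain ⟨m, rfl⟩ := hy
          exact ⟨⟨γ, hγ⟩ * m, mul_smul _ _ _⟩
        · exact MulAction.injective _ h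
        · rw [Finset.mem_coe, hO, Set.mem_toFinset] at hy
          obtain ⟨m, rfl⟩ := hy
          exact ⟨((⟨γ, hγ⟩ : ↥(clo S D))⁻¹ * m) • z', by
            rw [Finset.mem_coe, hO, Set.mem_toFinset]; exact ⟨_, rfl⟩, by
            show (⟨γ, hγ⟩ : ↥(clo S D)) • _ = _
            rw [← mul_smul, mul_inv_cancel_left]⟩
      exact mul_inv_eq_iff_eq_mul.1 (congrArg Subtype.val h1)
    have hTV : ((∏ y ∈ O, y * z'⁻¹ : ↥D) : G) ∈ V := by
      refine Finset.prod_induction (fun y => y * z'⁻¹) (fun x : ↥D => (x : G) ∈ V)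
        (fun a b ha hb => mul_mem ha hb) (one_mem _) fun y hy => ?_
      rw [hO, Set.mem_toFinset] at hy
      obtain ⟨γ, rfl⟩ := hy
      exact (hKclo γ γ.2).2 z hz.1
    rw [Finset.prod_mul_distrib, ← hT, Finset.prod_const] at hTV
    obtain ⟨k, hk⟩ := Nat.odd_iff.2 (Nat.two_dvd_ne_zero.1 hcard)
    obtain ⟨v, hv⟩ : ∃ v : G, v = ((T * z'⁻¹ ^ O.card : ↥D) : G) := ⟨_, rfl⟩
    rw [← hv] at hTV
    refine ⟨v, hTV, T * (((z * z) ^ k)⁻¹), mul_mem hTfix (inv_mem (pow_mem (hsqfix z hz.1) k)), ?_⟩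
    have hvinv : v⁻¹ = v := inv_eq_of_mul_eq_one_left (hVdef.le hTV).2
    have hkey : z' = (T * z'⁻¹ ^ O.card)⁻¹ * (T * ((z' * z') ^ k)⁻¹) := by
      calc z' = z' * ((z' * z') ^ k * ((z' * z') ^ k)⁻¹) := by rw [mul_inv_cancel, mul_one]
        _ = (T * z'⁻¹ ^ O.card)⁻¹ * (T * ((z' * z') ^ k)⁻¹) := by
          rw [hk, mul_inv_rev, mul_assoc _ T⁻¹, inv_mul_cancel_left, inv_pow, inv_inv, ← pow_two, ← pow_mul,
            pow_succ', mul_assoc]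
    have h := congrArg Subtype.val hkey
    rw [coe_mul, coe_inv, ← hv, hvinv] at h
    simpa using h
  have hfixV : ∀ c ∈ fix S D, c ∈ E := fun c hc => (hfix_le hc).2
  refine ⟨q, hD, hE, hV.q_two, hV.gen, hV.sq, hV.card_R, by rw [hcardE, hcardD], hcardD, ?_, hfix_le,
    fun d hd => ?_, hsqfix, hzcomm, fun r hr hrD d hd hrd => ?_,
    fun r hr d hd => ⟨hVD _ (hcomm_mem r hr d hd).1, (hcomm_mem r hr d hd).2⟩,
    fun r hr d hd => (hVdef.le (hcomm_mem r hr d hd).1).2, fun r hr hrD d hd hdE => ?_,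
    fun w₁ hw₁ w₂ hw₂ hn₁ hn₂ => ?_, fun γ hγ w hw hmem => ?_⟩
  · have h1 := Grp.card_sup_mul_card_inf (H := V ⊓ E) (N := fix S D) fun v hv => centralizer_le_normalizer _
      (mem_centralizer_iff.2 fun x hx => hD.comm x hx.1 v (hVD v hv.1))
    have h2 : V ⊓ E ⊔ fix S D = D ⊓ E := by
      refine le_antisymm (sup_le (inf_le_inf_right E hVle) hfix_le) fun z hz => ?_
      obtain ⟨v, hv, c, hc, rfl⟩ := hsplit z hz.1
      refine mul_mem (mem_sup_left ⟨hv, ?_⟩) (mem_sup_right hc)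
      simpa using mul_mem (mem_inf.1 hz).2 (inv_mem (hfixV c hc))
    have h3 : V ⊓ E ⊓ fix S D = V ⊓ fix S D := by
      rw [inf_assoc, inf_eq_right.2 (show fix S D ≤ E from fun c hc => hfixV c hc)]
    rw [h2, h3, hV.card_W] at h1
    exact Nat.eq_of_mul_eq_mul_right Nat.card_pos (h1.trans (by ring))
  · obtain ⟨v, hv, c, hc, rfl⟩ := hsplit d hd
    exact ⟨v, hVD v hv, (hVdef.le hv).2, c, hc, rfl⟩
  · obtain ⟨v, hv, c, hc, rfl⟩ := hsplit d hd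
    refine mul_mem (hV.fixed r hr hrD v hv ?_) (hfixV c hc)
    have hrc := hzcomm c (hfix_le hc) r hr
    refine mul_inv_eq_iff_eq_mul.2 (mul_right_cancel (b := c) ?_)
    rw [mul_assoc, hrd, mul_assoc, ← hrc, ← mul_assoc]
  · obtain ⟨v, hv, c, hc, rfl⟩ := hsplit d hd
    rw [hcomm_eq r hr v c (hfix_le hc)]
    exact hV.comm_not r hr hrD v hv fun h => hdE (mul_mem h (hfixV c hc))
  · obtain ⟨v₁, hv₁, c₁, hc₁, rfl⟩ := hsplit w₁ hw₁.1
    obtain ⟨v₂, hv₂, c₂, hc₂, rfl⟩ := hsplit w₂ hw₂.1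
    obtain ⟨γ, hγ, hγR, hγw⟩ := hV.trans v₁ ⟨hv₁, by simpa using mul_mem (mem_inf.1 hw₁).2 (inv_mem (hfixV c₁ hc₁))⟩
      v₂ ⟨hv₂, by simpa using mul_mem (mem_inf.1 hw₂).2 (inv_mem (hfixV c₂ hc₂))⟩
      (fun h => hn₁ (mul_mem h hc₁)) (fun h => hn₂ (mul_mem h hc₂))
    obtain ⟨k, hk, hkS⟩ := hD.exists_fixing hA (clo_le D hγ) hγR
    have hfixn : ∀ c ∈ fix S D, k * γ * c * (k * γ)⁻¹ = c := fun c hc => by
      rw [show k * γ * c * (k * γ)⁻¹ = k * (γ * c * γ⁻¹) * k⁻¹ by group, mem_centralizer_iff.1 hc.2 γ hγ,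
        mul_inv_cancel_right, ← mem_centralizer_iff.1 hk c hc.1, mul_inv_cancel_right]
    obtain ⟨j, hjodd, hjR⟩ := hD.exists_odd hA (n := k * γ)
      ⟨mul_mem (centralizer_le_normalizer _ hk) (clo_le D hγ), hkS⟩
    obtain ⟨n, hn⟩ : ∃ n, n = (k * γ) ^ j := ⟨_, rfl⟩
    rw [← hn] at hjodd hjR
    have hnmem : n ∈ normalizer (D : Set G) ⊓ normalizer ((S : Subgroup G) : Set G) :=
      hn ▸ pow_mem (mem_inf.2 ⟨mul_mem (centralizer_le_normalizer _ hk) (clo_le D hγ), hkS⟩) j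
    have hsame : ∀ z ∈ D ⊓ E, n * z * n⁻¹ ∈ D ⊓ E → n * z * n⁻¹ = k * γ * z * (k * γ)⁻¹ := fun z hz hz' => by
      have h := hzcomm _ hz' _ hjR
      calc n * z * n⁻¹ = (k * γ * n⁻¹) * (n * z * n⁻¹) * (k * γ * n⁻¹)⁻¹ := by rw [h, mul_inv_cancel_right]
        _ = _ := by group
    have hnZ : ∀ z ∈ D ⊓ E, n * z * n⁻¹ ∈ D ⊓ E := fun z hz => by
      refine ⟨(mem_normalizer_iff.1 hnmem.1 z).1 hz.1, hE.self _ ((mem_normalizer_iff.1 hnmem.1 z).1 hz.1) fun e he => ?_⟩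
      have he' : n⁻¹ * e * n ∈ nsyl S D := by
        have h1 := (mem_normalizer_iff.1 (inv_mem hnmem.2) e).1 (hER he).1
        have hn1 : n ∈ normalizer (D : Set G) := hnmem.1
        have h2 := mul_mem (mul_mem (inv_mem hn1) ((hER he).2 : e ∈ normalizer (D : Set G))) hn1
        refine mem_inf.2 ⟨?_, h2⟩
        rwa [inv_inv] at h1
      calc n * z * n⁻¹ * e = n * (z * (n⁻¹ * e * n)) * n⁻¹ := by group
        _ = n * ((n⁻¹ * e * n) * z) * n⁻¹ := by rw [hzcomm z hz _ he']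
        _ = e * (n * z * n⁻¹) := by group
    refine ⟨n, hnmem, hjodd, fun c hc => ?_, ?_⟩
    · rw [hsame c (hfix_le hc) (hnZ c (hfix_le hc)), hfixn c hc]
    · rw [hsame _ hw₁ (hnZ _ hw₁), show k * γ * (v₁ * c₁) * (k * γ)⁻¹ =
        (k * γ * v₁ * (k * γ)⁻¹) * (k * γ * c₁ * (k * γ)⁻¹) by group, hfixn c₁ hc₁,
        show k * γ * v₁ * (k * γ)⁻¹ = k * (γ * v₁ * γ⁻¹) * k⁻¹ by group,
        ← mem_centralizer_iff.1 hk _ ((mem_normalizer_iff.1 (clo_le D hγ) v₁).1 (hVD v₁ hv₁)), mul_inv_cancel_right,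
        mul_inv_rev]
      rw [show γ * v₁ * γ⁻¹ * c₁ * (c₂⁻¹ * v₂⁻¹) = γ * v₁ * γ⁻¹ * ((c₁ * c₂⁻¹) * v₂⁻¹) by group,
        hD.comm _ (mul_mem hc₁.1 (inv_mem hc₂.1)) _ (inv_mem (hVD v₂ hv₂)), ← mul_assoc]
      exact mul_mem hγw (mul_mem hc₁ (inv_mem hc₂))
  · obtain ⟨v, hv, c, hc, rfl⟩ := hsplit w hw.1
    have hγc : γ * c * γ⁻¹ = c := by rw [mem_centralizer_iff.1 hc.2 γ hγ, mul_inv_cancel_right]
    have h1 : γ * (v * c) * γ⁻¹ = γ * v * γ⁻¹ * c := by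
      rw [show γ * (v * c) * γ⁻¹ = γ * v * γ⁻¹ * (γ * c * γ⁻¹) by group, hγc]
    rw [h1, show γ * v * γ⁻¹ * c * (v * c)⁻¹ = γ * v * γ⁻¹ * v⁻¹ by group] at hmem
    rw [h1, hV.rigid γ hγ v ⟨hv, by simpa using mul_mem (mem_inf.1 hw).2 (inv_mem (hfixV c hc))⟩ hmem]

end Cfsg.Agent.Fus.AbInt
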