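import Cfsg.Agent.Lib.Fus.AbInt.Big

/-!
# The case `q = 2`: the distinguished involutions of a non-normal essential subgroup
-/

set_option autoImplicit false
set_option linter.unusedSectionVars false
set_option linter.style.haveILetI false

open scoped commutatorElement

namespace Cfsg.Agent.Fus.AbInt

open Subgroup

universe u

variable {G : Type u} [Group G] {S : Sylow 2 G}

/-- The rotation `z` and one of the two other involutions `v` of a non-normal essential `D` with `q = 2`. -/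
structure Star (S : Sylow 2 G) (D : Subgroup G) (z v : G) : Prop where
  hD : Ess S D
  nonnormal : ¬ (S : Subgroup G) ≤ normalizer (D : Set G)
  vD : v ∈ D
  v_sq : v * v = 1
  zD : z ∈ D
  z_sq : z * z = 1
  z_fix : z ∉ fix S D
  moves : ∀ r ∈ nsyl S D, r ∉ D → r * v * r⁻¹ = z * v
  zcomm : ∀ r ∈ nsyl S D, r * z = z * r
  fcomm : ∀ c ∈ fix S D, ∀ r ∈ nsyl S D, r * c = c * r
  gen : ∀ d ∈ D, ∃ c ∈ fix S D, d = c ∨ d = c * z ∨ d = c * v ∨ d = c * (z * v)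
  sq_fix : ∀ d ∈ D, d * d ∈ fix S D
  fused : ∃ γ ∈ clo S D, γ * z * γ⁻¹ = v
  perm : ∀ γ ∈ clo S D, γ * z * γ⁻¹ = z ∨ γ * z * γ⁻¹ = v ∨ γ * z * γ⁻¹ = z * v

/-- Conjugation by `N(S)` maps `clo` to `clo`. -/
theorem conj_clo {D : Subgroup G} {n x : G} (hn : n ∈ normalizer ((S : Subgroup G) : Set G))
    (hx : x ∈ clo S D) : n * x * n⁻¹ ∈ clo S (cj D n) := by
  have h : (clo S D).map (MulAut.conj n).toMonoidHom ≤ clo S (cj D n) := by
    rw [clo, MonoidHom.map_closure, closure_le]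
    rintro _ ⟨_, ⟨m, hm, r, hr, rfl⟩, rfl⟩
    have hN : ∀ k ∈ normalizer (D : Set G), n * k * n⁻¹ ∈ normalizer (cj D n : Set G) := fun k hk => by
      refine mem_normalizer_iff.2 fun y => ⟨fun hy => ?_, fun hy => ?_⟩
      · obtain ⟨d, hd, rfl⟩ := mem_cj hy
        refine ⟨k * d * k⁻¹, (mem_normalizer_iff.1 hk d).1 hd, ?_⟩
        show n * (k * d * k⁻¹) * n⁻¹ = _
        group
      · obtain ⟨d, hd, he⟩ := mem_cj hy
        refine ⟨k⁻¹ * d * k, by simpa using (mem_normalizer_iff.1 (inv_mem hk) d).1 hd, ?_⟩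
        show n * (k⁻¹ * d * k) * n⁻¹ = y
        calc n * (k⁻¹ * d * k) * n⁻¹ = (n * k * n⁻¹)⁻¹ * (n * d * n⁻¹) * (n * k * n⁻¹) := by group
          _ = y := by rw [← he]; group
    exact subset_closure ⟨n * m * n⁻¹, hN m hm, n * r * n⁻¹,
      mem_inf.2 ⟨(mem_normalizer_iff.1 hn r).1 (mem_inf.1 hr).1, hN r (mem_inf.1 hr).2⟩, by simp [mul_assoc]⟩
  exact h ⟨x, hx, rfl⟩

theorem cj_cj_inv (D : Subgroup G) (n : G) : cj (cj D n) n⁻¹ = D := by
  ext x
  constructor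
  · intro hx
    obtain ⟨y, hy, rfl⟩ := mem_cj hx
    obtain ⟨d, hd, rfl⟩ := mem_cj hy
    simpa [mul_assoc] using hd
  · intro hx
    have := conj_mem_cj n⁻¹ (conj_mem_cj n hx)
    rwa [show n⁻¹ * (n * x * n⁻¹) * n⁻¹⁻¹ = x by group] at this

theorem conj_fix {D : Subgroup G} {n c : G} (hn : n ∈ normalizer ((S : Subgroup G) : Set G))
    (hc : c ∈ fix S D) : n * c * n⁻¹ ∈ fix S (cj D n) := by
  refine ⟨conj_mem_cj n hc.1, mem_centralizer_iff.2 fun y hy => ?_⟩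
  have hy' := conj_clo (inv_mem hn) hy
  rw [cj_cj_inv] at hy'
  calc y * (n * c * n⁻¹) = n * ((n⁻¹ * y * n⁻¹⁻¹) * c) * n⁻¹ := by group
    _ = n * (c * (n⁻¹ * y * n⁻¹⁻¹)) * n⁻¹ := by rw [mem_centralizer_iff.1 hc.2 _ hy']
    _ = _ := by group

variable [Finite G]

/-- A proper subgroup of a finite 2-group is properly contained in its normaliser there. -/
theorem exists_normalizing_lt {A C : Subgroup G} (hC : IsPGroup 2 C) (hlt : A < C) :
    ∃ x ∈ C, x ∉ A ∧ x ∈ normalizer (A : Set G) := by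
  haveI : Fact (Nat.Prime 2) := ⟨Nat.prime_two⟩
  haveI := hC.isNilpotent
  have hne : A.subgroupOf C < ⊤ := lt_top_iff_ne_top.2 fun h => hlt.not_ge (subgroupOf_eq_top.1 h)
  obtain ⟨x, hx, hxA⟩ := SetLike.exists_of_lt (Group.normalizerCondition_of_isNilpotent _ hne)
  refine ⟨x, x.2, fun h => hxA (mem_subgroupOf.2 h), mem_normalizer_fintype fun a ha => ?_⟩
  have h' := (mem_normalizer_iff.1 hx ⟨a, hlt.le ha⟩).1 (mem_subgroupOf.2 ha)
  exact mem_subgroupOf.1 h'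

namespace Star

variable {D : Subgroup G} {z v : G} (h : Star S D z v)
include h

theorem vS : v ∈ (S : Subgroup G) := h.hD.le h.vD

theorem zS : z ∈ (S : Subgroup G) := h.hD.le h.zD

theorem v_inv : v⁻¹ = v := inv_eq_of_mul_eq_one_right h.v_sq

theorem z_inv : z⁻¹ = z := inv_eq_of_mul_eq_one_right h.z_sq

theorem z_ne : z ≠ 1 := fun e => h.z_fix (e ▸ one_mem _)

theorem comm_zv : z * v = v * z := h.hD.comm z h.zD v h.vD

theorem zv_ne : z * v ≠ v := fun e => h.z_ne (mul_eq_right.1 e)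

theorem v_ne_one : v ≠ 1 := fun e => by
  obtain ⟨γ, -, hγ⟩ := h.fused
  rw [e, mul_inv_eq_one, mul_eq_left] at hγ
  exact h.z_ne hγ

/-- The centraliser in `S` of an element of `D` which is not central in `N_S(D)` is `D`. -/
theorem cent {d x : G} (hd : d ∈ D) (hne : ∀ r ∈ nsyl S D, r ∉ D → r * d ≠ d * r)
    (hx : x ∈ (S : Subgroup G)) (hxd : x * d = d * x) : x ∈ D := by
  by_contra hxD
  obtain ⟨C, hC⟩ : ∃ C : Subgroup G, C = (S : Subgroup G) ⊓ centralizer ({d} : Set G) := ⟨_, rfl⟩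
  have hDC : D < C := by
    refine lt_of_le_of_ne (fun a ha => hC ▸ mem_inf.2 ⟨h.hD.le ha, mem_centralizer_singleton_iff.2
      (h.hD.comm a ha d hd)⟩) fun e => hxD ?_
    rw [e, hC]
    exact mem_inf.2 ⟨hx, mem_centralizer_singleton_iff.2 hxd⟩
  obtain ⟨r, hrC, hrD, hrN⟩ := exists_normalizing_lt (S.isPGroup'.to_le (hC ▸ inf_le_left)) hDC
  rw [hC] at hrC
  exact hne r (mem_inf.2 ⟨(mem_inf.1 hrC).1, hrN⟩) hrD (mem_centralizer_singleton_iff.1 (mem_inf.1 hrC).2)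

theorem cent_v {x : G} (hx : x ∈ (S : Subgroup G)) (hxv : x * v = v * x) : x ∈ D :=
  h.cent h.vD (fun r hr hrD e => h.zv_ne (by
    rw [← h.moves r hr hrD, e, mul_inv_cancel_right])) hx hxv

/-- The other involution is distinguished as well. -/
theorem flip : Star S D z (z * v) := by
  obtain ⟨r, hr, hrD⟩ := h.hD.exists_normalizing
  refine ⟨h.hD, h.nonnormal, mul_mem h.zD h.vD, ?_, h.zD, h.z_sq, h.z_fix, fun r hr hrD => ?_, h.zcomm, h.fcomm,
    fun d hd => ?_, h.sq_fix, ?_, fun γ hγ => ?_⟩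
  · rw [show z * v * (z * v) = z * (v * z) * v by group, ← h.comm_zv,
      show z * (z * v) * v = (z * z) * (v * v) by group, h.z_sq, h.v_sq, mul_one]
  · calc r * (z * v) * r⁻¹ = (r * z) * r⁻¹ * (r * v * r⁻¹) := by group
      _ = z * r * r⁻¹ * (z * v) := by rw [h.zcomm r hr, h.moves r hr hrD]
      _ = _ := by group
  · rw [← mul_assoc z z v, h.z_sq, one_mul]
    obtain ⟨c, hc, he⟩ := h.gen d hd
    exact ⟨c, hc, by tauto⟩
  · obtain ⟨γ, hγ, he⟩ := h.fused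
    refine ⟨r * γ, mul_mem (nsyl_le_clo D hr) hγ, ?_⟩
    rw [show r * γ * z * (r * γ)⁻¹ = r * (γ * z * γ⁻¹) * r⁻¹ by group, he, h.moves r hr hrD]
  · rw [← mul_assoc z z v, h.z_sq, one_mul]
    have := h.perm γ hγ
    tauto

theorem perm_v {γ : G} (hγ : γ ∈ clo S D) :
    γ * v * γ⁻¹ = z ∨ γ * v * γ⁻¹ = v ∨ γ * v * γ⁻¹ = z * v := by
  obtain ⟨δ, hδ, he⟩ := h.fused
  rw [← he, show γ * (δ * z * δ⁻¹) * γ⁻¹ = γ * δ * z * (γ * δ)⁻¹ by group, he]
  exact h.perm _ (mul_mem hγ hδ)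

/-- Every element of `D` is central in `N_S(D)` or has centraliser `D`. -/
theorem central_or {d : G} (hd : d ∈ D) :
    (∀ r ∈ nsyl S D, r * d = d * r) ∨ ∀ x ∈ (S : Subgroup G), x * d = d * x → x ∈ D := by
  obtain ⟨c, hc, he⟩ := h.gen d hd
  have key : ∀ w, Star S D z w → d = c * w → ∀ r ∈ nsyl S D, r ∉ D → r * d ≠ d * r := by
    intro w hw hdw r hr hrD e
    refine hw.zv_ne ?_
    rw [hdw, ← mul_assoc r c w, h.fcomm c hc r hr, mul_assoc, mul_assoc] at e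
    rw [← hw.moves r hr hrD, mul_left_cancel e, mul_inv_cancel_right]
  rcases he with e | e | e | e
  · exact Or.inl fun r hr => e ▸ h.fcomm c hc r hr
  · refine Or.inl fun r hr => ?_
    rw [e, ← mul_assoc, h.fcomm c hc r hr, mul_assoc, h.zcomm r hr, mul_assoc]
  · exact Or.inr fun x hx hxd => h.cent hd (key v h e) hx hxd
  · exact Or.inr fun x hx hxd => h.cent hd (key _ h.flip e) hx hxd

/-- The pair of a subgroup is determined by the subgroup. -/
theorem unique {z' v' : G} (h' : Star S D z' v') : z' = z ∧ (v' = v ∨ v' = z * v) := by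
  obtain ⟨r, hr, hrD⟩ := h.hD.exists_normalizing
  have hz : z' = z := by
    obtain ⟨c, hc, he⟩ := h.gen v' h'.vD
    have h1 := h'.moves r hr hrD
    have h2 : r * c * r⁻¹ = c := by rw [h.fcomm c hc r hr, mul_inv_cancel_right]
    have h3 : r * z * r⁻¹ = z := by rw [h.zcomm r hr, mul_inv_cancel_right]
    rcases he with e | e | e | e
    · rw [e, h2] at h1
      exact absurd (mul_eq_right.1 h1.symm) h'.z_ne
    · rw [e, show r * (c * z) * r⁻¹ = r * c * r⁻¹ * (r * z * r⁻¹) by group, h2, h3] at h1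
      exact absurd (mul_eq_right.1 h1.symm) h'.z_ne
    · rw [e, show r * (c * v) * r⁻¹ = r * c * r⁻¹ * (r * v * r⁻¹) by group, h2, h.moves r hr hrD,
        ← mul_assoc c z v, h.hD.comm c hc.1 z h.zD, mul_assoc z c v] at h1
      exact (mul_right_cancel h1).symm
    · rw [e, show r * (c * (z * v)) * r⁻¹ = r * c * r⁻¹ * (r * (z * v) * r⁻¹) by group, h2,
        h.flip.moves r hr hrD, ← mul_assoc c z, h.hD.comm c hc.1 z h.zD, mul_assoc z c] at h1
      exact (mul_right_cancel h1).symm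
  refine ⟨hz, ?_⟩
  obtain ⟨γ, hγ, he⟩ := h'.fused
  rw [hz] at he
  rcases h.perm γ hγ with e | e | e
  · have h1 := h'.moves r hr hrD
    rw [← he, e, h.zcomm r hr, mul_inv_cancel_right, hz] at h1
    exact absurd (mul_eq_left.1 h1.symm) h.z_ne
  · exact Or.inl (he.symm.trans e)
  · exact Or.inr (he.symm.trans e)

theorem conj {n : G} (hn : n ∈ normalizer ((S : Subgroup G) : Set G)) :
    Star S (cj D n) (n * z * n⁻¹) (n * v * n⁻¹) := by
  have hconj : ∀ a b : G, n * a * n⁻¹ * (n * b * n⁻¹) = n * (a * b) * n⁻¹ := fun a b => by group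
  have hNinv : ∀ r ∈ nsyl S (cj D n), n⁻¹ * r * n ∈ nsyl S D := by
    intro r hr
    refine mem_inf.2 ⟨by simpa using (mem_normalizer_iff.1 (inv_mem hn) r).1 (mem_inf.1 hr).1,
      mem_normalizer_fintype fun d hd => ?_⟩
    obtain ⟨d', hd', he⟩ := mem_cj ((mem_normalizer_iff.1 (mem_inf.1 hr).2 _).1 (conj_mem_cj n hd))
    show n⁻¹ * r * n * d * (n⁻¹ * r * n)⁻¹ ∈ D
    rw [show n⁻¹ * r * n * d * (n⁻¹ * r * n)⁻¹ = n⁻¹ * (r * (n * d * n⁻¹) * r⁻¹) * n by group, he]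
    simpa [mul_assoc] using hd'
  have hback : ∀ x, x ∈ fix S (cj D n) → n⁻¹ * x * n ∈ fix S D := fun x hx => by
    have := conj_fix (inv_mem hn) hx
    rwa [cj_cj_inv, inv_inv] at this
  have hcback : ∀ γ ∈ clo S (cj D n), n⁻¹ * γ * n ∈ clo S D := fun γ hγ => by
    have := conj_clo (inv_mem hn) hγ
    rwa [cj_cj_inv, inv_inv] at this
  have hcommback : ∀ {r a : G}, n⁻¹ * r * n * a = a * (n⁻¹ * r * n) → r * (n * a * n⁻¹) = n * a * n⁻¹ * r :=
    fun {r a} e => by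
      calc r * (n * a * n⁻¹) = n * (n⁻¹ * r * n * a) * n⁻¹ := by group
        _ = n * (a * (n⁻¹ * r * n)) * n⁻¹ := by rw [e]
        _ = _ := by group
  refine ⟨h.hD.map_conj hn, fun hle => h.nonnormal fun s hs => ?_, conj_mem_cj n h.vD, ?_, conj_mem_cj n h.zD,
    ?_, fun hc => h.z_fix ?_, fun r hr hrD => ?_, fun r hr => hcommback (h.zcomm _ (hNinv r hr)),
    fun c hc r hr => ?_, fun d hd => ?_, fun d hd => ?_, ?_, fun γ hγ => ?_⟩
  · have h1 := hle ((mem_normalizer_iff.1 hn s).1 hs)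
    refine mem_normalizer_fintype fun d hd => ?_
    obtain ⟨d', hd', he⟩ := mem_cj ((mem_normalizer_iff.1 h1 _).1 (conj_mem_cj n hd))
    rw [show n * s * n⁻¹ * (n * d * n⁻¹) * (n * s * n⁻¹)⁻¹ = n * (s * d * s⁻¹) * n⁻¹ by group] at he
    exact (mul_left_cancel (mul_right_cancel he)) ▸ hd'
  · rw [hconj, h.v_sq, mul_one, mul_inv_cancel]
  · rw [hconj, h.z_sq, mul_one, mul_inv_cancel]
  · simpa [mul_assoc] using hback _ hc
  · have := h.moves _ (hNinv r hr) fun hD' => hrD (by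
      have := conj_mem_cj n hD'
      rwa [show n * (n⁻¹ * r * n) * n⁻¹ = r by group] at this)
    rw [hconj, ← this]; group
  · have := hcommback (h.fcomm _ (hback c hc) _ (hNinv r hr))
    rwa [show n * (n⁻¹ * c * n) * n⁻¹ = c by group] at this
  · obtain ⟨a, ha, rfl⟩ := mem_cj hd
    obtain ⟨c, hc, he⟩ := h.gen a ha
    refine ⟨n * c * n⁻¹, conj_fix hn hc, ?_⟩
    simp only [hconj]
    rcases he with e | e | e | e <;> rw [e]
    · exact Or.inl rfl
    · exact Or.inr (Or.inl rfl)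
    · exact Or.inr (Or.inr (Or.inl rfl))
    · exact Or.inr (Or.inr (Or.inr rfl))
  · obtain ⟨a, ha, rfl⟩ := mem_cj hd
    rw [hconj]
    exact conj_fix hn (h.sq_fix a ha)
  · obtain ⟨γ, hγ, he⟩ := h.fused
    exact ⟨n * γ * n⁻¹, conj_clo hn hγ, by rw [← he]; group⟩
  · obtain ⟨δ, hδ⟩ : ∃ δ, δ = n⁻¹ * γ * n := ⟨_, rfl⟩
    rw [show γ * (n * z * n⁻¹) * γ⁻¹ = n * (δ * z * δ⁻¹) * n⁻¹ by rw [hδ]; group, hconj]
    rcases h.perm δ (hδ ▸ hcback γ hγ) with e | e | e <;> rw [e]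
    · exact Or.inl rfl
    · exact Or.inr (Or.inl rfl)
    · exact Or.inr (Or.inr rfl)

end Star

/-- A swap with `q = 2` gives the distinguished involutions. -/
theorem Swap.exists_star {D : Subgroup G} {g : G} (h : Swap S D 2 g) : ∃ z v : G, Star S D z v := by
  obtain ⟨r0, hr0, hr0D⟩ := h.pair.hD.exists_normalizing
  change r0 ∈ nsyl S D at hr0
  obtain ⟨d1, hd1, hd1E⟩ := h.exists_off
  obtain ⟨z, hz⟩ : ∃ z, z = ⁅r0, d1⁆ := ⟨_, rfl⟩
  have hzZ : z ∈ D ⊓ cj D g := hz ▸ h.pair.comm_mem r0 hr0 d1 hd1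
  have hzD := (mem_inf.1 hzZ).1
  have hz2 : z * z = 1 := hz ▸ h.pair.comm_sq r0 hr0 d1 hd1
  have hzf : z ∉ fix S D := hz ▸ h.pair.comm_not r0 hr0 hr0D d1 hd1 hd1E
  have hcR : Nat.card (nsyl S D) = 2 * Nat.card D := h.pair.card_R
  have hcD : Nat.card D = 2 * Nat.card ↥(D ⊓ cj D g) := h.pair.card_D
  have hcZ : Nat.card ↥(D ⊓ cj D g) = 2 * Nat.card (fix S D) := h.pair.card_Z
  have hoff : ∀ d ∈ D, d ∉ cj D g → d ∉ D ⊓ cj D g := fun d _ hdE hd' => hdE (mem_inf.1 hd').2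
  have hdz : ∀ d ∈ D, d ∉ cj D g → ∀ r ∈ nsyl S D, r ∉ D → r * d * r⁻¹ = z * d := by
    intro d hd hdE r hr hrD
    have hm := mul_mem_of_card_two (A := D) h.left_le hcR (inv_mem hr)
      (fun hc => hrD (by simpa using inv_mem hc)) hr0 hr0D
    have hn := mul_mem_of_card_two (A := D ⊓ cj D g) inf_le_left hcD (inv_mem hd1)
      (fun hc => hoff d1 hd1 hd1E (by simpa using inv_mem hc)) hd (hoff d hd hdE)
    have hd' : d = d1 * (d1⁻¹ * d) := by group
    have hr' : r⁻¹ * r0 * d * (r⁻¹ * r0)⁻¹ = d := by rw [h.pair.hD.comm _ hm d hd, mul_inv_cancel_right]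
    have h0 : r0 * d * r0⁻¹ = z * d := by
      calc r0 * d * r0⁻¹ = r0 * d1 * ((d1⁻¹ * d) * r0⁻¹) := by group
        _ = r0 * d1 * (r0⁻¹ * (d1⁻¹ * d)) := by rw [h.pair.zcomm _ hn _ (inv_mem hr0)]
        _ = _ := by rw [hz, commutatorElement_def]; group
    calc r * d * r⁻¹ = r * (r⁻¹ * r0 * d * (r⁻¹ * r0)⁻¹) * r⁻¹ := by rw [hr']
      _ = r0 * d * r0⁻¹ := by group
      _ = _ := h0
  have hmid : ∀ w ∈ D ⊓ cj D g, w ∈ fix S D ∨ w * z ∈ fix S D := fun w hw => by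
    by_cases hwf : w ∈ fix S D
    · exact Or.inl hwf
    · exact Or.inr (mul_mem_of_card_two (A := fix S D) h.pair.fix_le hcZ hw hwf hzZ hzf)
  have hfixed : ∀ γ ∈ clo S D, ∀ c ∈ fix S D, γ * c * γ⁻¹ = c := fun γ hγ c hc => by
    rw [mem_centralizer_iff.1 hc.2 γ hγ, mul_inv_cancel_right]
  have horb : ∀ γ ∈ clo S D, γ * z * γ⁻¹ ∈ cj D g → γ * z * γ⁻¹ = z := by
    intro γ hγ hE
    have hyD : γ * z * γ⁻¹ ∈ D := (mem_normalizer_iff.1 (clo_le D hγ) z).1 hzD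
    rcases hmid _ (mem_inf.2 ⟨hyD, hE⟩) with hy | hy
    · have := hfixed γ⁻¹ (inv_mem hγ) _ hy
      rw [show γ⁻¹ * (γ * z * γ⁻¹) * γ⁻¹⁻¹ = z by group] at this
      exact absurd (this ▸ hy) hzf
    · refine h.pair.rigid γ hγ z hzZ ?_
      rwa [inv_eq_of_mul_eq_one_right hz2]
  obtain ⟨γ0, hγ0, hne⟩ : ∃ γ ∈ clo S D, γ * z * γ⁻¹ ≠ z := by
    by_contra hc
    push Not at hc
    exact hzf ⟨hzD, mem_centralizer_iff.2 fun γ hγ => mul_inv_eq_iff_eq_mul.1 (hc γ hγ)⟩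
  obtain ⟨v, hv⟩ : ∃ v, v = γ0 * z * γ0⁻¹ := ⟨_, rfl⟩
  have hvD : v ∈ D := hv ▸ (mem_normalizer_iff.1 (clo_le D hγ0) z).1 hzD
  have hvE : v ∉ cj D g := fun e => hne (horb γ0 hγ0 (hv ▸ e))
  have hv2 : v * v = 1 := by
    rw [hv, show γ0 * z * γ0⁻¹ * (γ0 * z * γ0⁻¹) = γ0 * (z * z) * γ0⁻¹ by group, hz2, mul_one, mul_inv_cancel]
  have hvi : v⁻¹ = v := inv_eq_of_mul_eq_one_right hv2
  have hzi : z⁻¹ = z := inv_eq_of_mul_eq_one_right hz2
  refine ⟨z, v, h.pair.hD, fun hle => h.not_le ?_, hvD, hv2, hzD, hz2, hzf,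
    fun r hr hrD => hdz v hvD hvE r hr hrD, fun r hr => h.pair.zcomm z hzZ r hr,
    fun c hc r hr => h.pair.zcomm c (h.pair.fix_le hc) r hr, fun d hd => ?_, h.pair.sq_fix,
    ⟨γ0, hγ0, hv.symm⟩, fun γ hγ => ?_⟩
  · intro x hx
    obtain ⟨a, ha, rfl⟩ := mem_cj hx
    exact (mem_normalizer_iff.1 (hle h.memS) a).1 ha
  · by_cases hdE : d ∈ cj D g
    · rcases hmid d (mem_inf.2 ⟨hd, hdE⟩) with hc | hc
      · exact ⟨d, hc, Or.inl rfl⟩
      · exact ⟨d * z, hc, Or.inr (Or.inl (by rw [mul_assoc, hz2, mul_one]))⟩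
    · rcases hmid (d * v) (mul_mem_of_card_two (A := D ⊓ cj D g) inf_le_left hcD hd (hoff d hd hdE) hvD
        (hoff v hvD hvE)) with hc | hc
      · exact ⟨d * v, hc, Or.inr (Or.inr (Or.inl (by rw [mul_assoc, hv2, mul_one])))⟩
      · refine ⟨d * v * z, hc, Or.inr (Or.inr (Or.inr ?_))⟩
        rw [show d * v * z * (z * v) = d * v * (z * z) * v by group, hz2, mul_one, mul_assoc, hv2, mul_one]
  · by_cases hyE : γ * z * γ⁻¹ ∈ cj D g
    · exact Or.inl (horb γ hγ hyE)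
    right
    obtain ⟨y, hy⟩ : ∃ y, y = γ * z * γ⁻¹ := ⟨_, rfl⟩
    rw [← hy] at hyE ⊢
    have hyD : y ∈ D := hy ▸ (mem_normalizer_iff.1 (clo_le D hγ) z).1 hzD
    have hyv := mul_mem_of_card_two (A := D ⊓ cj D g) inf_le_left hcD hyD (hoff y hyD hyE) hvD
      (hoff v hvD hvE)
    -- an element `δ` of `clo` with `δ z δ⁻¹ = y` or `z y`, and then `γ0⁻¹ δ` fixes `z`
    have key : ∀ δ ∈ clo S D, δ * z * δ⁻¹ * v ∈ fix S D → δ * z * δ⁻¹ = v := by
      intro δ hδ hf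
      have h1 := h.pair.rigid (γ0⁻¹ * δ) (mul_mem (inv_mem hγ0) hδ) z hzZ (by
        have := hfixed γ0⁻¹ (inv_mem hγ0) _ hf
        rw [show γ0⁻¹ * δ * z * (γ0⁻¹ * δ)⁻¹ * z⁻¹ = γ0⁻¹ * (δ * z * δ⁻¹ * (γ0 * z⁻¹ * γ0⁻¹)) * γ0⁻¹⁻¹ by group,
          hzi, ← hv, this]
        exact hf)
      rw [hv]
      calc δ * z * δ⁻¹ = γ0 * (γ0⁻¹ * δ * z * (γ0⁻¹ * δ)⁻¹) * γ0⁻¹ := by group
        _ = _ := by rw [h1]
    rcases hmid _ hyv with hc | hc
    · exact Or.inl (hy.trans (key γ hγ (hy ▸ hc)))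
    · have hr : r0 * y * r0⁻¹ = z * y := hdz y hyD hyE r0 hr0 hr0D
      have he : r0 * γ * z * (r0 * γ)⁻¹ = z * y := by rw [← hr, hy]; group
      have h1 := key (r0 * γ) (mul_mem (nsyl_le_clo D hr0) hγ) (by
        rw [he, mul_assoc, h.pair.hD.comm z hzD _ (mul_mem hyD hvD)]
        exact hc)
      rw [he] at h1
      exact Or.inr (by rw [← h1, ← mul_assoc, hz2, one_mul])

/-- Every non-normal essential subgroup has distinguished involutions. -/
theorem Ess.exists_star (hA : AbelianMeet G) (hperf : commutator G = ⊤) {D : Subgroup G} (hD : Ess S D)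
    (hnot : ¬ (S : Subgroup G) ≤ normalizer (D : Set G)) : ∃ z v : G, Star S D z v := by
  haveI : Fact (Nat.Prime 2) := ⟨Nat.prime_two⟩
  obtain ⟨q, g, hg⟩ := hD.exists_swap hA hnot
  have hq : q = 2 := by
    obtain ⟨i, hi⟩ := (S.isPGroup'.to_le (inf_le_left : nsyl S D ≤ _)).exists_card_eq
    have h1 := hg.pair.card_R
    replace h1 : 2 ^ i = q * Nat.card D := hi.symm.trans h1
    obtain ⟨j, -, hj⟩ := (Nat.dvd_prime_pow Nat.prime_two).1 (Dvd.intro _ h1.symm : q ∣ 2 ^ i)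
    have h2 := hg.two_le
    by_contra hne
    refine hg.not_big ?_ hA hperf
    rcases j with _ | _ | j
    · simp at hj; omega
    · simp at hj; omega
    · rw [hj]
      calc 4 = 2 ^ 2 := by norm_num
        _ ≤ _ := Nat.pow_le_pow_right two_pos (by omega)
  subst hq
  exact hg.exists_star

end Cfsg.Agent.Fus.AbInt
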